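import Mathlib
import Groth.Agent.S17014
import Groth.Agent.Lib.Helper31.QH4

/-!
# Adapted bases for semiregular quadratic forms of odd rank over a local ring with `2 ∈ 𝔪`
(helper20, requested by helper83 for S16999/S16996)
-/

set_option autoImplicit false
set_option linter.unusedSectionVars false
set_option linter.unusedVariables false
universe u v

namespace Groth.Agent.Lib.Helper20.AdaptedBasis

open Groth.Agent.S17014 Matrix QuadGrp TensorProduct Groth.Agent.Lib.Helper31.QH

section Ring

variable {R : Type u} [CommRing R] {M : Type v} [AddCommGroup M] [Module R M] {k : ℕ}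
  (b : Module.Basis (Fin (k + 1)) R M) (Q : QuadraticForm R M)

lemma polarMat_coeffs' (p q : Fin (k + 1)) :
    polarMat (coeffs b (LinearEquiv.refl R R) Q) p q = QuadraticMap.polar Q (b p) (b q) := by
  simp only [polarMat, Matrix.of_apply, coeffs_mk, LinearEquiv.refl_apply]
  by_cases h : p = q
  · subst h
    simp [QuadraticMap.polar_self, two_mul]
  · simp [h]

lemma polar_comp' (g : M →ₗ[R] M) (x y : M) :
    QuadraticMap.polar (Q.comp g) x y = QuadraticMap.polar Q (g x) (g y) := by
  simp [QuadraticMap.polar, QuadraticMap.comp_apply]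

/-- replace the `i₀`-th basis vector by `w` -/
noncomputable def swapMap' (i₀ : Fin (k + 1)) (w : M) : M →ₗ[R] M :=
  b.constr R (Function.update b i₀ w)

lemma swapMap'_self (i₀ : Fin (k + 1)) (w : M) : swapMap' b i₀ w (b i₀) = w := by
  simp [swapMap']

lemma swapMap'_of_ne (i₀ : Fin (k + 1)) (w : M) (j : Fin (k + 1)) (hj : j ≠ i₀) :
    swapMap' b i₀ w (b j) = b j := by
  simp [swapMap', Function.update_of_ne hj]

lemma det_swapMap' (i₀ : Fin (k + 1)) (w : M) :
    LinearMap.det (swapMap' b i₀ w) = b.repr w i₀ := by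
  classical
  rw [← LinearMap.det_toMatrix b]
  have : LinearMap.toMatrix b b (swapMap' b i₀ w)
      = (1 : Matrix (Fin (k + 1)) (Fin (k + 1)) R).updateCol i₀ (fun p => b.repr w p) := by
    ext p j
    rw [LinearMap.toMatrix_apply, Matrix.updateCol_apply]
    by_cases hj : j = i₀
    · subst hj
      rw [swapMap'_self, if_pos rfl]
    · rw [swapMap'_of_ne b i₀ w j hj, if_neg hj, Module.Basis.repr_self, Matrix.one_apply]
      by_cases hpj : p = j
      · subst hpj; simp
      · rw [if_neg hpj, Finsupp.single_eq_of_ne hpj]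
  rw [this, ← Matrix.cramer_apply, Matrix.cramer_one]
  rfl

end Ring

lemma polar_baseChange {R : Type u} [CommRing R] {M : Type v} [AddCommGroup M] [Module R M]
    [Module.Free R M] (A : Type*) [CommRing A] [Algebra R A] (Q : QuadraticForm R M) (x y : M) :
    QuadraticMap.polar (QuadGrp.baseChangeForm A Q) ((1 : A) ⊗ₜ[R] x) ((1 : A) ⊗ₜ[R] y) =
      algebraMap R A (QuadraticMap.polar Q x y) := by
  unfold QuadraticMap.polar
  rw [← TensorProduct.tmul_add, baseChangeForm_tmul, baseChangeForm_tmul, baseChangeForm_tmul]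
  simp

theorem exists_adapted_basis {R : Type u} [CommRing R] [IsLocalRing R]
    (h2 : (2 : R) ∈ IsLocalRing.maximalIdeal R) {M : Type v} [AddCommGroup M] [Module R M]
    [Module.Free R M] (m : ℕ) (b : Module.Basis (Fin (2 * m + 1)) R M) (Q : QuadraticForm R M)
    (hQ : QuadGrp.IsSemiregular b (LinearEquiv.refl R R) Q) :
    ∃ (b' : Module.Basis (Fin (2 * m + 1)) R M) (i₀ : Fin (2 * m + 1)),
      (∀ j, j ≠ i₀ → QuadraticMap.polar Q (b' i₀) (b' j) = 0) ∧ IsUnit (Q (b' i₀)) ∧
      IsUnit (Matrix.det (Matrix.of fun p q : Fin (2 * m) =>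
        QuadraticMap.polar Q (b' (i₀.succAbove p)) (b' (i₀.succAbove q)))) := by
  classical
  have hk : Odd (2 * m + 1) := ⟨m, rfl⟩
  have h2K : (2 : IsLocalRing.ResidueField R) = 0 := by
    have h : IsLocalRing.residue R 2 = 0 := (IsLocalRing.residue_eq_zero_iff _).2 h2
    rw [map_ofNat] at h
    exact h
  set bK := b.baseChange (IsLocalRing.ResidueField R) with hbK
  set QK := QuadGrp.baseChangeForm (IsLocalRing.ResidueField R) Q with hQK
  -- (1) the half-discriminant over the residue field is nonzero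
  have hhd : hd (coeffs bK (LinearEquiv.refl _ _) QK) ≠ 0 := by
    have h := halfDisc_baseChange (IsLocalRing.ResidueField R) b Q
    show QuadGrp.halfDisc bK (LinearEquiv.refl _ _) QK ≠ 0
    rw [hbK, hQK, h]
    have hu : IsUnit (QuadGrp.halfDisc b (LinearEquiv.refl R R) Q) := hQ
    exact (hu.map (algebraMap R (IsLocalRing.ResidueField R))).ne_zero
  -- (2) a kernel vector
  have hdet : (polarMat (coeffs bK (LinearEquiv.refl _ _) QK)).det = 0 := by
    rw [← two_mul_hd hk, h2K, zero_mul]
  obtain ⟨x, hx, hMx⟩ := Matrix.exists_mulVec_eq_zero_iff.mpr hdet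
  set v₀ : IsLocalRing.ResidueField R ⊗[R] M := ∑ j, x j • bK j with hv₀def
  have hker : v₀ ∈ LinearMap.ker (QuadraticMap.polarBilin QK) := (mem_ker_iff bK QK x).mpr hMx
  have hrepr : (bK.repr v₀ : Fin (2 * m + 1) → IsLocalRing.ResidueField R) = x :=
    bK.repr_sum_self x
  have hv₀ : v₀ ≠ 0 := by
    intro h
    apply hx
    rw [← hrepr, h, map_zero]
    rfl
  obtain ⟨-, hle⟩ := (hd_ne_zero_iff_of_mem_ker bK QK hk v₀ hv₀ hker).mp hhd
  obtain ⟨i₀, hi₀⟩ : ∃ i₀, x i₀ ≠ 0 := by
    by_contra h
    push Not at h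
    exact hx (funext h)
  -- (4) the minor at `i₀` is nondegenerate over the residue field
  have hminorK : (minorAt bK QK i₀).det ≠ 0 := by
    set g := swapMap bK i₀ v₀ with hg
    have hdetg : LinearMap.det g ≠ 0 := by
      rw [hg, det_swapMap]
      have : bK.repr v₀ i₀ = x i₀ := congrFun hrepr i₀
      rw [this]; exact hi₀
    have hunit : IsUnit (LinearMap.toMatrix bK bK g).det := by
      rw [LinearMap.det_toMatrix]; exact isUnit_iff_ne_zero.mpr hdetg
    set e := LinearEquiv.ofIsUnitDet hunit with he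
    have heg : ∀ v, e v = g v := fun v => by rw [he, LinearEquiv.ofIsUnitDet_apply]
    set bK' := bK.map e with hbK'
    have hbK'i₀ : bK' i₀ = v₀ := by
      rw [hbK', Module.Basis.map_apply, heg, hg, swapMap_self]
    have hbK'ne : ∀ j, j ≠ i₀ → bK' j = bK j := fun j hj => by
      rw [hbK', Module.Basis.map_apply, heg, hg, swapMap_of_ne _ _ _ _ hj]
    have hminor' : (minorAt bK' QK i₀).det ≠ 0 :=
      minor_det_ne_zero_of_ker_le bK' QK i₀ (by rw [hbK'i₀]; exact hker)
        (by rw [hbK'i₀]; exact hle)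
    have : minorAt bK' QK i₀ = minorAt bK QK i₀ := by
      ext p q
      simp only [minorAt, Matrix.of_apply]
      rw [hbK'ne _ (Fin.succAbove_ne i₀ p), hbK'ne _ (Fin.succAbove_ne i₀ q)]
    rwa [this] at hminor'
  -- (5) the minor over `R` is invertible
  set G : Matrix (Fin (2 * m)) (Fin (2 * m)) R :=
    Matrix.of fun p q => QuadraticMap.polar Q (b (i₀.succAbove p)) (b (i₀.succAbove q)) with hG
  have hGmap : (algebraMap R (IsLocalRing.ResidueField R)).mapMatrix G = minorAt bK QK i₀ := by
    ext p q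
    simp only [RingHom.mapMatrix_apply, Matrix.map_apply, hG, Matrix.of_apply, minorAt, hbK,
      Module.Basis.baseChange_apply]
    rw [hQK, polar_baseChange]
  have hGunit : IsUnit G.det := by
    rw [← IsLocalRing.residue_ne_zero_iff_isUnit]
    have h : algebraMap R (IsLocalRing.ResidueField R) G.det ≠ 0 := by
      rw [RingHom.map_det, hGmap]; exact hminorK
    exact h
  -- (6) the adapted vector
  set c : Fin (2 * m) → R := fun p => QuadraticMap.polar Q (b i₀) (b (i₀.succAbove p)) with hc
  set α : Fin (2 * m) → R := G⁻¹ *ᵥ c with hα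
  have hGα : G *ᵥ α = c := by
    rw [hα, Matrix.mulVec_mulVec, Matrix.mul_nonsing_inv G hGunit, Matrix.one_mulVec]
  set w : M := b i₀ - ∑ p, α p • b (i₀.succAbove p) with hw
  have hworth : ∀ q, QuadraticMap.polar Q w (b (i₀.succAbove q)) = 0 := by
    intro q
    rw [hw, QuadraticMap.polar_sub_left, ← QuadraticMap.polarBilin_apply_apply Q (∑ p, _),
      map_sum, LinearMap.sum_apply]
    simp only [map_smul, LinearMap.smul_apply, QuadraticMap.polarBilin_apply_apply, smul_eq_mul]
    have h1 := congrFun hGα q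
    simp only [Matrix.mulVec, dotProduct, hG, Matrix.of_apply] at h1
    have h3 : ∑ p, α p * QuadraticMap.polar Q (b (i₀.succAbove p)) (b (i₀.succAbove q)) = c q := by
      rw [← h1]
      refine Finset.sum_congr rfl fun p _ => ?_
      rw [QuadraticMap.polar_comm, mul_comm]
    rw [h3, hc, sub_self]
  -- (7) the new basis
  set g := swapMap' b i₀ w with hg
  have hrw : b.repr w i₀ = 1 := by
    rw [hw, map_sub, map_sum]
    simp only [map_smul, Module.Basis.repr_self, Finsupp.coe_sub, Finsupp.coe_finsetSum,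
      Finsupp.coe_smul, Pi.sub_apply, Finset.sum_apply, Pi.smul_apply, smul_eq_mul,
      Finsupp.single_eq_same]
    have : ∑ p, α p * (Finsupp.single (i₀.succAbove p) (1 : R)) i₀ = 0 := by
      refine Finset.sum_eq_zero fun p _ => ?_
      rw [Finsupp.single_eq_of_ne (Fin.succAbove_ne i₀ p).symm, mul_zero]
    rw [this, sub_zero]
  have hdetg : LinearMap.det g = 1 := by rw [hg, det_swapMap', hrw]
  have hunit : IsUnit (LinearMap.toMatrix b b g).det := by
    rw [LinearMap.det_toMatrix, hdetg]; exact isUnit_one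
  set e := LinearEquiv.ofIsUnitDet hunit with he
  have heg : ∀ v, e v = g v := fun v => by rw [he, LinearEquiv.ofIsUnitDet_apply]
  set b' := b.map e with hb'
  have hb'g : ∀ j, b' j = g (b j) := fun j => by rw [hb', Module.Basis.map_apply, heg]
  have hb'i₀ : b' i₀ = w := by rw [hb'g, hg, swapMap'_self]
  have hb'ne : ∀ j, j ≠ i₀ → b' j = b j := fun j hj => by
    rw [hb'g, hg, swapMap'_of_ne _ _ _ _ hj]
  have hiso : ∀ j, j ≠ i₀ → QuadraticMap.polar Q (b' i₀) (b' j) = 0 := by
    intro j hj
    rcases Fin.eq_self_or_eq_succAbove i₀ j with rfl | ⟨q, rfl⟩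
    · exact absurd rfl hj
    · rw [hb'i₀, hb'ne _ hj]; exact hworth q
  -- (8) units via the half-discriminant
  have hcoef : coeffs b' (LinearEquiv.refl R R) Q = coeffs b (LinearEquiv.refl R R) (Q.comp g) := by
    funext s
    induction s using Sym2.ind with
    | _ i j =>
      rw [coeffs_mk, coeffs_mk, hb'g, hb'g, polar_comp', QuadraticMap.comp_apply]
  have hhd' : hd (coeffs b' (LinearEquiv.refl R R) Q) = hd (coeffs b (LinearEquiv.refl R R) Q) := by
    rw [hcoef]
    have h := Groth.Agent.S17014.main m b Q g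
    rw [hdetg, one_pow, one_mul] at h
    exact h
  have hform := hd_of_row_zero hk (coeffs b' (LinearEquiv.refl R R) Q) i₀ (by
    intro j hj
    rw [coeffs_mk, if_neg (Ne.symm hj)]
    exact hiso j hj)
  have huprod : IsUnit (coeffs b' (LinearEquiv.refl R R) Q s(i₀, i₀) *
      ((polarMat (coeffs b' (LinearEquiv.refl R R) Q)).submatrix i₀.succAbove i₀.succAbove).det) := by
    rw [← hform, hhd']
    exact hQ
  refine ⟨b', i₀, hiso, ?_, ?_⟩
  · have h := isUnit_of_mul_isUnit_left huprod
    rw [coeffs_mk, if_pos rfl] at h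
    exact h
  · have h := isUnit_of_mul_isUnit_right huprod
    have hmat : (polarMat (coeffs b' (LinearEquiv.refl R R) Q)).submatrix i₀.succAbove i₀.succAbove =
        Matrix.of fun p q : Fin (2 * m) =>
          QuadraticMap.polar Q (b' (i₀.succAbove p)) (b' (i₀.succAbove q)) := by
      ext p q
      simp only [Matrix.submatrix_apply, Matrix.of_apply, polarMat_coeffs']
    rw [hmat] at h
    exact h

end Groth.Agent.Lib.Helper20.AdaptedBasis
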