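import Mathlib

/-!
# Core of the approximation of maps between adic completions (glue, Mathlib only)
-/

set_option autoImplicit false

universe u

open TensorProduct

namespace Groth.Agent.Lib.Helper20.ApproxCpl

variable {A : Type u} [CommRing A] (I : Ideal A) {B C : Type u} [CommRing B] [Algebra A B]
  [CommRing C] [Algebra A C]

instance instTowerCpl : IsScalarTower A C (AdicCompletion (I.map (algebraMap A C)) C) :=
  IsScalarTower.of_algebraMap_eq (fun _ => rfl)

/-- `B → B^ → C^` as an `A`-algebra map. -/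
noncomputable def phi0
    (φ : (AdicCompletion (I.map (algebraMap A B)) B) →ₐ[A] (AdicCompletion (I.map (algebraMap A C)) C)) :
    B →ₐ[A] AdicCompletion (I.map (algebraMap A C)) C :=
  { toRingHom := φ.toRingHom.comp (algebraMap B (AdicCompletion (I.map (algebraMap A B)) B))
    commutes' := fun a => by
      have h1 : algebraMap B (AdicCompletion (I.map (algebraMap A B)) B) (algebraMap A B a) =
          algebraMap A (AdicCompletion (I.map (algebraMap A B)) B) a := rfl
      show φ (algebraMap B (AdicCompletion (I.map (algebraMap A B)) B) (algebraMap A B a)) = _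
      rw [h1, φ.commutes] }

theorem phi0_apply
    (φ : (AdicCompletion (I.map (algebraMap A B)) B) →ₐ[A] (AdicCompletion (I.map (algebraMap A C)) C))
    (b : B) : phi0 I φ b = φ (AdicCompletion.of (I.map (algebraMap A B)) B b) := rfl

/-- The `C`-algebra map `C ⊗[A] B → C^`. -/
noncomputable def mu
    (φ : (AdicCompletion (I.map (algebraMap A B)) B) →ₐ[A] (AdicCompletion (I.map (algebraMap A C)) C)) :
    C ⊗[A] B →ₐ[C] AdicCompletion (I.map (algebraMap A C)) C :=
  Algebra.TensorProduct.lift (Algebra.ofId C (AdicCompletion (I.map (algebraMap A C)) C))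
    (phi0 I φ) (fun _ _ => Commute.all _ _)

theorem mu_one_tmul
    (φ : (AdicCompletion (I.map (algebraMap A B)) B) →ₐ[A] (AdicCompletion (I.map (algebraMap A C)) C))
    (b : B) : mu I φ (1 ⊗ₜ b) = φ (AdicCompletion.of (I.map (algebraMap A B)) B b) := by
  simp [mu, phi0_apply]

theorem evalₐ_eq_mk_of_eval_eq {R : Type u} [CommRing R] (J : Ideal R) (n : ℕ)
    (y : AdicCompletion J R) (c : R)
    (h : AdicCompletion.eval J R n y = Submodule.Quotient.mk c) :
    AdicCompletion.evalₐ J n y = Ideal.Quotient.mk (J ^ n) c := by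
  have hle : (J ^ n • ⊤ : Ideal R) ≤ J ^ n := by
    intro x hx
    simpa using hx
  rw [← AdicCompletion.factor_eval_eq_evalₐ J y hle, h]
  rfl

theorem core_gen {C : Type u} [CommRing C] (J : Ideal C) (N : ℕ) (hN : 1 ≤ N)
    (C' : Type u) [CommRing C'] [Algebra C C'] (ψ' : C' →ₐ[C] C ⧸ J ^ N)
    (hker : RingHom.ker ψ'.toRingHom = (J ^ N).map (algebraMap C C')) :
    ((∀ c' : C', ∃ c : C, algebraMap C C' c - c' ∈ J.map (algebraMap C C')) ∧
      ∀ c : C, algebraMap C C' c ∈ J.map (algebraMap C C') → c ∈ J) ∧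
    ∀ (x : C') (y : AdicCompletion J C), ψ' x = AdicCompletion.evalₐ J N y →
      ∃ c : C, x - algebraMap C C' c ∈ (J.map (algebraMap C C')) ^ N ∧
        AdicCompletion.eval J C N y = Submodule.Quotient.mk c := by
  have hpow : (J.map (algebraMap C C')) ^ N = (J ^ N).map (algebraMap C C') := by
    rw [Ideal.map_pow]
  have hN0 : N ≠ 0 := by omega
  have hJN : J ^ N ≤ J := Ideal.pow_le_self hN0
  have hψ'alg : ∀ c : C, ψ' (algebraMap C C' c) = Ideal.Quotient.mk (J ^ N) c := fun c => by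
    rw [ψ'.commutes]; rfl
  have hmemker : ∀ x : C', ψ' x = 0 → x ∈ (J ^ N).map (algebraMap C C') := fun x hx => by
    rw [← hker]; exact (RingHom.mem_ker).2 hx
  refine ⟨⟨?_, ?_⟩, ?_⟩
  · intro c'
    obtain ⟨c, hc⟩ := Ideal.Quotient.mk_surjective (ψ' c')
    refine ⟨c, ?_⟩
    refine Ideal.map_mono hJN (hmemker _ ?_)
    rw [map_sub, hψ'alg, hc, sub_self]
  · intro c hc
    have h1 : ψ' (algebraMap C C' c) ∈ (J.map (algebraMap C C')).map ψ'.toRingHom :=
      Ideal.mem_map_of_mem _ hc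
    rw [Ideal.map_map] at h1
    have h2 : ψ'.toRingHom.comp (algebraMap C C') = Ideal.Quotient.mk (J ^ N) := by
      ext x; exact hψ'alg x
    rw [h2, hψ'alg] at h1
    obtain ⟨j, hj, hjc⟩ := (Ideal.mem_map_iff_of_surjective _ Ideal.Quotient.mk_surjective).1 h1
    have h3 : j - c ∈ J ^ N := Ideal.Quotient.eq.1 hjc
    have h4 : c = j - (j - c) := by ring
    rw [h4]
    exact J.sub_mem hj (hJN h3)
  · intro x y hxy
    obtain ⟨c, hc⟩ := Submodule.Quotient.mk_surjective _ (AdicCompletion.eval J C N y)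
    refine ⟨c, ?_, hc.symm⟩
    rw [hpow]
    refine hmemker _ ?_
    rw [map_sub, hψ'alg, hxy, evalₐ_eq_mk_of_eval_eq J N y c hc.symm, sub_self]

theorem core
    (φ : (AdicCompletion (I.map (algebraMap A B)) B) →ₐ[A] (AdicCompletion (I.map (algebraMap A C)) C))
    (N : ℕ) (hN : 1 ≤ N)
    (E : Type u) [CommRing E] [Algebra C E] (g : C ⊗[A] B →ₐ[C] E)
    (h : E →ₐ[C] AdicCompletion (I.map (algebraMap A C)) C) (hgh : h.comp g = mu I φ)
    (C' : Type u) [CommRing C'] [Algebra C C'] [Algebra A C'] [IsScalarTower A C C']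
    (ψ' : C' →ₐ[C] C ⧸ (I.map (algebraMap A C)) ^ N) (τ : E →ₐ[C] C')
    (hker : RingHom.ker ψ'.toRingHom = ((I.map (algebraMap A C)) ^ N).map (algebraMap C C'))
    (hτ : ψ'.comp τ = (AdicCompletion.evalₐ (I.map (algebraMap A C)) N).comp h) :
    ∃ ψ : B →ₐ[A] C',
      ((∀ c' : C', ∃ c : C, algebraMap C C' c - c' ∈ I.map (algebraMap A C')) ∧
        ∀ c : C, algebraMap C C' c ∈ I.map (algebraMap A C') → c ∈ I.map (algebraMap A C)) ∧
      ∀ b : B, ∃ c : C, ψ b - algebraMap C C' c ∈ (I.map (algebraMap A C')) ^ N ∧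
        AdicCompletion.eval (I.map (algebraMap A C)) C N
          (φ (AdicCompletion.of (I.map (algebraMap A B)) B b)) = Submodule.Quotient.mk c := by
  have hIJ : I.map (algebraMap A C') = (I.map (algebraMap A C)).map (algebraMap C C') := by
    rw [Ideal.map_map, ← IsScalarTower.algebraMap_eq]
  obtain ⟨h12, h3⟩ := core_gen (I.map (algebraMap A C)) N hN C' ψ' hker
  rw [hIJ]
  refine ⟨((τ.comp g).restrictScalars A).comp
    (Algebra.TensorProduct.includeRight : B →ₐ[A] C ⊗[A] B), h12, ?_⟩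
  intro b
  refine h3 _ (φ (AdicCompletion.of (I.map (algebraMap A B)) B b)) ?_
  show ψ' (τ (g ((1 : C) ⊗ₜ[A] b))) = _
  have h5 := DFunLike.congr_fun hτ (g ((1 : C) ⊗ₜ[A] b))
  simp only [AlgHom.comp_apply] at h5
  rw [h5]
  have h6 := DFunLike.congr_fun hgh ((1 : C) ⊗ₜ[A] b)
  simp only [AlgHom.comp_apply] at h6
  rw [h6, mu_one_tmul]

end Groth.Agent.Lib.Helper20.ApproxCpl
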