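import Groth.Agent.Lib.Helper20.UnivHomeoChain

/-!
# Existence of the absolute weak normalization of a ring
-/

set_option autoImplicit false
universe u

namespace Groth.Agent.Lib.Helper20.UnivHomeo

open AlgebraicGeometry CategoryTheory Limits TensorProduct

section AWN

variable {A : Type u} [CommRing A]

theorem eq_of_isRadicial_of_isReduced {C T : Type*} [CommRing C] [CommRing T] [Algebra A C]
    [Algebra A T] [IsReduced T] (hrad : ∀ c : C, IsNilpotent (c ⊗ₜ[A] (1 : C) - (1 : C) ⊗ₜ[A] c))
    (u v : C →ₐ[A] T) : u = v := by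
  ext c
  have := (hrad c).map (Algebra.TensorProduct.productMap u v)
  simp only [map_sub, Algebra.TensorProduct.productMap_apply_tmul, map_one, mul_one, one_mul] at this
  exact sub_eq_zero.mp this.eq_zero

variable (A) in
/-- the product of the algebraic closures of all residue fields -/
abbrev BigProd : Type u := (𝔭 : PrimeSpectrum A) → AlgebraicClosure 𝔭.asIdeal.ResidueField

theorem ker_nil_bigProd : ∀ a : A, algebraMap A (BigProd A) a = 0 → IsNilpotent a := by
  intro a ha
  apply isNilpotent_of_forall_prime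
  intro 𝔭 h𝔭
  have h1 : algebraMap A (AlgebraicClosure (⟨𝔭, h𝔭⟩ : PrimeSpectrum A).asIdeal.ResidueField) a = 0 :=
    congrFun ha ⟨𝔭, h𝔭⟩
  rw [IsScalarTower.algebraMap_apply A 𝔭.ResidueField (AlgebraicClosure 𝔭.ResidueField),
    map_eq_zero, Ideal.algebraMap_residueField_eq_zero] at h1
  exact h1

/-- for a universally homeomorphic `A`-algebra `C`, an `A`-algebra map to each algebraic closure of a
residue field of `A` -/
theorem exists_algHom_algebraicClosure {C : Type u} [CommRing C] [Algebra A C] (hC : UH A C)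
    (𝔭 : PrimeSpectrum A) : Nonempty (C →ₐ[A] AlgebraicClosure 𝔭.asIdeal.ResidueField) := by
  obtain ⟨⟨𝔮, h𝔮⟩, h𝔮𝔭⟩ := hC.comap_surjective 𝔭
  have h : 𝔭.asIdeal = 𝔮.comap (algebraMap A C) := (congrArg PrimeSpectrum.asIdeal h𝔮𝔭).symm
  have hpi := (universallyInjective_SpecMap_iff_ring.mp hC.universallyInjective).2 𝔮 𝔭.asIdeal h
  let f := Ideal.ResidueField.map 𝔭.asIdeal 𝔮 (algebraMap A C) h
  letI := f.toAlgebra
  have hpi' : IsPurelyInseparable 𝔭.asIdeal.ResidueField 𝔮.ResidueField := hpi
  have : Algebra.IsAlgebraic 𝔭.asIdeal.ResidueField 𝔮.ResidueField :=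
    Algebra.IsIntegral.isAlgebraic
  let σ : 𝔮.ResidueField →ₐ[𝔭.asIdeal.ResidueField] AlgebraicClosure 𝔭.asIdeal.ResidueField :=
    IsAlgClosed.lift
  refine ⟨{ toRingHom := σ.toRingHom.comp (algebraMap C 𝔮.ResidueField), commutes' := ?_ }⟩
  intro a
  change σ (algebraMap C 𝔮.ResidueField (algebraMap A C a)) = _
  rw [← Ideal.ResidueField.map_algebraMap 𝔭.asIdeal 𝔮 (algebraMap A C) h]
  change σ (algebraMap 𝔭.asIdeal.ResidueField 𝔮.ResidueField _) = _
  rw [AlgHom.commutes, ← IsScalarTower.algebraMap_apply]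

variable (A) in
/-- the absolute weak normalization, as a subalgebra of `BigProd A` -/
noncomputable abbrev Awn : Subalgebra A (BigProd A) := W2 A (BigProd A)

theorem uh_awn : UH A (Awn A) := uh_W2 ker_nil_bigProd

theorem awn_existsUnique {C : Type u} [CommRing C] [Algebra A C] (hC : UH A C) :
    ∃! χ : C →+* Awn A, χ.comp (algebraMap A C) = algebraMap A (Awn A) := by
  let g' := fun 𝔭 => (exists_algHom_algebraicClosure hC 𝔭).some
  let g : C →ₐ[A] BigProd A := AlgHom.pi g'
  have hg : ∀ c, g c ∈ Awn A := fun c => range_le_W2 hC g ⟨c, rfl⟩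
  let χ : C →ₐ[A] Awn A := g.codRestrict (Awn A) hg
  refine ⟨χ.toRingHom, ?_, ?_⟩
  · exact RingHom.ext fun a => χ.commutes a
  · intro χ' hχ'
    let χ'' : C →ₐ[A] Awn A := { toRingHom := χ', commutes' := fun a => congrFun (congrArg DFunLike.coe hχ') a }
    have h1 := eq_of_isRadicial_of_isReduced (A := A) hC.radicial
      ((Awn A).val.comp χ'') ((Awn A).val.comp χ)
    refine RingHom.ext fun c => Subtype.ext ?_
    have h2 := congrArg (fun f => f c) h1
    exact h2

end AWN

section Trans

variable {A B C : Type u} [CommRing A] [CommRing B] [CommRing C] [Algebra A B] [Algebra B C]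
  [Algebra A C] [IsScalarTower A B C]

theorem UH.trans (h₁ : UH A B) (h₂ : UH B C) : UH A C := by
  rw [← isUnivHomeo_iff] at h₁ h₂ ⊢
  have e : Spec.map (CommRingCat.ofHom (algebraMap A C)) =
      Spec.map (CommRingCat.ofHom (algebraMap B C)) ≫ Spec.map (CommRingCat.ofHom (algebraMap A B)) := by
    rw [← Spec.map_comp, ← CommRingCat.ofHom_comp, ← IsScalarTower.algebraMap_eq]
  rw [e]
  have : (topologically (fun {α β} [TopologicalSpace α] [TopologicalSpace β] (f : α → β) =>
      IsHomeomorph f)).IsStableUnderComposition := by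
    refine ⟨fun f g hf hg => ?_⟩
    have hf' : IsHomeomorph f := hf
    have hg' : IsHomeomorph g := hg
    exact hg'.comp hf'
  exact MorphismProperty.comp_mem (MorphismProperty.universally _) _ _ h₂ h₁

theorem UH.cancel (h₁ : UH A B) (h₂ : UH A C) : UH B C := by
  have hI := h₂.integral
  refine ⟨Algebra.IsIntegral.tower_top (R := A), ?_, ?_⟩
  · -- kernel nil via surjectivity of Spec C → Spec B
    intro b hb
    apply isNilpotent_of_forall_prime
    intro 𝔮 h𝔮
    obtain ⟨𝔯, h𝔯⟩ := h₂.comap_surjective (PrimeSpectrum.comap (algebraMap A B) ⟨𝔮, h𝔮⟩)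
    have h3 : PrimeSpectrum.comap (algebraMap A B) (PrimeSpectrum.comap (algebraMap B C) 𝔯) =
        PrimeSpectrum.comap (algebraMap A B) ⟨𝔮, h𝔮⟩ := by
      rw [← h𝔯]
      apply PrimeSpectrum.ext
      change (𝔯.asIdeal.comap (algebraMap B C)).comap (algebraMap A B) = 𝔯.asIdeal.comap (algebraMap A C)
      rw [Ideal.comap_comap, ← IsScalarTower.algebraMap_eq]
    have h4 := h₁.comap_injective h3
    have h5 : b ∈ (PrimeSpectrum.comap (algebraMap B C) 𝔯).asIdeal := by
      change algebraMap B C b ∈ 𝔯.asIdeal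
      rw [hb]; exact zero_mem _
    rw [h4] at h5
    exact h5
  · intro c
    let f : C →ₐ[A] C ⊗[B] C :=
      (Algebra.TensorProduct.includeLeft : C →ₐ[B] C ⊗[B] C).restrictScalars A
    let g : C →ₐ[A] C ⊗[B] C :=
      (Algebra.TensorProduct.includeRight : C →ₐ[B] C ⊗[B] C).restrictScalars A
    have := (h₂.radicial c).map (Algebra.TensorProduct.productMap f g)
    simpa [f, g] using this

end Trans

section Surj

variable {A B : Type u} [CommRing A] [CommRing B] [Algebra A B]

theorem uh_of_surjective (hs : Function.Surjective (algebraMap A B))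
    (hker : ∀ a : A, algebraMap A B a = 0 → IsNilpotent a) : UH A B := by
  refine ⟨⟨fun b => ?_⟩, hker, fun b => ?_⟩
  · obtain ⟨a, rfl⟩ := hs b
    exact isIntegral_algebraMap
  · obtain ⟨a, rfl⟩ := hs b
    have : (algebraMap A B a) ⊗ₜ[A] (1 : B) = (1 : B) ⊗ₜ[A] (algebraMap A B a) := by
      rw [Algebra.algebraMap_eq_smul_one, TensorProduct.smul_tmul]
    rw [this, sub_self]
    exact IsNilpotent.zero

end Surj

end Groth.Agent.Lib.Helper20.UnivHomeo
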