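import Mathlib
import Groth.Prelude.Def_Flat
import Groth.Agent.Lib.Helper55.SpecResidue

/-!
# Universal homeomorphisms of affine schemes: ring-level characterisations

`IsRadicial A B`: every `b ⊗ 1 - 1 ⊗ b` is nilpotent in `B ⊗[A] B`.
`UH A B`: integral + kernel nil + radicial; equivalent to `Spec B ⟶ Spec A` being a universal
homeomorphism (`isUnivHomeo_iff`).
-/

set_option autoImplicit false
universe u

namespace Groth.Agent.Lib.Helper20.UnivHomeo

open AlgebraicGeometry CategoryTheory Limits TensorProduct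

section Basic

variable (A B : Type u) [CommRing A] [CommRing B] [Algebra A B]

/-- every `b ⊗ 1 - 1 ⊗ b` is nilpotent in `B ⊗[A] B` -/
def IsRadicial : Prop := ∀ b : B, IsNilpotent (b ⊗ₜ[A] (1 : B) - (1 : B) ⊗ₜ[A] b)

theorem isRadicial_iff_ker_le :
    IsRadicial A B ↔ KaehlerDifferential.ideal A B ≤ nilradical (B ⊗[A] B) := by
  rw [← KaehlerDifferential.span_range_eq_ideal, Ideal.span_le]
  constructor
  · rintro h _ ⟨s, rfl⟩
    have h1 := h s
    have h2 : -(s ⊗ₜ[A] (1 : B) - (1 : B) ⊗ₜ[A] s) ∈ nilradical (B ⊗[A] B) :=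
      neg_mem (mem_nilradical.mpr h1)
    rw [neg_sub] at h2
    exact h2
  · intro h b
    have h1 : (1 : B) ⊗ₜ[A] b - b ⊗ₜ[A] (1 : B) ∈ nilradical (B ⊗[A] B) := h ⟨b, rfl⟩
    have h2 : -((1 : B) ⊗ₜ[A] b - b ⊗ₜ[A] (1 : B)) ∈ nilradical (B ⊗[A] B) := neg_mem h1
    rw [neg_sub] at h2
    exact mem_nilradical.mp h2

end Basic

section Scheme

variable (A B : Type u) [CommRing A] [CommRing B] [Algebra A B]

theorem diagonal_eq :
    pullback.diagonal (Spec.map (CommRingCat.ofHom (algebraMap A B))) =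
      Spec.map (CommRingCat.ofHom (Algebra.TensorProduct.lmul' (S := B) A).toRingHom) ≫
        (pullbackSpecIso A B B).inv := by
  apply pullback.hom_ext
  · rw [pullback.diagonal_fst, Category.assoc, pullbackSpecIso_inv_fst, ← Spec.map_comp,
      ← Spec.map_id]
    congr 1
    ext b
    simp
  · rw [pullback.diagonal_snd, Category.assoc, pullbackSpecIso_inv_snd, ← Spec.map_comp,
      ← Spec.map_id]
    congr 1
    ext b
    simp

theorem surjective_SpecMap_iff_of_surjective {R S : Type u} [CommRing R] [CommRing S]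
    (ψ : R →+* S) (hψ : Function.Surjective ψ) :
    Surjective (Spec.map (CommRingCat.ofHom ψ)) ↔ RingHom.ker ψ ≤ nilradical R := by
  rw [surjective_iff]
  change Function.Surjective (PrimeSpectrum.comap ψ) ↔ _
  rw [← Set.range_eq_univ, _root_.range_comap_of_surjective _ _ hψ,
    PrimeSpectrum.zeroLocus_eq_univ_iff]
  rfl

theorem universallyInjective_SpecMap_iff :
    UniversallyInjective (Spec.map (CommRingCat.ofHom (algebraMap A B))) ↔ IsRadicial A B := by
  rw [UniversallyInjective.iff_diagonal, diagonal_eq, isRadicial_iff_ker_le]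
  have h1 : Surjective (Spec.map (CommRingCat.ofHom
      (Algebra.TensorProduct.lmul' (S := B) A).toRingHom) ≫ (pullbackSpecIso A B B).inv) ↔
      Surjective (Spec.map (CommRingCat.ofHom
      (Algebra.TensorProduct.lmul' (S := B) A).toRingHom)) :=
    MorphismProperty.cancel_right_of_respectsIso @Surjective _ _
  rw [h1, surjective_SpecMap_iff_of_surjective]
  · rfl
  · intro b
    exact ⟨b ⊗ₜ 1, by simp⟩

/-- ring-level package equivalent to `Spec B ⟶ Spec A` being a universal homeomorphism -/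
structure UH : Prop where
  integral : Algebra.IsIntegral A B
  ker_nil : ∀ a : A, algebraMap A B a = 0 → IsNilpotent a
  radicial : IsRadicial A B

theorem isUnivHomeo_iff_scheme {X Y : Scheme.{u}} (f : X ⟶ Y) :
    FlatMor.IsUnivHomeo f ↔ IsIntegralHom f ∧ UniversallyInjective f ∧ Surjective f := by
  constructor
  · intro h
    have hf : IsHomeomorph f := h (𝟙 _) (𝟙 _) f IsPullback.of_id_snd
    have haff : IsAffineHom f := by
      apply isAffineHom_of_isInducing f hf.isInducing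
      rw [hf.surjective.range_eq]
      exact isClosed_univ
    have hcl : UniversallyClosed f := ⟨fun X' Y' i₁ i₂ f' hpb => (h i₁ i₂ f' hpb).isClosedMap⟩
    have hinj : UniversallyInjective f := ⟨fun X' Y' i₁ i₂ f' hpb => (h i₁ i₂ f' hpb).injective⟩
    exact ⟨IsIntegralHom.iff_universallyClosed_and_isAffineHom.mpr ⟨hcl, haff⟩, hinj, ⟨hf.surjective⟩⟩
  · rintro ⟨hint, hinj, hsurj⟩
    intro X' Y' i₁ i₂ f' hpb
    have h1 : IsClosedMap f' := (inferInstance : UniversallyClosed f).universally_isClosedMap i₁ i₂ f' hpb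
    have h2 : Function.Injective f' := hinj.universally_injective i₁ i₂ f' hpb
    have h3 : Surjective f' := MorphismProperty.of_isPullback (P := @Surjective) hpb.flip hsurj
    exact isHomeomorph_iff_continuous_isClosedMap_bijective.mpr ⟨f'.continuous, h1, ⟨h2, h3.surj⟩⟩

theorem surjective_SpecMap_iff_of_isIntegral [Algebra.IsIntegral A B] :
    Surjective (Spec.map (CommRingCat.ofHom (algebraMap A B))) ↔
      ∀ a : A, algebraMap A B a = 0 → IsNilpotent a := by
  rw [surjective_iff]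
  change Function.Surjective (PrimeSpectrum.comap (algebraMap A B)) ↔ _
  constructor
  · intro h a ha
    rw [← mem_nilradical, nilradical_eq_sInf, Ideal.mem_sInf]
    intro P hP
    obtain ⟨Q, hQ⟩ := h ⟨P, hP⟩
    have : a ∈ (PrimeSpectrum.comap (algebraMap A B) Q).asIdeal := by
      change algebraMap A B a ∈ Q.asIdeal
      rw [ha]; exact zero_mem _
    rw [hQ] at this
    exact this
  · intro h P
    have hker : RingHom.ker (algebraMap A B) ≤ P.asIdeal := by
      intro a ha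
      obtain ⟨n, hn⟩ := h a ha
      exact P.2.mem_of_pow_mem n (hn ▸ zero_mem _)
    obtain ⟨Q, -, hQ1, hQ2⟩ := Ideal.exists_ideal_over_prime_of_isIntegral P.asIdeal (⊥ : Ideal B) hker
    exact ⟨⟨Q, hQ1⟩, PrimeSpectrum.ext hQ2⟩

theorem isUnivHomeo_iff :
    FlatMor.IsUnivHomeo (Spec.map (CommRingCat.ofHom (algebraMap A B))) ↔ UH A B := by
  rw [isUnivHomeo_iff_scheme, IsIntegralHom.SpecMap_iff, universallyInjective_SpecMap_iff]
  constructor
  · rintro ⟨h1, h2, h3⟩
    have h1' : Algebra.IsIntegral A B := Algebra.isIntegral_def.mpr h1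
    exact ⟨h1', (surjective_SpecMap_iff_of_isIntegral A B).mp h3, h2⟩
  · rintro ⟨h1, h2, h3⟩
    exact ⟨Algebra.isIntegral_def.mp h1, h3, (surjective_SpecMap_iff_of_isIntegral A B).mpr h2⟩

end Scheme

section Closure

theorem isNilpotent_of_forall_prime {T : Type*} [CommRing T] (x : T)
    (h : ∀ P : Ideal T, P.IsPrime → x ∈ P) : IsNilpotent x := by
  rw [← mem_nilradical, nilradical_eq_sInf, Ideal.mem_sInf]
  exact fun {P} hP => h P hP

theorem isNilpotent_sub_of_sq_cube {T : Type*} [CommRing T] (s t : T)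
    (h2 : IsNilpotent (s ^ 2 - t ^ 2)) (h3 : IsNilpotent (s ^ 3 - t ^ 3)) :
    IsNilpotent (s - t) := by
  apply isNilpotent_of_forall_prime
  intro P hP
  have e2 : s ^ 2 - t ^ 2 ∈ P := by
    obtain ⟨n, hn⟩ := h2; exact hP.mem_of_pow_mem n (hn ▸ zero_mem _)
  have e3 : s ^ 3 - t ^ 3 ∈ P := by
    obtain ⟨n, hn⟩ := h3; exact hP.mem_of_pow_mem n (hn ▸ zero_mem _)
  -- (s - t)^3 = (s^3 - t^3) - 3 s t (s - t); and s t (s-t) ... use: (s-t)^3 ∈ P
  have key : (s - t) ^ 3 = (s ^ 3 - t ^ 3) * 4 - (s ^ 2 - t ^ 2) * (3 * (s + t)) := by ring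
  apply hP.mem_of_pow_mem 3
  rw [key]
  exact sub_mem (Ideal.mul_mem_right _ _ e3) (Ideal.mul_mem_right _ _ e2)

theorem isNilpotent_sub_of_prime {T : Type*} [CommRing T] (p : ℕ) (hp : p.Prime) (s t : T)
    (h1 : IsNilpotent ((p : T) * s - (p : T) * t)) (h2 : IsNilpotent (s ^ p - t ^ p)) :
    IsNilpotent (s - t) := by
  apply isNilpotent_of_forall_prime
  intro P hP
  have e1 : (p : T) * s - (p : T) * t ∈ P := by
    obtain ⟨n, hn⟩ := h1; exact hP.mem_of_pow_mem n (hn ▸ zero_mem _)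
  have e2 : s ^ p - t ^ p ∈ P := by
    obtain ⟨n, hn⟩ := h2; exact hP.mem_of_pow_mem n (hn ▸ zero_mem _)
  obtain ⟨r, hr⟩ := exists_add_pow_prime_eq hp t (s - t)
  have hst : t + (s - t) = s := by ring
  rw [hst] at hr
  have key : (s - t) ^ p = (s ^ p - t ^ p) - ((p : T) * s - (p : T) * t) * (t * r) := by
    rw [hr]; ring
  apply hP.mem_of_pow_mem p
  rw [key]
  exact sub_mem e2 (Ideal.mul_mem_right _ _ e1)

variable {A B T : Type*} [CommRing A] [CommRing B] [CommRing T] [Algebra A B] [Algebra A T]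

/-- the subalgebra of `B` where two algebra homs agree up to nilpotents -/
def nilEqualizer (u v : B →ₐ[A] T) : Subalgebra A B where
  carrier := {b | IsNilpotent (u b - v b)}
  mul_mem' := by
    intro a b ha hb
    simp only [Set.mem_setOf_eq, map_mul] at *
    have : u a * u b - v a * v b = u a * (u b - v b) + v b * (u a - v a) := by ring
    rw [this]
    exact (Commute.all _ _).isNilpotent_add ((Commute.all _ _).isNilpotent_mul_left hb)
      ((Commute.all _ _).isNilpotent_mul_left ha)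
  add_mem' := by
    intro a b ha hb
    simp only [Set.mem_setOf_eq, map_add] at *
    have : u a + u b - (v a + v b) = (u a - v a) + (u b - v b) := by ring
    rw [this]
    exact (Commute.all _ _).isNilpotent_add ha hb
  algebraMap_mem' := by
    intro r
    simp

theorem mem_nilEqualizer {u v : B →ₐ[A] T} {b : B} :
    b ∈ nilEqualizer u v ↔ IsNilpotent (u b - v b) := Iff.rfl

theorem mem_nilEqualizer_of_sq_cube {u v : B →ₐ[A] T} {b : B}
    (h2 : b ^ 2 ∈ nilEqualizer u v) (h3 : b ^ 3 ∈ nilEqualizer u v) : b ∈ nilEqualizer u v := by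
  rw [mem_nilEqualizer] at *
  rw [map_pow, map_pow] at h2 h3
  exact isNilpotent_sub_of_sq_cube _ _ h2 h3

theorem mem_nilEqualizer_of_prime {u v : B →ₐ[A] T} {b : B} (p : ℕ) (hp : p.Prime)
    (h1 : (p : B) * b ∈ nilEqualizer u v) (h2 : b ^ p ∈ nilEqualizer u v) :
    b ∈ nilEqualizer u v := by
  rw [mem_nilEqualizer] at *
  rw [map_pow, map_pow] at h2
  rw [map_mul, map_mul, map_natCast, map_natCast] at h1
  exact isNilpotent_sub_of_prime p hp _ _ h1 h2

end Closure

section ResTriv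

variable {A B : Type*} [CommRing A] [CommRing B] [Algebra A B]

/-- the class of `b` in `κ(𝔮)` comes from `κ(𝔮 ∩ A)` -/
def ResTrivAt (A : Type*) {B : Type*} [CommRing A] [CommRing B] [Algebra A B]
    (𝔮 : Ideal B) (b : B) : Prop :=
  ∃ a s : A, algebraMap A B s ∉ 𝔮 ∧ algebraMap A B s * b - algebraMap A B a ∈ 𝔮

theorem resTrivAt_iff_mem_range (𝔮 : Ideal B) [𝔮.IsPrime] (𝔭 : Ideal A) [𝔭.IsPrime]
    (h : 𝔭 = 𝔮.comap (algebraMap A B)) (b : B) :
    ResTrivAt A 𝔮 b ↔ algebraMap B 𝔮.ResidueField b ∈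
      (Ideal.ResidueField.map 𝔭 𝔮 (algebraMap A B) h).range := by
  constructor
  · rintro ⟨a, s, hs, hab⟩
    have hs' : algebraMap B 𝔮.ResidueField (algebraMap A B s) ≠ 0 := by
      rwa [Ne, Ideal.algebraMap_residueField_eq_zero]
    have h1 : algebraMap B 𝔮.ResidueField (algebraMap A B s * b - algebraMap A B a) = 0 :=
      Ideal.algebraMap_residueField_eq_zero.mpr hab
    rw [map_sub, map_mul, sub_eq_zero] at h1
    refine ⟨algebraMap A 𝔭.ResidueField a / algebraMap A 𝔭.ResidueField s, ?_⟩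
    rw [map_div₀, Ideal.ResidueField.map_algebraMap, Ideal.ResidueField.map_algebraMap, ← h1,
      mul_div_cancel_left₀ _ hs']
  · rintro ⟨x, hx⟩
    obtain ⟨a', s', hs', rfl⟩ := IsFractionRing.div_surjective (A := A ⧸ 𝔭) x
    obtain ⟨a, rfl⟩ := Ideal.Quotient.mk_surjective a'
    obtain ⟨s, rfl⟩ := Ideal.Quotient.mk_surjective s'
    have hs0 : algebraMap A 𝔭.ResidueField s ≠ 0 := by
      have := (map_ne_zero_iff _ (IsFractionRing.injective (A ⧸ 𝔭) 𝔭.ResidueField)).mpr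
        (nonZeroDivisors.ne_zero hs')
      rwa [Ideal.algebraMap_quotient_residueField_mk] at this
    rw [Ideal.algebraMap_quotient_residueField_mk, Ideal.algebraMap_quotient_residueField_mk,
      map_div₀, Ideal.ResidueField.map_algebraMap, Ideal.ResidueField.map_algebraMap] at hx
    have hs1 : algebraMap B 𝔮.ResidueField (algebraMap A B s) ≠ 0 := by
      rw [← Ideal.ResidueField.map_algebraMap 𝔭 𝔮 (algebraMap A B) h]
      exact (map_ne_zero _).mpr hs0
    refine ⟨a, s, ?_, ?_⟩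
    · rwa [Ne, Ideal.algebraMap_residueField_eq_zero] at hs1
    · rw [← Ideal.algebraMap_residueField_eq_zero, map_sub, map_mul, ← hx,
        mul_div_cancel₀ _ hs1, sub_self]

theorem surjective_resMap_iff (𝔮 : Ideal B) [𝔮.IsPrime] (𝔭 : Ideal A) [𝔭.IsPrime]
    (h : 𝔭 = 𝔮.comap (algebraMap A B)) :
    Function.Surjective (Ideal.ResidueField.map 𝔭 𝔮 (algebraMap A B) h) ↔
      ∀ b : B, ResTrivAt A 𝔮 b := by
  constructor
  · intro hs b
    rw [resTrivAt_iff_mem_range 𝔮 𝔭 h]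
    exact hs _
  · intro hb y
    obtain ⟨b₁', b₂', hb₂, rfl⟩ := IsFractionRing.div_surjective (A := B ⧸ 𝔮) y
    obtain ⟨b₁, rfl⟩ := Ideal.Quotient.mk_surjective b₁'
    obtain ⟨b₂, rfl⟩ := Ideal.Quotient.mk_surjective b₂'
    rw [Ideal.algebraMap_quotient_residueField_mk, Ideal.algebraMap_quotient_residueField_mk]
    obtain ⟨x₁, hx₁⟩ := (resTrivAt_iff_mem_range 𝔮 𝔭 h b₁).mp (hb b₁)
    obtain ⟨x₂, hx₂⟩ := (resTrivAt_iff_mem_range 𝔮 𝔭 h b₂).mp (hb b₂)
    exact ⟨x₁ / x₂, by rw [map_div₀, hx₁, hx₂]⟩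

end ResTriv

section ResTriv2

variable {A B : Type*} [CommRing A] [CommRing B] [Algebra A B]

theorem ResTrivAt.add {𝔮 : Ideal B} {b₁ b₂ : B} (h₁ : ResTrivAt A 𝔮 b₁) (h₂ : ResTrivAt A 𝔮 b₂)
    [𝔮.IsPrime] : ResTrivAt A 𝔮 (b₁ + b₂) := by
  obtain ⟨a₁, s₁, hs₁, e₁⟩ := h₁
  obtain ⟨a₂, s₂, hs₂, e₂⟩ := h₂
  refine ⟨s₂ * a₁ + s₁ * a₂, s₁ * s₂, ?_, ?_⟩
  · rw [map_mul]
    exact fun h => (Ideal.IsPrime.mem_or_mem ‹_› h).elim hs₁ hs₂
  · have : algebraMap A B (s₁ * s₂) * (b₁ + b₂) - algebraMap A B (s₂ * a₁ + s₁ * a₂) =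
        algebraMap A B s₂ * (algebraMap A B s₁ * b₁ - algebraMap A B a₁) +
        algebraMap A B s₁ * (algebraMap A B s₂ * b₂ - algebraMap A B a₂) := by
      simp only [map_mul, map_add]; ring
    rw [this]
    exact add_mem (Ideal.mul_mem_left _ _ e₁) (Ideal.mul_mem_left _ _ e₂)

theorem ResTrivAt.mul {𝔮 : Ideal B} {b₁ b₂ : B} (h₁ : ResTrivAt A 𝔮 b₁) (h₂ : ResTrivAt A 𝔮 b₂)
    [𝔮.IsPrime] : ResTrivAt A 𝔮 (b₁ * b₂) := by
  obtain ⟨a₁, s₁, hs₁, e₁⟩ := h₁
  obtain ⟨a₂, s₂, hs₂, e₂⟩ := h₂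
  refine ⟨a₁ * a₂, s₁ * s₂, ?_, ?_⟩
  · rw [map_mul]
    exact fun h => (Ideal.IsPrime.mem_or_mem ‹_› h).elim hs₁ hs₂
  · have : algebraMap A B (s₁ * s₂) * (b₁ * b₂) - algebraMap A B (a₁ * a₂) =
        (algebraMap A B s₂ * b₂) * (algebraMap A B s₁ * b₁ - algebraMap A B a₁) +
        algebraMap A B a₁ * (algebraMap A B s₂ * b₂ - algebraMap A B a₂) := by
      simp only [map_mul]; ring
    rw [this]
    exact add_mem (Ideal.mul_mem_left _ _ e₁) (Ideal.mul_mem_left _ _ e₂)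

theorem ResTrivAt.of_algebraMap {𝔮 : Ideal B} [𝔮.IsPrime] (a : A) :
    ResTrivAt A 𝔮 (algebraMap A B a) :=
  ⟨a, 1, by rw [map_one]; exact 𝔮.one_notMem, by simp⟩

/-- the subalgebra of elements with trivial residue class at `𝔮` -/
def resTrivClosure (A : Type*) {B : Type*} [CommRing A] [CommRing B] [Algebra A B]
    (𝔮 : Ideal B) [𝔮.IsPrime] : Subalgebra A B where
  carrier := {b | ResTrivAt A 𝔮 b}
  mul_mem' := fun h₁ h₂ => h₁.mul h₂
  add_mem' := fun h₁ h₂ => h₁.add h₂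
  algebraMap_mem' := fun a => ResTrivAt.of_algebraMap a

theorem mem_resTrivClosure {𝔮 : Ideal B} [𝔮.IsPrime] {b : B} :
    b ∈ resTrivClosure A 𝔮 ↔ ResTrivAt A 𝔮 b := Iff.rfl

theorem ResTrivAt.of_sq_cube {𝔮 : Ideal B} [𝔮.IsPrime] {b : B}
    (h2 : ResTrivAt A 𝔮 (b ^ 2)) (h3 : ResTrivAt A 𝔮 (b ^ 3)) : ResTrivAt A 𝔮 b := by
  by_cases hb : b ∈ 𝔮
  · exact ⟨0, 1, by rw [map_one]; exact 𝔮.one_notMem, by simpa using hb⟩
  obtain ⟨a₂, s₂, hs₂, e₂⟩ := h2
  obtain ⟨a₃, s₃, hs₃, e₃⟩ := h3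
  have ha₂ : algebraMap A B a₂ ∉ 𝔮 := by
    intro h
    have : algebraMap A B s₂ * b ^ 2 ∈ 𝔮 := by
      have := add_mem e₂ h
      rwa [sub_add_cancel] at this
    rcases Ideal.IsPrime.mem_or_mem ‹_› this with h' | h'
    · exact hs₂ h'
    · exact hb (Ideal.IsPrime.mem_of_pow_mem ‹_› 2 h')
  refine ⟨a₃ * s₂, s₃ * a₂, ?_, ?_⟩
  · rw [map_mul]
    exact fun h => (Ideal.IsPrime.mem_or_mem ‹_› h).elim hs₃ ha₂
  · have : algebraMap A B (s₃ * a₂) * b - algebraMap A B (a₃ * s₂) =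
        algebraMap A B s₂ * (algebraMap A B s₃ * b ^ 3 - algebraMap A B a₃) -
        algebraMap A B s₃ * b * (algebraMap A B s₂ * b ^ 2 - algebraMap A B a₂) := by
      simp only [map_mul]; ring
    rw [this]
    exact sub_mem (Ideal.mul_mem_left _ _ e₃) (Ideal.mul_mem_left _ _ e₂)

end ResTriv2

section ResScheme

variable {A B : Type u} [CommRing A] [CommRing B] [Algebra A B]

theorem surjective_residueFieldMap_iff' {R S : CommRingCat.{u}} (φ : R ⟶ S) (x : Spec S) :
    Function.Surjective ((Spec.map φ).residueFieldMap x) ↔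
      Function.Surjective (Ideal.ResidueField.map ((Spec.map φ) x).asIdeal x.asIdeal φ.hom rfl) := by
  have h := Groth.Agent.Lib.Helper55.residueFieldMap_SpecMap φ x
  have e1 := ConcreteCategory.bijective_of_isIso (Scheme.Spec.residueFieldIso R ((Spec.map φ) x)).inv
  have e2 := ConcreteCategory.bijective_of_isIso (Scheme.Spec.residueFieldIso S x).hom
  have h' : ∀ t, Ideal.ResidueField.map ((Spec.map φ) x).asIdeal x.asIdeal φ.hom rfl t =
      (Scheme.Spec.residueFieldIso S x).hom ((Spec.map φ).residueFieldMap x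
        ((Scheme.Spec.residueFieldIso R ((Spec.map φ) x)).inv t)) := by
    intro t
    have := congrArg (fun ψ => ψ.hom t) h
    exact this.symm
  constructor
  · intro hs y
    obtain ⟨z, hz⟩ := hs ((Scheme.Spec.residueFieldIso S x).inv y)
    obtain ⟨t, rfl⟩ := e1.2 z
    refine ⟨t, ?_⟩
    rw [h', hz]
    exact congrArg (fun ψ => ψ.hom y) (Scheme.Spec.residueFieldIso S x).inv_hom_id
  · intro hs y
    obtain ⟨t, ht⟩ := hs ((Scheme.Spec.residueFieldIso S x).hom y)
    rw [h'] at ht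
    exact ⟨_, e2.1 ht⟩

theorem surjective_residueFieldMap_iff (x : Spec (CommRingCat.of B)) :
    Function.Surjective ((Spec.map (CommRingCat.ofHom (algebraMap A B))).residueFieldMap x) ↔
      ∀ b : B, ResTrivAt A x.asIdeal b := by
  rw [surjective_residueFieldMap_iff']
  exact surjective_resMap_iff x.asIdeal
    ((Spec.map (CommRingCat.ofHom (algebraMap A B))) x).asIdeal rfl

/-- ring-level version of "all residue field maps are surjective" -/
def ResTriv (A B : Type*) [CommRing A] [CommRing B] [Algebra A B] : Prop :=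
  ∀ (𝔮 : Ideal B) [𝔮.IsPrime] (b : B), ResTrivAt A 𝔮 b

theorem forall_surjective_residueFieldMap_iff :
    (∀ x : Spec (CommRingCat.of B),
      Function.Surjective ((Spec.map (CommRingCat.ofHom (algebraMap A B))).residueFieldMap x)) ↔
      ResTriv A B := by
  constructor
  · intro h 𝔮 _ b
    exact (surjective_residueFieldMap_iff ⟨𝔮, inferInstance⟩).mp (h _) b
  · intro h x
    exact (surjective_residueFieldMap_iff x).mpr (fun b => h x.asIdeal b)

end ResScheme

section PInsep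

theorem ringHom_isPurelyInseparable_iff {K L : Type*} [Field K] [Field L] (f : K →+* L) (q : ℕ)
    [ExpChar K q] : f.IsPurelyInseparable ↔ ∀ y : L, ∃ n : ℕ, y ^ q ^ n ∈ f.range := by
  letI := f.toAlgebra
  exact isPurelyInseparable_iff_pow_mem K q

theorem isPurelyInseparable_of_equiv {K₁ K₂ L₁ L₂ : Type*} [Field K₁] [Field K₂] [Field L₁]
    [Field L₂] (f₁ : K₁ →+* L₁) (f₂ : K₂ →+* L₂) (e : K₁ ≃+* K₂) (e' : L₁ ≃+* L₂)
    (h : ∀ x, e' (f₁ x) = f₂ (e x)) (h₁ : f₁.IsPurelyInseparable) : f₂.IsPurelyInseparable := by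
  obtain ⟨q, hq⟩ := ExpChar.exists K₁
  have : ExpChar K₂ q := expChar_of_injective_ringHom (f := e.toRingHom) e.injective q
  rw [ringHom_isPurelyInseparable_iff f₁ q] at h₁
  rw [ringHom_isPurelyInseparable_iff f₂ q]
  intro y
  obtain ⟨n, x, hx⟩ := h₁ (e'.symm y)
  refine ⟨n, e x, ?_⟩
  rw [← h, hx, map_pow, RingEquiv.apply_symm_apply]

variable {A B : Type*} [CommRing A] [CommRing B] [Algebra A B]

theorem isPurelyInseparable_resMap_iff (𝔮 : Ideal B) [𝔮.IsPrime] (𝔭 : Ideal A) [𝔭.IsPrime]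
    (h : 𝔭 = 𝔮.comap (algebraMap A B)) (q : ℕ) [ExpChar 𝔭.ResidueField q] :
    (Ideal.ResidueField.map 𝔭 𝔮 (algebraMap A B) h).IsPurelyInseparable ↔
      ∀ b : B, ∃ n : ℕ, ResTrivAt A 𝔮 (b ^ q ^ n) := by
  rw [ringHom_isPurelyInseparable_iff _ q]
  constructor
  · intro hs b
    obtain ⟨n, hn⟩ := hs (algebraMap B 𝔮.ResidueField b)
    refine ⟨n, ?_⟩
    rw [resTrivAt_iff_mem_range 𝔮 𝔭 h, map_pow]
    exact hn
  · intro hb y
    obtain ⟨b₁', b₂', hb₂, rfl⟩ := IsFractionRing.div_surjective (A := B ⧸ 𝔮) y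
    obtain ⟨b₁, rfl⟩ := Ideal.Quotient.mk_surjective b₁'
    obtain ⟨b₂, rfl⟩ := Ideal.Quotient.mk_surjective b₂'
    rw [Ideal.algebraMap_quotient_residueField_mk, Ideal.algebraMap_quotient_residueField_mk]
    obtain ⟨n₁, hn₁⟩ := hb b₁
    obtain ⟨n₂, hn₂⟩ := hb b₂
    rw [resTrivAt_iff_mem_range 𝔮 𝔭 h, map_pow] at hn₁ hn₂
    obtain ⟨x₁, hx₁⟩ := hn₁
    obtain ⟨x₂, hx₂⟩ := hn₂
    refine ⟨n₁ + n₂, x₁ ^ q ^ n₂ / x₂ ^ q ^ n₁, ?_⟩
    rw [map_div₀, map_pow, map_pow, hx₁, hx₂, div_pow, ← pow_mul, ← pow_mul, ← pow_add, ← pow_add,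
      add_comm n₂ n₁]

end PInsep

section PInsepScheme

theorem isPurelyInseparable_residueFieldMap_iff {R S : CommRingCat.{u}} (φ : R ⟶ S) (x : Spec S) :
    ((Spec.map φ).residueFieldMap x).hom.IsPurelyInseparable ↔
      (Ideal.ResidueField.map ((Spec.map φ) x).asIdeal x.asIdeal φ.hom rfl).IsPurelyInseparable := by
  have h := Groth.Agent.Lib.Helper55.residueFieldMap_SpecMap φ x
  have h' : ∀ t, Ideal.ResidueField.map ((Spec.map φ) x).asIdeal x.asIdeal φ.hom rfl t =
      (Scheme.Spec.residueFieldIso S x).hom ((Spec.map φ).residueFieldMap x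
        ((Scheme.Spec.residueFieldIso R ((Spec.map φ) x)).inv t)) := by
    intro t
    have := congrArg (fun ψ => ψ.hom t) h
    exact this.symm
  let e := (Scheme.Spec.residueFieldIso R ((Spec.map φ) x)).commRingCatIsoToRingEquiv
  let e' := (Scheme.Spec.residueFieldIso S x).commRingCatIsoToRingEquiv
  constructor
  · intro h1
    refine isPurelyInseparable_of_equiv _ _ e e' ?_ h1
    intro t
    rw [h']
    change _ = (Scheme.Spec.residueFieldIso S x).hom ((Spec.map φ).residueFieldMap x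
      ((Scheme.Spec.residueFieldIso R ((Spec.map φ) x)).inv
        ((Scheme.Spec.residueFieldIso R ((Spec.map φ) x)).hom t)))
    have : (Scheme.Spec.residueFieldIso R ((Spec.map φ) x)).inv
        ((Scheme.Spec.residueFieldIso R ((Spec.map φ) x)).hom t) = t :=
      congrArg (fun ψ => ψ.hom t) (Scheme.Spec.residueFieldIso R ((Spec.map φ) x)).hom_inv_id
    rw [this]
    rfl
  · intro h1
    refine isPurelyInseparable_of_equiv _ _ e.symm e'.symm ?_ h1
    intro t
    rw [h']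
    change (Scheme.Spec.residueFieldIso S x).inv ((Scheme.Spec.residueFieldIso S x).hom
      ((Spec.map φ).residueFieldMap x ((Scheme.Spec.residueFieldIso R ((Spec.map φ) x)).inv t))) = _
    have : ∀ z, (Scheme.Spec.residueFieldIso S x).inv ((Scheme.Spec.residueFieldIso S x).hom z) = z :=
      fun z => congrArg (fun ψ => ψ.hom z) (Scheme.Spec.residueFieldIso S x).hom_inv_id
    rw [this]
    rfl

variable {A B : Type u} [CommRing A] [CommRing B] [Algebra A B]

omit [Algebra A B] in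
theorem resMap_congr {f : A →+* B} (𝔮 : Ideal B) [𝔮.IsPrime] (𝔭 𝔭' : Ideal A) [𝔭.IsPrime] [𝔭'.IsPrime]
    (h : 𝔭 = 𝔮.comap f) (h' : 𝔭' = 𝔮.comap f)
    (H : (Ideal.ResidueField.map 𝔭 𝔮 f h).IsPurelyInseparable) :
    (Ideal.ResidueField.map 𝔭' 𝔮 f h').IsPurelyInseparable := by
  obtain rfl := h.trans h'.symm
  exact H

theorem universallyInjective_SpecMap_iff_ring :
    UniversallyInjective (Spec.map (CommRingCat.ofHom (algebraMap A B))) ↔
      Function.Injective (PrimeSpectrum.comap (algebraMap A B)) ∧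
      ∀ (𝔮 : Ideal B) [𝔮.IsPrime] (𝔭 : Ideal A) [𝔭.IsPrime] (h : 𝔭 = 𝔮.comap (algebraMap A B)),
        (Ideal.ResidueField.map 𝔭 𝔮 (algebraMap A B) h).IsPurelyInseparable := by
  have := (tfae_universallyInjective (Spec.map (CommRingCat.ofHom (algebraMap A B)))).out 0 2
  rw [this]
  refine and_congr Iff.rfl ?_
  constructor
  · intro H 𝔮 _ 𝔭 _ h
    have h1 := (isPurelyInseparable_residueFieldMap_iff (CommRingCat.ofHom (algebraMap A B))
      ⟨𝔮, inferInstance⟩).mp (H _)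
    exact resMap_congr (f := algebraMap A B) 𝔮
      ((Spec.map (CommRingCat.ofHom (algebraMap A B))) ⟨𝔮, inferInstance⟩).asIdeal 𝔭 rfl h h1
  · intro H x
    exact (isPurelyInseparable_residueFieldMap_iff (CommRingCat.ofHom (algebraMap A B)) x).mpr
      (H x.asIdeal ((Spec.map (CommRingCat.ofHom (algebraMap A B))) x).asIdeal rfl)

end PInsepScheme

section Sub

variable {A B : Type u} [CommRing A] [CommRing B] [Algebra A B]

theorem universallyClosed_SpecMap_iff :
    UniversallyClosed (Spec.map (CommRingCat.ofHom (algebraMap A B))) ↔ Algebra.IsIntegral A B := by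
  rw [Algebra.isIntegral_def]
  constructor
  · intro h
    have : IsIntegralHom (Spec.map (CommRingCat.ofHom (algebraMap A B))) :=
      IsIntegralHom.iff_universallyClosed_and_isAffineHom.mpr ⟨h, inferInstance⟩
    exact IsIntegralHom.SpecMap_iff.mp this
  · intro h
    have : IsIntegralHom (Spec.map (CommRingCat.ofHom (algebraMap A B))) :=
      IsIntegralHom.SpecMap_iff.mpr h
    infer_instance

/-- elementwise form of universal injectivity -/
theorem universallyInjective_SpecMap_iff_elt :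
    UniversallyInjective (Spec.map (CommRingCat.ofHom (algebraMap A B))) ↔
      Function.Injective (PrimeSpectrum.comap (algebraMap A B)) ∧
      ∀ (𝔮 : Ideal B) [𝔮.IsPrime] (q : ℕ) [ExpChar (A ⧸ 𝔮.comap (algebraMap A B)) q] (b : B),
        ∃ n : ℕ, ResTrivAt A 𝔮 (b ^ q ^ n) := by
  rw [universallyInjective_SpecMap_iff_ring]
  refine and_congr Iff.rfl ?_
  constructor
  · intro H 𝔮 _ q _ b
    have : ExpChar (𝔮.comap (algebraMap A B)).ResidueField q :=
      expChar_of_injective_ringHom (f := algebraMap (A ⧸ 𝔮.comap (algebraMap A B)) _)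
        (IsFractionRing.injective _ _) q
    exact (isPurelyInseparable_resMap_iff 𝔮 _ rfl q).mp (H 𝔮 _ rfl) b
  · intro H 𝔮 _ 𝔭 _ h
    subst h
    obtain ⟨q, hq⟩ := ExpChar.exists (A ⧸ 𝔮.comap (algebraMap A B))
    have : ExpChar (𝔮.comap (algebraMap A B)).ResidueField q :=
      expChar_of_injective_ringHom (f := algebraMap (A ⧸ 𝔮.comap (algebraMap A B)) _)
        (IsFractionRing.injective _ _) q
    exact (isPurelyInseparable_resMap_iff 𝔮 _ rfl q).mpr (H 𝔮 q)

theorem ResTrivAt.of_subalgebra (B' : Subalgebra A B) (𝔮 : Ideal B) (𝔮' : Ideal B')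
    (h𝔮 : 𝔮.comap (algebraMap B' B) = 𝔮') (b' : B') (h : ResTrivAt A 𝔮 (b' : B)) :
    ResTrivAt A 𝔮' b' := by
  obtain ⟨a, s, hs, e⟩ := h
  subst h𝔮
  refine ⟨a, s, ?_, ?_⟩
  · intro h'
    exact hs h'
  · change algebraMap B' B (algebraMap A B' s * b' - algebraMap A B' a) ∈ 𝔮
    rw [map_sub, map_mul]
    exact e

theorem exists_prime_over_subalgebra [Algebra.IsIntegral A B] (B' : Subalgebra A B)
    (𝔮' : Ideal B') [𝔮'.IsPrime] :
    ∃ 𝔮 : Ideal B, 𝔮.IsPrime ∧ 𝔮.comap (algebraMap B' B) = 𝔮' := by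
  have : Algebra.IsIntegral B' B := Algebra.IsIntegral.tower_top (R := A)
  have hker : (⊥ : Ideal B).comap (algebraMap B' B) ≤ 𝔮' := by
    intro x hx
    have : (x : B) = 0 := hx
    have : x = 0 := Subtype.ext this
    rw [this]; exact zero_mem _
  obtain ⟨𝔮, -, h1, h2⟩ := Ideal.exists_ideal_over_prime_of_isIntegral 𝔮' (⊥ : Ideal B) hker
  exact ⟨𝔮, h1, h2⟩

theorem universallyInjective_subalgebra [Algebra.IsIntegral A B] (B' : Subalgebra A B)
    (h : UniversallyInjective (Spec.map (CommRingCat.ofHom (algebraMap A B)))) :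
    UniversallyInjective (Spec.map (CommRingCat.ofHom (algebraMap A B'))) := by
  rw [universallyInjective_SpecMap_iff_elt] at h ⊢
  obtain ⟨hinj, helt⟩ := h
  have hcomp : ∀ 𝔮 : Ideal B, (𝔮.comap (algebraMap B' B)).comap (algebraMap A B') =
      𝔮.comap (algebraMap A B) := by
    intro 𝔮
    rw [Ideal.comap_comap, ← IsScalarTower.algebraMap_eq]
  refine ⟨?_, ?_⟩
  · intro x₁ x₂ hx
    obtain ⟨𝔮₁, hp₁, h₁⟩ := exists_prime_over_subalgebra B' x₁.asIdeal
    obtain ⟨𝔮₂, hp₂, h₂⟩ := exists_prime_over_subalgebra B' x₂.asIdeal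
    have : (⟨𝔮₁, hp₁⟩ : PrimeSpectrum B) = ⟨𝔮₂, hp₂⟩ := by
      apply hinj
      apply PrimeSpectrum.ext
      change 𝔮₁.comap (algebraMap A B) = 𝔮₂.comap (algebraMap A B)
      rw [← hcomp, ← hcomp, h₁, h₂]
      exact congrArg PrimeSpectrum.asIdeal hx
    have e : 𝔮₁ = 𝔮₂ := congrArg PrimeSpectrum.asIdeal this
    apply PrimeSpectrum.ext
    rw [← h₁, ← h₂, e]
  · intro 𝔮' _ q _ b'
    obtain ⟨𝔮, hp, h𝔮⟩ := exists_prime_over_subalgebra B' 𝔮'
    have e : 𝔮.comap (algebraMap A B) = 𝔮'.comap (algebraMap A B') := by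
      rw [← hcomp, h𝔮]
    have : ExpChar (A ⧸ 𝔮.comap (algebraMap A B)) q := e ▸ ‹_›
    obtain ⟨n, hn⟩ := helt 𝔮 q (b' : B)
    refine ⟨n, ResTrivAt.of_subalgebra B' 𝔮 𝔮' h𝔮 _ ?_⟩
    exact_mod_cast hn

theorem resTriv_subalgebra [Algebra.IsIntegral A B] (B' : Subalgebra A B)
    (h : ResTriv A B) : ResTriv A B' := by
  intro 𝔮' _ b'
  obtain ⟨𝔮, hp, h𝔮⟩ := exists_prime_over_subalgebra B' 𝔮'
  exact ResTrivAt.of_subalgebra B' 𝔮 𝔮' h𝔮 _ (h 𝔮 _)

end Sub

section Family

variable {A B : Type u} [CommRing A] [CommRing B] [Algebra A B]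

theorem isNilpotent_delta_map {B' : Type*} [CommRing B'] [Algebra A B'] (g : B' →ₐ[A] B) (b' : B')
    (h : IsNilpotent (b' ⊗ₜ[A] (1 : B') - (1 : B') ⊗ₜ[A] b')) :
    IsNilpotent ((g b') ⊗ₜ[A] (1 : B) - (1 : B) ⊗ₜ[A] (g b')) := by
  have := h.map (Algebra.TensorProduct.map g g)
  simpa using this

theorem ResTrivAt.map {B' : Type*} [CommRing B'] [Algebra A B'] (g : B' →ₐ[A] B) (𝔮 : Ideal B)
    (b' : B') (h : ResTrivAt A (𝔮.comap g) b') : ResTrivAt A 𝔮 (g b') := by
  obtain ⟨a, s, hs, e⟩ := h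
  refine ⟨a, s, ?_, ?_⟩
  · intro h'
    apply hs
    rw [Ideal.mem_comap, AlgHom.commutes]
    exact h'
  · rw [Ideal.mem_comap, map_sub, map_mul, AlgHom.commutes, AlgHom.commutes] at e
    exact e

variable {ι : Type*} (B_ : ι → Type u) [∀ i, CommRing (B_ i)] [∀ i, Algebra A (B_ i)]
  (g : ∀ i, B_ i →ₐ[A] B) (hsurj : ∀ b : B, ∃ i b', g i b' = b)

include hsurj

theorem isIntegral_of_family (h : ∀ i, Algebra.IsIntegral A (B_ i)) : Algebra.IsIntegral A B := by
  refine ⟨fun b => ?_⟩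
  obtain ⟨i, b', rfl⟩ := hsurj b
  exact ((h i).isIntegral b').map (g i)

theorem isRadicial_of_family (h : ∀ i, IsRadicial A (B_ i)) : IsRadicial A B := by
  intro b
  obtain ⟨i, b', rfl⟩ := hsurj b
  exact isNilpotent_delta_map (g i) b' (h i b')

theorem resTriv_of_family (h : ∀ i, ResTriv A (B_ i)) : ResTriv A B := by
  intro 𝔮 _ b
  obtain ⟨i, b', rfl⟩ := hsurj b
  exact ResTrivAt.map (g i) 𝔮 b' (h i (𝔮.comap (g i)) b')

theorem uh_of_family (hker : ∀ a : A, algebraMap A B a = 0 → ∃ i, algebraMap A (B_ i) a = 0)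
    (h : ∀ i, UH A (B_ i)) : UH A B where
  integral := isIntegral_of_family B_ g hsurj fun i => (h i).integral
  ker_nil := by
    intro a ha
    obtain ⟨i, hi⟩ := hker a ha
    exact (h i).ker_nil a hi
  radicial := isRadicial_of_family B_ g hsurj fun i => (h i).radicial

end Family

section Gen

variable {A B : Type u} [CommRing A] [CommRing B] [Algebra A B]

variable (A B) in
/-- the subalgebra of `b` with `b ⊗ 1 - 1 ⊗ b` nilpotent -/
noncomputable def radicialClosure : Subalgebra A B :=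
  nilEqualizer (Algebra.TensorProduct.includeLeft : B →ₐ[A] B ⊗[A] B)
    (Algebra.TensorProduct.includeRight : B →ₐ[A] B ⊗[A] B)

theorem mem_radicialClosure {b : B} :
    b ∈ radicialClosure A B ↔ IsNilpotent (b ⊗ₜ[A] (1 : B) - (1 : B) ⊗ₜ[A] b) := Iff.rfl

theorem isRadicial_iff_radicialClosure : IsRadicial A B ↔ radicialClosure A B = ⊤ := by
  rw [eq_top_iff]
  exact ⟨fun h b _ => h b, fun h b => h (Algebra.mem_top : b ∈ ⊤)⟩

theorem mem_radicialClosure_of_sq_cube {b : B} (h2 : b ^ 2 ∈ radicialClosure A B)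
    (h3 : b ^ 3 ∈ radicialClosure A B) : b ∈ radicialClosure A B :=
  mem_nilEqualizer_of_sq_cube h2 h3

theorem mem_radicialClosure_of_prime {b : B} (p : ℕ) (hp : p.Prime)
    (h1 : (p : B) * b ∈ radicialClosure A B) (h2 : b ^ p ∈ radicialClosure A B) :
    b ∈ radicialClosure A B :=
  mem_nilEqualizer_of_prime p hp h1 h2

theorem ker_nil_of_forall_prime (h : ∀ (𝔭 : Ideal A) [𝔭.IsPrime], ∃ (L : Type u) (_ : CommRing L)
    (ψ : B →+* L), RingHom.ker (ψ.comp (algebraMap A B)) ≤ 𝔭) :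
    ∀ a : A, algebraMap A B a = 0 → IsNilpotent a := by
  intro a ha
  apply isNilpotent_of_forall_prime
  intro 𝔭 h𝔭
  obtain ⟨L, _, ψ, hψ⟩ := h 𝔭
  apply hψ
  rw [RingHom.mem_ker, RingHom.comp_apply, ha, map_zero]

theorem uh_of_adjoin (G : Set B) (hgen : Algebra.adjoin A G = ⊤)
    (hint : ∀ t ∈ G, IsIntegral A t)
    (hker : ∀ a : A, algebraMap A B a = 0 → IsNilpotent a)
    (hrad : ∀ t ∈ G, t ∈ radicialClosure A B) : UH A B where
  integral := by
    have : integralClosure A B = ⊤ := by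
      rw [eq_top_iff, ← hgen]
      exact Algebra.adjoin_le hint
    exact ⟨fun b => by
      have : b ∈ integralClosure A B := this ▸ Algebra.mem_top
      exact this⟩
  ker_nil := hker
  radicial := by
    rw [isRadicial_iff_radicialClosure, eq_top_iff, ← hgen]
    exact Algebra.adjoin_le hrad

theorem resTriv_of_adjoin (G : Set B) (hgen : Algebra.adjoin A G = ⊤)
    (h : ∀ (𝔮 : Ideal B) [𝔮.IsPrime], ∀ t ∈ G, ResTrivAt A 𝔮 t) : ResTriv A B := by
  intro 𝔮 _ b
  have : resTrivClosure A 𝔮 = ⊤ := by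
    rw [eq_top_iff, ← hgen]
    exact Algebra.adjoin_le (h 𝔮)
  have hb : b ∈ resTrivClosure A 𝔮 := this ▸ Algebra.mem_top
  exact hb

end Gen

end Groth.Agent.Lib.Helper20.UnivHomeo
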