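import Groth.Agent.Lib.Helper20.PerfAWN
import Groth.Agent.S7423
import Groth.Agent.S7422
set_option autoImplicit false
universe u
namespace Groth.Agent.Lib.Helper20.UnivHomeo
open AlgebraicGeometry CategoryTheory Limits TensorProduct

section LocAWN

variable {W W' : Type u} [CommRing W] [CommRing W'] [Algebra W W'] (M : Submonoid W)
  [IsLocalization M W']

/-- common denominators: `x * ι s = ι u`, `y * ι s = ι v` -/
theorem exists_common_den (x y : W') : ∃ (s : M) (u v : W),
    x * algebraMap W W' s = algebraMap W W' u ∧ y * algebraMap W W' s = algebraMap W W' v := by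
  obtain ⟨⟨u₀, s₁⟩, h₁⟩ := IsLocalization.surj M x
  obtain ⟨⟨v₀, s₂⟩, h₂⟩ := IsLocalization.surj M y
  refine ⟨s₁ * s₂, u₀ * s₂, v₀ * s₁, ?_, ?_⟩
  · simp only [Submonoid.coe_mul, map_mul]
    rw [← mul_assoc, h₁]
  · simp only [Submonoid.coe_mul, map_mul]
    rw [mul_comm (algebraMap W W' s₁), ← mul_assoc, h₂]

include M in
theorem isAWNRing_of_isLocalization (hW : HTop.IsAWNRing W) : HTop.IsAWNRing W' := by
  have hWred : IsReduced W := Groth.Agent.S7423.isReduced_of_isSeminormalRing hW.1
  have hred : IsReduced W' := isReduced_localizationPreserves M W' hWred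
  set ι := algebraMap W W' with hι
  refine ⟨?_, ?_⟩
  · intro x y hxy
    have hex : ∃ a' : W', x = a' ^ 2 ∧ y = a' ^ 3 := by
      obtain ⟨s, u₁, v₁, hu₁, hv₁⟩ := exists_common_den M x y
      have hxu : x * ι s ^ 2 = ι (u₁ * s) := by
        rw [map_mul, ← hu₁]; ring
      have hyv : y * ι s ^ 3 = ι (v₁ * s ^ 2) := by
        rw [map_mul, map_pow, ← hv₁]; ring
      have heq : ι ((u₁ * s) ^ 3) = ι ((v₁ * s ^ 2) ^ 2) := by
        rw [map_pow, map_pow, ← hxu, ← hyv, mul_pow, mul_pow, hxy]; ring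
      obtain ⟨t, ht⟩ := (IsLocalization.eq_iff_exists M W').mp heq
      obtain ⟨a, ⟨ha2, ha3⟩, -⟩ := hW.1 ((t : W) ^ 2 * (u₁ * s)) ((t : W) ^ 3 * (v₁ * s ^ 2)) (by
        have : ((t : W) ^ 2 * (u₁ * s)) ^ 3 = (t : W) ^ 5 * (t * (u₁ * s) ^ 3) := by ring
        rw [this, ht]; ring)
      have hτ : IsUnit (ι t * ι s) := by
        have := IsLocalization.map_units W' (t * s)
        simpa [Submonoid.coe_mul, map_mul] using this
      have hmk : IsLocalization.mk' W' a (t * s) * (ι t * ι s) = ι a := by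
        have := IsLocalization.mk'_spec W' a (t * s)
        simpa [Submonoid.coe_mul, map_mul] using this
      refine ⟨IsLocalization.mk' W' a (t * s), ?_, ?_⟩
      · apply (hτ.pow 2).mul_left_injective
        simp only
        rw [← mul_pow, hmk, ← map_pow, ← ha2]
        rw [show x * (ι t * ι s) ^ 2 = ι t ^ 2 * (x * ι s ^ 2) by ring, hxu]
        simp only [map_mul, map_pow]
      · apply (hτ.pow 3).mul_left_injective
        simp only
        rw [← mul_pow, hmk, ← map_pow, ← ha3]
        rw [show y * (ι t * ι s) ^ 3 = ι t ^ 3 * (y * ι s ^ 3) by ring, hyv]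
        simp only [map_mul, map_pow]
    obtain ⟨a', h2, h3⟩ := hex
    refine ⟨a', ⟨h2, h3⟩, ?_⟩
    rintro a'' ⟨h2', h3'⟩
    have hn : IsNilpotent (a'' - a') := by
      apply isNilpotent_sub_of_sq_cube
      · rw [← h2, ← h2', sub_self]; exact IsNilpotent.zero
      · rw [← h3, ← h3', sub_self]; exact IsNilpotent.zero
    exact sub_eq_zero.mp hn.eq_zero
  · intro ℓ hℓ x y hxy
    have hex : ∃ a' : W', x = a' ^ ℓ ∧ y = (ℓ : W') * a' := by
      obtain ⟨s, u₁, v₁, hu₁, hv₁⟩ := exists_common_den M x y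
      obtain ⟨k, hk⟩ : ∃ k, ℓ = k + 1 := ⟨ℓ - 1, (Nat.succ_pred_eq_of_pos hℓ.pos).symm⟩
      have hxu : x * ι s ^ ℓ = ι (u₁ * s ^ k) := by
        rw [map_mul, map_pow, ← hu₁, hk]; ring
      have heq : ι ((ℓ : W) ^ ℓ * (u₁ * s ^ k)) = ι (v₁ ^ ℓ) := by
        rw [map_mul, ← hxu, map_pow, map_natCast, map_pow, ← hv₁, mul_pow, ← hxy]; ring
      obtain ⟨t, ht⟩ := (IsLocalization.eq_iff_exists M W').mp heq
      obtain ⟨a, ⟨ha1, ha2⟩, -⟩ := hW.2 ℓ hℓ ((t : W) ^ ℓ * (u₁ * s ^ k)) ((t : W) * v₁) (by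
        have : (ℓ : W) ^ ℓ * ((t : W) ^ ℓ * (u₁ * s ^ k)) =
            (t : W) ^ k * (t * ((ℓ : W) ^ ℓ * (u₁ * s ^ k))) := by rw [hk]; ring
        rw [this, ht, hk]; ring)
      have hτ : IsUnit (ι t * ι s) := by
        have := IsLocalization.map_units W' (t * s)
        simpa [Submonoid.coe_mul, map_mul] using this
      have hmk : IsLocalization.mk' W' a (t * s) * (ι t * ι s) = ι a := by
        have := IsLocalization.mk'_spec W' a (t * s)
        simpa [Submonoid.coe_mul, map_mul] using this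
      refine ⟨IsLocalization.mk' W' a (t * s), ?_, ?_⟩
      · apply (hτ.pow ℓ).mul_left_injective
        simp only
        rw [← mul_pow, hmk, ← map_pow, ← ha1]
        rw [show x * (ι t * ι s) ^ ℓ = ι t ^ ℓ * (x * ι s ^ ℓ) by ring, hxu]
        simp only [map_mul, map_pow]
      · apply hτ.mul_left_injective
        simp only
        rw [mul_assoc, hmk]
        have h5 : (ℓ : W') * ι a = ι ((ℓ : W) * a) := by rw [map_mul, map_natCast]
        rw [h5, ← ha2, map_mul, ← hv₁]; ring
    have huniq : ∀ a a' : W', x = a ^ ℓ ∧ y = (ℓ : W') * a → x = a' ^ ℓ ∧ y = (ℓ : W') * a' →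
        a' = a := by
      rintro a a' ⟨h1, h2⟩ ⟨h1', h2'⟩
      have hn : IsNilpotent (a' - a) := by
        apply isNilpotent_sub_of_prime ℓ hℓ
        · rw [← h2, ← h2', sub_self]; exact IsNilpotent.zero
        · rw [← h1, ← h1', sub_self]; exact IsNilpotent.zero
      exact sub_eq_zero.mp hn.eq_zero
    obtain ⟨a, ha⟩ := hex
    exact ⟨a, ha, fun a' ha' => huniq a a' ha ha'⟩

end LocAWN

section AwnFunctor

theorem isRingAWN_awn (A : Type u) [CommRing A] : HTop.IsRingAWN (algebraMap A (Awn A)) := by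
  refine ⟨(isUnivHomeo_iff A _).mpr uh_awn, ?_⟩
  intro C _ ψ hψ
  let _ := ψ.toAlgebra
  have hC : UH A C := (isUnivHomeo_iff A C).mp hψ
  exact awn_existsUnique hC

theorem isAWNRing_awn (A : Type u) [CommRing A] : HTop.IsAWNRing (Awn A) :=
  Groth.Agent.S7423.awn_isAWNRing (isRingAWN_awn A)

instance isReduced_awn (A : Type u) [CommRing A] : IsReduced (Awn A) :=
  Groth.Agent.S7423.awn_isReduced (isRingAWN_awn A)

theorem awn_hom_ext {A : Type u} [CommRing A] {T : Type*} [CommRing T] [IsReduced T]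
    (g₁ g₂ : Awn A →+* T)
    (h : g₁.comp (algebraMap A (Awn A)) = g₂.comp (algebraMap A (Awn A))) : g₁ = g₂ := by
  let _ : Algebra A T := (g₁.comp (algebraMap A (Awn A))).toAlgebra
  let u : Awn A →ₐ[A] T := { toRingHom := g₁, commutes' := fun a => rfl }
  let v : Awn A →ₐ[A] T := { toRingHom := g₂, commutes' := fun a => (congr($h a)).symm }
  have := eq_of_isRadicial_of_isReduced (A := A) uh_awn.radicial u v
  exact congrArg AlgHom.toRingHom this

theorem UH.baseChange {A B : Type u} [CommRing A] [CommRing B] [Algebra A B] (A' : Type u)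
    [CommRing A'] [Algebra A A'] (h : UH A B) : UH A' (A' ⊗[A] B) := by
  rw [← isUnivHomeo_iff] at h ⊢
  have hpo := CommRingCat.isPushout_tensorProduct A A' B
  have hpb := isPullback_SpecMap_of_isPushout _ _ _ _ hpo
  exact MorphismProperty.of_isPullback hpb.flip h

/-- functoriality of the absolute weak normalization -/
noncomputable def awnMap {A A' : Type u} [CommRing A] [CommRing A'] (ρ : A →+* A') :
    Awn A →+* Awn A' :=
  letI := ρ.toAlgebra
  (awn_existsUnique ((uh_awn (A := A)).baseChange A')).choose.comp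
    (Algebra.TensorProduct.includeRight : Awn A →ₐ[A] A' ⊗[A] Awn A).toRingHom

theorem awnMap_algebraMap {A A' : Type u} [CommRing A] [CommRing A'] (ρ : A →+* A') (a : A) :
    awnMap ρ (algebraMap A (Awn A) a) = algebraMap A' (Awn A') (ρ a) := by
  let _ := ρ.toAlgebra
  have hspec := (awn_existsUnique ((uh_awn (A := A)).baseChange A')).choose_spec.1
  change (awn_existsUnique ((uh_awn (A := A)).baseChange A')).choose
    ((1 : A') ⊗ₜ[A] (algebraMap A (Awn A) a)) = _
  have h1 : ((1 : A') ⊗ₜ[A] (algebraMap A (Awn A) a) : A' ⊗[A] Awn A) =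
      algebraMap A' (A' ⊗[A] Awn A) (ρ a) := by
    rw [Algebra.TensorProduct.algebraMap_apply, Algebra.algebraMap_eq_smul_one,
      ← TensorProduct.smul_tmul]
    congr 1
    rw [Algebra.smul_def, mul_one]
    rfl
  rw [h1]
  exact congr($hspec (ρ a))

theorem awnMap_comp_algebraMap {A A' : Type u} [CommRing A] [CommRing A'] (ρ : A →+* A') :
    (awnMap ρ).comp (algebraMap A (Awn A)) = (algebraMap A' (Awn A')).comp ρ :=
  RingHom.ext fun a => awnMap_algebraMap ρ a

theorem awnMap_id (A : Type u) [CommRing A] : awnMap (RingHom.id A) = RingHom.id (Awn A) := by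
  apply awn_hom_ext
  ext a
  simp only [RingHom.comp_apply, awnMap_algebraMap, RingHom.id_apply]

theorem awnMap_comp {A A' A'' : Type u} [CommRing A] [CommRing A'] [CommRing A'']
    (ρ : A →+* A') (ρ' : A' →+* A'') : awnMap (ρ'.comp ρ) = (awnMap ρ').comp (awnMap ρ) := by
  apply awn_hom_ext
  ext a
  simp only [RingHom.comp_apply, awnMap_algebraMap]

end AwnFunctor

section AwnLoc

theorem isLocalization_awnMap {A A' : Type u} [CommRing A] [CommRing A'] [Algebra A A'] (f : A)
    [IsLocalization.Away f A'] :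
    letI := (awnMap (algebraMap A A')).toAlgebra
    IsLocalization.Away (algebraMap A (Awn A) f) (Awn A') := by
  set f' := algebraMap A (Awn A) f with hf'
  let Wf := Localization.Away f'
  haveI : IsScalarTower A (Awn A) Wf := inferInstance
  have hunit : IsUnit (algebraMap A Wf f) := by
    rw [IsScalarTower.algebraMap_apply A (Awn A) Wf]
    exact IsLocalization.Away.algebraMap_isUnit f'
  letI : Algebra A' Wf := (IsLocalization.Away.lift f hunit).toAlgebra
  haveI : IsScalarTower A A' Wf := IsScalarTower.of_algebraMap_eq (fun a =>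
    (IsLocalization.Away.lift_eq f hunit a).symm)
  haveI : IsLocalization (Algebra.algebraMapSubmonoid (Awn A) (Submonoid.powers f)) Wf := by
    change IsLocalization (Submonoid.map (algebraMap A (Awn A)) (Submonoid.powers f)) Wf
    rw [Submonoid.map_powers]
    infer_instance
  have hUH' : UH A' Wf := UH.localization (Submonoid.powers f) A' Wf uh_awn
  have hAWN : HTop.IsAWNRing Wf :=
    isAWNRing_of_isLocalization (Submonoid.powers f') (isAWNRing_awn A)
  obtain ⟨χ, hχ, -⟩ := awn_existsUnique hUH'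
  have hbij : Function.Bijective χ :=
    (Groth.Agent.S7423.result (algebraMap A' (Awn A')) (isRingAWN_awn A') (algebraMap A' Wf)
      ((isUnivHomeo_iff A' Wf).mpr hUH') χ hχ).mpr hAWN
  have hcomp : χ.comp (algebraMap (Awn A) Wf) = awnMap (algebraMap A A') := by
    apply awn_hom_ext
    refine RingHom.ext fun a => ?_
    simp only [RingHom.comp_apply, awnMap_algebraMap]
    rw [← IsScalarTower.algebraMap_apply A (Awn A) Wf, IsScalarTower.algebraMap_apply A A' Wf]
    exact congr($hχ (algebraMap A A' a))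
  letI := (awnMap (algebraMap A A')).toAlgebra
  let e : Wf ≃ₐ[Awn A] Awn A' := AlgEquiv.ofBijective
    { toRingHom := χ, commutes' := fun w => congr($hcomp w) } hbij
  exact IsLocalization.isLocalization_of_algEquiv (Submonoid.powers f') e

end AwnLoc

end Groth.Agent.Lib.Helper20.UnivHomeo
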