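import Groth.Agent.Lib.Helper20.AwnFunctor
set_option autoImplicit false
universe u
namespace Groth.Agent.Lib.Helper20.AwnScheme
open AlgebraicGeometry CategoryTheory Limits
open Scheme.AffineZariskiSite
open Groth.Agent.Lib.Helper20.UnivHomeo

variable (X : Scheme.{u})

/-- the restriction of the structure presheaf to the affine Zariski site -/
noncomputable abbrev G : X.AffineZariskiSiteᵒᵖ ⥤ CommRingCat.{u} :=
  (toOpensFunctor X).op ⋙ X.presheaf

/-- the presheaf `U ↦ Awn Γ(X, U)` on the affine Zariski site -/
noncomputable def awnDiagram : X.AffineZariskiSiteᵒᵖ ⥤ CommRingCat.{u} where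
  obj U := CommRingCat.of (Awn ((G X).obj U))
  map {U V} i := CommRingCat.ofHom (awnMap ((G X).map i).hom)
  map_id U := by
    rw [(G X).map_id]
    exact congrArg CommRingCat.ofHom (awnMap_id _)
  map_comp i j := by
    rw [(G X).map_comp]
    exact congrArg CommRingCat.ofHom (awnMap_comp _ _)

/-- the structure map -/
noncomputable def awnDiagramMap : G X ⟶ awnDiagram X where
  app U := CommRingCat.ofHom (algebraMap ((G X).obj U) (Awn ((G X).obj U)))
  naturality {U V} i := by
    ext a
    exact (awnMap_algebraMap ((G X).map i).hom a).symm

theorem coequifibered_awnDiagramMap : (awnDiagramMap X).Coequifibered := by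
  refine coequifibered_iff_forall_isLocalizationAway.mpr fun U f => ?_
  have hloc : IsLocalization.Away f Γ(X, X.basicOpen f) := U.2.isLocalization_basicOpen f
  exact isLocalization_awnMap (A := Γ(X, U.1)) (A' := Γ(X, X.basicOpen f)) f

/-- the gluing data -/
noncomputable def awnGlueData := relativeGluingData (coequifibered_awnDiagramMap X)

/-- the absolute weak normalization of a scheme -/
noncomputable def awn : Scheme.{u} := (awnGlueData X).glued

/-- the structure morphism -/
noncomputable def fromAwn : awn X ⟶ X := (awnGlueData X).toBase

end Groth.Agent.Lib.Helper20.AwnScheme
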