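import Groth.Agent.Lib.Helper20.AwnScheme
set_option autoImplicit false
universe u
namespace Groth.Agent.Lib.Helper20.AwnScheme
open AlgebraicGeometry CategoryTheory Limits
open Scheme.AffineZariskiSite
open Groth.Agent.Lib.Helper20.UnivHomeo

variable (X : Scheme.{u})

instance : ((awnGlueData X).functor ⋙ Scheme.forget).IsLocallyDirected :=
  Scheme.Cover.RelativeGluingData.instIsLocallyDirectedI₀CompFunctorForgetOfIsThin ..

/-- the open cover of `awn X` by the spectra of the `Awn Γ(X, U)` -/
noncomputable def awnOpenCover : (awn X).OpenCover := (awnGlueData X).cover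

theorem ι_fromAwn (U : X.AffineZariskiSite) :
    (awnOpenCover X).f U ≫ fromAwn X =
      Spec.map ((awnDiagramMap X).app (.op U)) ≫ U.2.fromSpec :=
  colimit.ι_desc _ _

theorem fromAwn_preimage (U : X.AffineZariskiSite) :
    fromAwn X ⁻¹ᵁ U.1 = ((awnOpenCover X).f U).opensRange := by
  simpa using! (awnGlueData X).toBase_preimage_eq_opensRange_ι U

set_option backward.isDefEq.respectTransparency.types false in
set_option backward.defeqAttrib.useBackward true in
instance isReduced_awnScheme : IsReduced (awn X) :=
  have (i : _) : IsReduced ((awnOpenCover X).X i) := by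
    have : _root_.IsReduced ((awnDiagram X).obj (.op i)) := UnivHomeo.isReduced_awn _
    dsimp [awnOpenCover, awnGlueData, relativeGluingData]
    infer_instance
  .of_openCover _ (awnOpenCover X)

end Groth.Agent.Lib.Helper20.AwnScheme
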