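import Groth.Agent.Lib.Helper20.AwnScheme2
set_option autoImplicit false
universe u
namespace Groth.Agent.Lib.Helper20.AwnScheme
open AlgebraicGeometry CategoryTheory Limits
open Scheme.AffineZariskiSite
open Groth.Agent.Lib.Helper20.UnivHomeo

variable (X : Scheme.{u})

set_option backward.isDefEq.respectTransparency false in
theorem fromAwn_prop (P : MorphismProperty Scheme.{u}) [IsZariskiLocalAtTarget P]
    (hP : ∀ U : X.AffineZariskiSite, P (Spec.map ((awnDiagramMap X).app (.op U)))) :
    P (fromAwn X) := by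
  rw [IsZariskiLocalAtTarget.iff_of_iSup_eq_top (P := P) _ (iSup_affineOpens_eq_top _)]
  intro U
  let e := IsOpenImmersion.isoOfRangeEq (fromAwn X ⁻¹ᵁ U).ι ((awnOpenCover X).f U)
      (by simpa using congr($(fromAwn_preimage X U).1))
  rw [← MorphismProperty.cancel_left_of_respectsIso P e.inv,
    ← MorphismProperty.cancel_right_of_respectsIso P _ U.2.isoSpec.hom]
  convert! hP U
  rw [← cancel_mono U.2.fromSpec]
  simp [IsAffineOpen.isoSpec_hom, e, ι_fromAwn]

theorem isUnivHomeo_fromAwn : FlatMor.IsUnivHomeo (fromAwn X) := by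
  rw [isUnivHomeo_iff_scheme]
  have h : ∀ U : X.AffineZariskiSite,
      FlatMor.IsUnivHomeo (Spec.map ((awnDiagramMap X).app (.op U))) := fun U =>
    (isUnivHomeo_iff _ _).mpr uh_awn
  refine ⟨fromAwn_prop X @IsIntegralHom fun U => ((isUnivHomeo_iff_scheme _).mp (h U)).1,
    fromAwn_prop X @UniversallyInjective fun U => ((isUnivHomeo_iff_scheme _).mp (h U)).2.1,
    fromAwn_prop X @Surjective fun U => ((isUnivHomeo_iff_scheme _).mp (h U)).2.2⟩

end Groth.Agent.Lib.Helper20.AwnScheme
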