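import Groth.Agent.Lib.Helper20.AwnScheme3
set_option autoImplicit false
universe u
namespace Groth.Agent.Lib.Helper20.AwnScheme
open AlgebraicGeometry CategoryTheory Limits
open Scheme.AffineZariskiSite
open Groth.Agent.Lib.Helper20.UnivHomeo

theorem hom_ext_of_univInj {X' Y X : Scheme.{u}} (π : Y ⟶ X) [IsSeparated π]
    [UniversallyInjective π] [IsReduced X'] (h₁ h₂ : X' ⟶ Y) (e : h₁ ≫ π = h₂ ≫ π) : h₁ = h₂ := by
  refine ext_of_fromSpecResidueField_eq h₁ h₂ π Set.univ dense_univ (fun x _ => ?_) e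
  have h01 : UniversallyInjective π ↔ ∀ (K : Type u) [Field K],
      Function.Injective (fun g : Spec (.of K) ⟶ Y ↦ g ≫ π) := (tfae_universallyInjective π).out 0 1
  have := h01.mp inferInstance (X'.residueField x)
  apply this
  simp only [Category.assoc, e]

theorem ringHom_ext_of_uh {A C : Type u} {T : Type*} [CommRing A] [CommRing C] [CommRing T] [Algebra A C]
    (hC : IsRadicial A C) [IsReduced T] (g₁ g₂ : C →+* T)
    (h : g₁.comp (algebraMap A C) = g₂.comp (algebraMap A C)) : g₁ = g₂ := by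
  let _ : Algebra A T := (g₁.comp (algebraMap A C)).toAlgebra
  let u : C →ₐ[A] T := { toRingHom := g₁, commutes' := fun a => rfl }
  let v : C →ₐ[A] T := { toRingHom := g₂, commutes' := fun a => (congr($h a)).symm }
  have := eq_of_isRadicial_of_isReduced (A := A) hC u v
  exact congrArg AlgHom.toRingHom this


section Desc
variable {X : Scheme.{u}} {Y : Scheme.{u}} (π : Y ⟶ X) (hπ : FlatMor.IsUnivHomeo π)
include hπ

theorem isAffineHom_of_uh : IsAffineHom π := by
  have := ((isUnivHomeo_iff_scheme π).mp hπ).1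
  infer_instance

theorem isAffineOpen_preimage (U : X.AffineZariskiSite) : IsAffineOpen (π ⁻¹ᵁ U.toOpens) :=
  have := isAffineHom_of_uh π hπ
  U.2.preimage π

theorem uh_app (U : X.AffineZariskiSite) :
    letI := (π.app U.toOpens).hom.toAlgebra
    UH Γ(X, U.toOpens) Γ(Y, π ⁻¹ᵁ U.toOpens) := by
  letI := (π.app U.toOpens).hom.toAlgebra
  have := isUnivHomeo_SpecMap_app π hπ U.toOpens U.2
  exact (isUnivHomeo_iff _ _).mp this

theorem exists_chi (U : X.AffineZariskiSite) :
    ∃ χ : Γ(Y, π ⁻¹ᵁ U.toOpens) →+* Awn Γ(X, U.toOpens),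
      χ.comp (π.app U.toOpens).hom = algebraMap Γ(X, U.toOpens) (Awn Γ(X, U.toOpens)) := by
  letI := (π.app U.toOpens).hom.toAlgebra
  obtain ⟨χ, h, -⟩ := awn_existsUnique (uh_app π hπ U)
  exact ⟨χ, h⟩

/-- the comparison ring map -/
noncomputable def chi (U : X.AffineZariskiSite) : Γ(Y, π ⁻¹ᵁ U.toOpens) →+* Awn Γ(X, U.toOpens) :=
  (exists_chi π hπ U).choose

theorem chi_comp (U : X.AffineZariskiSite) :
    (chi π hπ U).comp (π.app U.toOpens).hom = algebraMap Γ(X, U.toOpens) (Awn Γ(X, U.toOpens)) :=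
  (exists_chi π hπ U).choose_spec

theorem app_ringHom_ext (U : X.AffineZariskiSite) {T : Type*} [CommRing T] [IsReduced T]
    (g₁ g₂ : Γ(Y, π ⁻¹ᵁ U.toOpens) →+* T)
    (h : g₁.comp (π.app U.toOpens).hom = g₂.comp (π.app U.toOpens).hom) : g₁ = g₂ := by
  letI := (π.app U.toOpens).hom.toAlgebra
  exact ringHom_ext_of_uh (uh_app π hπ U).radicial g₁ g₂ h


theorem chi_naturality' {U V : X.AffineZariskiSite} (ρ : Γ(X, V.toOpens) →+* Γ(X, U.toOpens))
    (σ : Γ(Y, π ⁻¹ᵁ V.toOpens) →+* Γ(Y, π ⁻¹ᵁ U.toOpens))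
    (hσ : σ.comp (π.app V.toOpens).hom = (π.app U.toOpens).hom.comp ρ) :
    (awnMap ρ).comp (chi π hπ V) = (chi π hπ U).comp σ := by
  apply app_ringHom_ext π hπ V
  rw [RingHom.comp_assoc, chi_comp, awnMap_comp_algebraMap, RingHom.comp_assoc, hσ,
    ← RingHom.comp_assoc, chi_comp]

theorem chi_naturality {U V : X.AffineZariskiSite} (i : U ⟶ V) :
    (awnMap ((G X).map i.op).hom).comp (chi π hπ V) =
      (chi π hπ U).comp (Y.presheaf.map (homOfLE (π.preimage_mono
        (Scheme.AffineZariskiSite.toOpens_mono i.le))).op).hom := by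
  refine chi_naturality' π hπ _ _ ?_
  exact congrArg CommRingCat.Hom.hom (π.naturality ((toOpensFunctor X).map i).op).symm


set_option backward.isDefEq.respectTransparency false in
/-- the factorization of `fromAwn X` through a universal homeomorphism `π : Y ⟶ X` -/
noncomputable def awnDesc : awn X ⟶ Y := by
  refine colimit.desc _
    { pt := _
      ι.app U := Spec.map (CommRingCat.ofHom (chi π hπ U)) ≫ (isAffineOpen_preimage π hπ U).fromSpec,
      ι.naturality := ?_ }
  intros U V i
  dsimp [awnGlueData, relativeGluingData]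
  rw [Category.comp_id, ← Spec.map_comp_assoc, ← (isAffineOpen_preimage π hπ V).map_fromSpec (isAffineOpen_preimage π hπ U)
      (homOfLE (π.preimage_mono (Scheme.AffineZariskiSite.toOpens_mono i.le))).op,
      ← Spec.map_comp_assoc]
  congr 2
  ext1
  exact (chi_naturality π hπ i)


set_option backward.defeqAttrib.useBackward true in
set_option backward.isDefEq.respectTransparency false in
theorem awnDesc_comp : awnDesc π hπ ≫ π = fromAwn X := by
  refine colimit.hom_ext fun U ↦ ?_
  dsimp [awnDesc, fromAwn]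
  rw [colimit.ι_desc_assoc, (awnGlueData X).ι_toBase, Category.assoc,
    ← IsAffineOpen.SpecMap_appLE_fromSpec _ U.2 _ le_rfl, ← Spec.map_comp_assoc]
  dsimp [awnGlueData, relativeGluingData, restrictIsoSpec]
  rw [Category.assoc]
  congr 2
  ext1
  rw [← Scheme.Hom.app_eq_appLE]
  exact chi_comp π hπ U

end Desc


theorem isAWNormalization_fromAwn (X : Scheme.{u}) : HTop.IsAWNormalization (fromAwn X) := by
  refine ⟨isUnivHomeo_fromAwn X, fun Y π hπ => ⟨awnDesc π hπ, awnDesc_comp π hπ, fun h hh => ?_⟩⟩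
  have h1 := (isUnivHomeo_iff_scheme π).mp hπ
  have : IsIntegralHom π := h1.1
  have : UniversallyInjective π := h1.2.1
  exact hom_ext_of_univInj π h (awnDesc π hπ) (hh.trans (awnDesc_comp π hπ).symm)

end Groth.Agent.Lib.Helper20.AwnScheme
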