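import Groth.Agent.Lib.Helper20.UnivHomeoPPow
import Groth.Prelude.Def_HTop2
set_option autoImplicit false
universe u
namespace Groth.Agent.Lib.Helper20.UnivHomeo
open AlgebraicGeometry CategoryTheory Limits TensorProduct

section PerfAWN

variable {P : Type u} [CommRing P]

theorem isReduced_of_pow_injective (p : ℕ) (hp : 2 ≤ p)
    (hinj : Function.Injective fun s : P => s ^ p) : IsReduced P :=
  ⟨fun _ hx => eq_zero_of_isNilpotent_of_pow_injective p hp hinj hx⟩

theorem isAWNRing_of_perfect (p : ℕ) (hp : p.Prime) (h0 : (p : P) = 0)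
    (hbij : Function.Bijective fun s : P => s ^ p) : HTop.IsAWNRing P := by
  have hred : IsReduced P := isReduced_of_pow_injective p hp.two_le hbij.1
  have hinj : ∀ a b : P, a ^ p = b ^ p → a = b := fun a b h => hbij.1 h
  refine ⟨?_, ?_⟩
  · intro x y hxy
    -- existence
    have hex : ∃ a : P, x = a ^ 2 ∧ y = a ^ 3 := by
      rcases Nat.even_or_odd' p with ⟨k, hk | hk⟩
      · -- p = 2k, so p = 2 and k = 1
        have hk1 : k = 1 := by
          have h2 : 2 ∣ p := ⟨k, hk⟩
          have := (Nat.prime_dvd_prime_iff_eq Nat.prime_two hp).mp h2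
          omega
        subst hk1
        have hp2 : p = 2 := by omega
        subst hp2
        obtain ⟨a, ha⟩ := hbij.2 x
        simp only at ha
        refine ⟨a, ha.symm, ?_⟩
        apply hinj
        rw [← pow_mul, mul_comm, pow_mul, ha, hxy]
      · have hk1 : 1 ≤ k := by
          have := hp.two_le
          omega
        obtain ⟨k', rfl⟩ := Nat.exists_eq_add_of_le hk1
        obtain ⟨a, ha⟩ := hbij.2 (x ^ k' * y)
        simp only at ha
        refine ⟨a, ?_, ?_⟩
        · apply hinj
          rw [← pow_mul, mul_comm, pow_mul, ha, mul_pow, ← hxy, ← pow_mul, ← pow_add, hk]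
          congr 1; ring
        · apply hinj
          have : (a ^ 3) ^ p = (a ^ p) ^ 3 := by rw [← pow_mul, ← pow_mul, mul_comm]
          rw [this, ha, mul_pow, ← pow_mul, mul_comm k' 3, pow_mul, hxy, ← pow_mul, ← pow_add, hk]
          congr 1; ring
    obtain ⟨a, h2, h3⟩ := hex
    refine ⟨a, ⟨h2, h3⟩, ?_⟩
    rintro a' ⟨h2', h3'⟩
    have hn : IsNilpotent (a' - a) := by
      apply isNilpotent_sub_of_sq_cube
      · rw [← h2, ← h2', sub_self]; exact IsNilpotent.zero
      · rw [← h3, ← h3', sub_self]; exact IsNilpotent.zero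
    exact sub_eq_zero.mp hn.eq_zero
  · intro ℓ hℓ x y hxy
    have huniq : ∀ a a' : P, x = a ^ ℓ ∧ y = (ℓ : P) * a → x = a' ^ ℓ ∧ y = (ℓ : P) * a' → a' = a := by
      rintro a a' ⟨h1, h2⟩ ⟨h1', h2'⟩
      have hn : IsNilpotent (a' - a) := by
        apply isNilpotent_sub_of_prime ℓ hℓ
        · rw [← h2, ← h2', sub_self]; exact IsNilpotent.zero
        · rw [← h1, ← h1', sub_self]; exact IsNilpotent.zero
      exact sub_eq_zero.mp hn.eq_zero
    have hex : ∃ a : P, x = a ^ ℓ ∧ y = (ℓ : P) * a := by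
      by_cases hℓp : ℓ = p
      · subst hℓp
        rw [h0, zero_pow hp.ne_zero, zero_mul] at hxy
        have hy : y = 0 := (IsNilpotent.eq_zero ⟨ℓ, hxy.symm⟩)
        obtain ⟨a, ha⟩ := hbij.2 x
        simp only at ha
        exact ⟨a, ha.symm, by rw [hy, h0, zero_mul]⟩
      · have hcop : Nat.Coprime ℓ p := (Nat.coprime_primes hℓ hp).mpr hℓp
        have hco : IsCoprime (ℓ : ℤ) (p : ℤ) := Nat.isCoprime_iff_coprime.mpr hcop
        obtain ⟨u, v, huv⟩ := hco
        have h := congrArg (fun z : ℤ => (z : P)) huv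
        push_cast at h
        rw [h0, mul_zero, add_zero] at h
        refine ⟨(u : P) * y, ?_, ?_⟩
        · rw [mul_pow, ← hxy, ← mul_assoc, ← mul_pow, h, one_pow, one_mul]
        · rw [← mul_assoc, mul_comm (ℓ : P), h, one_mul]
    obtain ⟨a, ha⟩ := hex
    exact ⟨a, ha, fun a' ha' => huniq a a' ha ha'⟩

end PerfAWN

end Groth.Agent.Lib.Helper20.UnivHomeo
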