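import Groth.Agent.Lib.Helper20.AwnScheme4
import Groth.Agent.S8993
set_option autoImplicit false
universe u
namespace Groth.Agent.Lib.Helper20.AwnScheme
open AlgebraicGeometry CategoryTheory Limits
open Scheme.AffineZariskiSite
open Groth.Agent.Lib.Helper20.UnivHomeo

theorem isUnivHomeo_of_isIso {X Y : Scheme.{u}} (f : X ⟶ Y) [IsIso f] : FlatMor.IsUnivHomeo f := by
  rw [isUnivHomeo_iff_scheme]
  exact ⟨inferInstance, inferInstance, inferInstance⟩

theorem bijective_of_uh_of_isAWNRing {A C : Type u} [CommRing A] [CommRing C] [Algebra A C]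
    (hA : HTop.IsAWNRing A) (hC : UH A C) [IsReduced C] : Function.Bijective (algebraMap A C) := by
  have h0 : FlatMor.IsUnivHomeo (Spec.map (CommRingCat.ofHom (RingHom.id A))) := by
    have : IsIso (Spec.map (CommRingCat.ofHom (RingHom.id A))) := by
      have : CommRingCat.ofHom (RingHom.id A) = 𝟙 _ := rfl
      rw [this]; infer_instance
    exact isUnivHomeo_of_isIso _
  have hid : HTop.IsRingAWN (RingHom.id A) :=
    Groth.Agent.S8993.isRingAWN_of_uh_of_isAWNRing (RingHom.id A) h0 hA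
  obtain ⟨χ, hχ, -⟩ := hid.2 C (algebraMap A C) ((isUnivHomeo_iff A C).mpr hC)
  have h1 : ∀ a, χ (algebraMap A C a) = a := fun a => congr($hχ a)
  have h2 : (algebraMap A C).comp χ = RingHom.id C := by
    apply ringHom_ext_of_uh hC.radicial
    ext a
    simp [h1]
  refine ⟨fun a b hab => ?_, fun c => ⟨χ c, congr($h2 c)⟩⟩
  rw [← h1 a, ← h1 b, hab]


theorem isIso_of_uh_of_isAWN {X Y : Scheme.{u}} (π : Y ⟶ X) (hπ : FlatMor.IsUnivHomeo π)
    (hX : HTop.IsAWN X) [IsReduced Y] : IsIso π := by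
  have haff : IsAffineHom π := isAffineHom_of_uh π hπ
  choose U hxU hU using hX
  have hsup : ⨆ x, (U x : X.Opens) = ⊤ := by
    rw [eq_top_iff]
    intro x _
    exact TopologicalSpace.Opens.mem_iSup.mpr ⟨x, hxU x⟩
  change MorphismProperty.isomorphisms Scheme π
  rw [IsZariskiLocalAtTarget.iff_of_iSup_eq_top (P := MorphismProperty.isomorphisms Scheme) _ hsup]
  intro x
  change IsIso (π ∣_ (U x : X.Opens))
  rw [isIso_morphismRestrict_iff_isIso_app π (U x).2]
  let V : X.AffineZariskiSite := ⟨(U x : X.Opens), (U x).2⟩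
  letI := (π.app V.toOpens).hom.toAlgebra
  have huh := uh_app π hπ V
  have hbij : Function.Bijective (π.app V.toOpens).hom :=
    bijective_of_uh_of_isAWNRing (hU x) huh
  exact (ConcreteCategory.isIso_iff_bijective (π.app V.toOpens)).mpr hbij


theorem exists_affine_isAWNRing {X Z : Scheme.{u}} (j : Z ⟶ X) [IsOpenImmersion j] [IsAffine Z]
    (hZ : HTop.IsAWNRing Γ(Z, ⊤)) (x : X) (hx : x ∈ Set.range j) :
    ∃ U : X.affineOpens, x ∈ (U : X.Opens) ∧ HTop.IsAWNRing Γ(X, U) := by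
  refine ⟨⟨j.opensRange, isAffineOpen_opensRange j⟩, hx, ?_⟩
  have : HTop.IsAWNRing Γ(X, j ''ᵁ ⊤) :=
    Groth.Agent.S7423.isAWNRing_of_equiv (j.appIso ⊤).commRingCatIsoToRingEquiv hZ
  rw [Scheme.Hom.image_top_eq_opensRange] at this
  exact this

theorem isAWN_of_iso {Y Z : Scheme.{u}} (e : Y ≅ Z) (hY : HTop.IsAWN Y) : HTop.IsAWN Z := by
  intro z
  obtain ⟨U, hyU, hU⟩ := hY (e.inv z)
  have : IsAffine (U : Y.Opens) := U.2
  refine exists_affine_isAWNRing ((U : Y.Opens).ι ≫ e.hom) ?_ z ⟨⟨e.inv z, hyU⟩, ?_⟩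
  · exact Groth.Agent.S7423.isAWNRing_of_equiv (U : Y.Opens).topIso.commRingCatIsoToRingEquiv hU
  · simp

set_option backward.isDefEq.respectTransparency.types false in
set_option backward.defeqAttrib.useBackward true in
theorem isAWN_awn (X : Scheme.{u}) : HTop.IsAWN (awn X) := by
  intro x
  obtain ⟨U, y, hy⟩ := (awnOpenCover X).exists_eq x
  have : IsAffine ((awnOpenCover X).X U) := by
    dsimp [awnOpenCover, awnGlueData, relativeGluingData]
    infer_instance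
  refine exists_affine_isAWNRing ((awnOpenCover X).f U) ?_ x ⟨y, hy⟩
  have h1 : HTop.IsAWNRing (Awn Γ(X, U.toOpens)) := isAWNRing_awn _
  exact Groth.Agent.S7423.isAWNRing_of_equiv
    (Scheme.ΓSpecIso (CommRingCat.of (Awn Γ(X, U.toOpens)))).commRingCatIsoToRingEquiv h1


theorem universallyInjective_of_comp {X Y Z : Scheme.{u}} (f : X ⟶ Y) (g : Y ⟶ Z)
    [UniversallyInjective (f ≫ g)] : UniversallyInjective f := by
  have h01 : UniversallyInjective (f ≫ g) ↔ ∀ (K : Type u) [Field K],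
      Function.Injective (fun t : Spec (.of K) ⟶ X ↦ t ≫ (f ≫ g)) :=
    (tfae_universallyInjective (f ≫ g)).out 0 1
  have h01' : UniversallyInjective f ↔ ∀ (K : Type u) [Field K],
      Function.Injective (fun t : Spec (.of K) ⟶ X ↦ t ≫ f) :=
    (tfae_universallyInjective f).out 0 1
  rw [h01']
  intro K _ t₁ t₂ ht
  apply h01.mp inferInstance K
  change t₁ ≫ f = t₂ ≫ f at ht
  change t₁ ≫ f ≫ g = t₂ ≫ f ≫ g
  rw [← Category.assoc, ht, Category.assoc]

theorem isUnivHomeo_of_comp_left {X' Y X : Scheme.{u}} (h : X' ⟶ Y) (π : Y ⟶ X)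
    (hπ : FlatMor.IsUnivHomeo π) (hν : FlatMor.IsUnivHomeo (h ≫ π)) : FlatMor.IsUnivHomeo h := by
  have h1 := (isUnivHomeo_iff_scheme π).mp hπ
  have h2 := (isUnivHomeo_iff_scheme (h ≫ π)).mp hν
  have : IsIntegralHom π := h1.1
  have : UniversallyInjective π := h1.2.1
  have : IsIntegralHom (h ≫ π) := h2.1
  have : UniversallyInjective (h ≫ π) := h2.2.1
  have : Surjective (h ≫ π) := h2.2.2
  rw [isUnivHomeo_iff_scheme]
  refine ⟨IsIntegralHom.of_comp h π, universallyInjective_of_comp h π, ⟨fun y => ?_⟩⟩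
  obtain ⟨x', hx'⟩ := (h ≫ π).surjective (π y)
  exact ⟨x', π.injective (by simpa using hx')⟩

theorem isAWNormalization_unique {X X' X'' : Scheme.{u}} (ν : X' ⟶ X) (ν' : X'' ⟶ X)
    (hν : HTop.IsAWNormalization ν) (hν' : HTop.IsAWNormalization ν') :
    ∃ e : X' ≅ X'', e.hom ≫ ν' = ν := by
  obtain ⟨h₁, hh₁, -⟩ := hν.2 X'' ν' hν'.1
  obtain ⟨h₂, hh₂, -⟩ := hν'.2 X' ν hν.1
  obtain ⟨t, -, ht⟩ := hν.2 X' ν hν.1
  obtain ⟨t', -, ht'⟩ := hν'.2 X'' ν' hν'.1
  refine ⟨⟨h₁, h₂, ?_, ?_⟩, hh₁⟩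
  · rw [ht (h₁ ≫ h₂) (by change (h₁ ≫ h₂) ≫ ν = ν; rw [Category.assoc, hh₂, hh₁]),
      ht (𝟙 _) (Category.id_comp _)]
  · rw [ht' (h₂ ≫ h₁) (by change (h₂ ≫ h₁) ≫ ν' = ν'; rw [Category.assoc, hh₁, hh₂]),
      ht' (𝟙 _) (Category.id_comp _)]

theorem isAWNormalization_id_of_isIso {X X' : Scheme.{u}} (ν : X' ⟶ X)
    (hν : HTop.IsAWNormalization ν) [IsIso ν] : HTop.IsAWNormalization (𝟙 X) := by
  refine ⟨isUnivHomeo_of_isIso _, fun Y π hπ => ?_⟩
  obtain ⟨h, hh, hu⟩ := hν.2 Y π hπ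
  refine ⟨inv ν ≫ h, by change (inv ν ≫ h) ≫ π = 𝟙 X; rw [Category.assoc, hh, IsIso.inv_hom_id],
    fun g hg => ?_⟩
  have := hu (ν ≫ g) (by change (ν ≫ g) ≫ π = ν; rw [Category.assoc, hg, Category.comp_id])
  rw [← this, IsIso.inv_hom_id_assoc]


theorem isAWN_iff_id (X : Scheme.{u}) : HTop.IsAWN X ↔ HTop.IsAWNormalization (𝟙 X) := by
  constructor
  · intro hX
    have : IsIso (fromAwn X) := isIso_of_uh_of_isAWN _ (isUnivHomeo_fromAwn X) hX
    exact isAWNormalization_id_of_isIso _ (isAWNormalization_fromAwn X)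
  · intro h
    obtain ⟨e, -⟩ := isAWNormalization_unique _ _ h (isAWNormalization_fromAwn X)
    exact isAWN_of_iso e.symm (isAWN_awn X)

theorem isAWN_iff_forall (X : Scheme.{u}) : HTop.IsAWN X ↔
    ∀ (Y : Scheme.{u}) (π : Y ⟶ X), FlatMor.IsUnivHomeo π → AlgebraicGeometry.IsReduced Y → IsIso π := by
  constructor
  · intro hX Y π hπ _
    exact isIso_of_uh_of_isAWN π hπ hX
  · intro h
    have := h _ (fromAwn X) (isUnivHomeo_fromAwn X) inferInstance
    exact isAWN_of_iso (asIso (fromAwn X)) (isAWN_awn X)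

theorem isIso_iff_isAWN {X X' Y : Scheme.{u}} (ν : X' ⟶ X)
    (hν : HTop.IsAWNormalization ν) (π : Y ⟶ X) (hπ : FlatMor.IsUnivHomeo π) (h : X' ⟶ Y)
    (hh : h ≫ π = ν) : IsIso h ↔ HTop.IsAWN Y := by
  obtain ⟨e, -⟩ := isAWNormalization_unique _ _ hν (isAWNormalization_fromAwn X)
  have hX' : HTop.IsAWN X' := isAWN_of_iso e.symm (isAWN_awn X)
  have : IsReduced X' := isReduced_of_isOpenImmersion e.hom
  constructor
  · intro _
    exact isAWN_of_iso (asIso h) hX'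
  · intro hY
    exact isIso_of_uh_of_isAWN h (isUnivHomeo_of_comp_left h π hπ (hh ▸ hν.1)) hY

end Groth.Agent.Lib.Helper20.AwnScheme
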