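import Mathlib
import Groth.Prelude.Def_BlowUp2

/-!
# The affine blow-up algebra of a polynomial ring along coordinates is a polynomial ring (helper20)

`T = R[σ]`, `s₀ ∉ Sset ⊆ σ`, `J = (X_s : s ∈ {s₀} ∪ Sset)`, `a = X_{s₀}`.  Then
`T[J/a] ≅ T` as `R`-algebras (`X_s ↦ X_s / a` for `s ∈ Sset`, `X_s ↦ X_s` otherwise);
in particular `R → T[J/a]` is smooth when `σ` is finite.
-/

set_option autoImplicit false
universe u
open MvPolynomial

namespace Groth.Agent.Lib.Helper20.BlowAff

variable {R : Type u} [CommRing R] {σ : Type u} (s₀ : σ) (Sset : Set σ)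

/-- The ideal generated by the chosen coordinates. -/
noncomputable def J : Ideal (MvPolynomial σ R) := Ideal.span (X '' (insert s₀ Sset))

/-- `x / a`. -/
noncomputable abbrev frac (x : MvPolynomial σ R) : Localization.Away (X s₀ : MvPolynomial σ R) :=
  IsLocalization.mk' (Localization.Away (X s₀ : MvPolynomial σ R)) x
    (⟨X s₀, Submonoid.mem_powers _⟩ : Submonoid.powers (X s₀ : MvPolynomial σ R))

open Classical in
/-- The parametrisation of the chart. -/
noncomputable def φ : MvPolynomial σ R →ₐ[R] Localization.Away (X s₀ : MvPolynomial σ R) :=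
  aeval (fun s => if s ∈ Sset then frac s₀ (X s)
    else algebraMap (MvPolynomial σ R) (Localization.Away (X s₀ : MvPolynomial σ R)) (X s))

open Classical in
/-- The substitution `X_s ↦ a X_s` (`s ∈ Sset`). -/
noncomputable def χ₀ : MvPolynomial σ R →ₐ[R] MvPolynomial σ R :=
  aeval (fun s => if s ∈ Sset then X s₀ * X s else X s)

variable {s₀ Sset}

theorem φ_X_of_mem {s : σ} (hs : s ∈ Sset) : φ (R := R) s₀ Sset (X s) = frac s₀ (X s) := by
  classical
  rw [φ, aeval_X, if_pos hs]

theorem φ_X_of_notMem {s : σ} (hs : s ∉ Sset) :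
    φ (R := R) s₀ Sset (X s) = algebraMap _ _ (X s : MvPolynomial σ R) := by
  classical
  rw [φ, aeval_X, if_neg hs]

theorem φ_C (r : R) : φ (R := R) s₀ Sset (C r) = algebraMap (MvPolynomial σ R) _ (C r) := by
  rw [← algebraMap_eq, AlgHom.commutes, IsScalarTower.algebraMap_apply R (MvPolynomial σ R)]

theorem χ₀_X_of_mem {s : σ} (hs : s ∈ Sset) : χ₀ (R := R) s₀ Sset (X s) = X s₀ * X s := by
  classical
  rw [χ₀, aeval_X, if_pos hs]

theorem χ₀_X_of_notMem {s : σ} (hs : s ∉ Sset) : χ₀ (R := R) s₀ Sset (X s) = X s := by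
  classical
  rw [χ₀, aeval_X, if_neg hs]

theorem isUnit_a : IsUnit (algebraMap (MvPolynomial σ R)
    (Localization.Away (X s₀ : MvPolynomial σ R)) (X s₀)) :=
  IsLocalization.Away.algebraMap_isUnit _

theorem frac_mul_a (x : MvPolynomial σ R) :
    frac s₀ x * algebraMap (MvPolynomial σ R) (Localization.Away (X s₀ : MvPolynomial σ R)) (X s₀) =
      algebraMap _ _ x :=
  IsLocalization.mk'_spec _ x _

variable (hs₀ : s₀ ∉ Sset)
include hs₀

/-- The left inverse of `φ` after localisation. -/
noncomputable def χ : Localization.Away (X s₀ : MvPolynomial σ R) →+*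
    Localization.Away (X s₀ : MvPolynomial σ R) :=
  IsLocalization.Away.lift (X s₀ : MvPolynomial σ R)
    (g := (algebraMap (MvPolynomial σ R) (Localization.Away (X s₀ : MvPolynomial σ R))).comp
      (χ₀ (R := R) s₀ Sset).toRingHom)
    (by
      show IsUnit (algebraMap (MvPolynomial σ R) _ (χ₀ (R := R) s₀ Sset (X s₀)))
      rw [χ₀_X_of_notMem hs₀]
      exact isUnit_a)

theorem χ_algebraMap (t : MvPolynomial σ R) :
    χ (R := R) hs₀ (algebraMap _ _ t) = algebraMap _ _ (χ₀ (R := R) s₀ Sset t) := by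
  rw [χ, IsLocalization.Away.lift_eq]
  rfl

theorem χ_φ (p : MvPolynomial σ R) :
    χ (R := R) hs₀ (φ (R := R) s₀ Sset p) = algebraMap _ _ p := by
  have h : (χ (R := R) hs₀).comp (φ (R := R) s₀ Sset).toRingHom =
      algebraMap (MvPolynomial σ R) (Localization.Away (X s₀ : MvPolynomial σ R)) := by
    apply MvPolynomial.ringHom_ext
    · intro r
      show χ (R := R) hs₀ (φ (R := R) s₀ Sset (C r)) = _
      rw [φ_C, χ_algebraMap]
      congr 1
      rw [← algebraMap_eq, AlgHom.commutes]
    · intro s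
      show χ (R := R) hs₀ (φ (R := R) s₀ Sset (X s)) = _
      by_cases hs : s ∈ Sset
      · rw [φ_X_of_mem hs]
        have h1 := congrArg (χ (R := R) hs₀) (frac_mul_a (R := R) (s₀ := s₀) (X s))
        rw [map_mul, χ_algebraMap, χ_algebraMap, χ₀_X_of_notMem hs₀, χ₀_X_of_mem hs, map_mul,
          mul_comm] at h1
        exact (isUnit_a (R := R) (s₀ := s₀)).mul_left_cancel h1
      · rw [φ_X_of_notMem hs, χ_algebraMap, χ₀_X_of_notMem hs]
  exact congrArg (fun ψ : MvPolynomial σ R →+* _ => ψ p) h

theorem injective_algebraMap : Function.Injective (algebraMap (MvPolynomial σ R)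
    (Localization.Away (X s₀ : MvPolynomial σ R))) := by
  apply IsLocalization.injective (Localization.Away (X s₀ : MvPolynomial σ R))
    (M := Submonoid.powers (X s₀ : MvPolynomial σ R))
  rw [Submonoid.powers_le]
  exact (isRegular_X (R := R) (n := s₀)).mem_nonZeroDivisors

omit hs₀ in
theorem injective_algebraMap' : Function.Injective (algebraMap (MvPolynomial σ R)
    (Localization.Away (X s₀ : MvPolynomial σ R))) := by
  apply IsLocalization.injective (Localization.Away (X s₀ : MvPolynomial σ R))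
    (M := Submonoid.powers (X s₀ : MvPolynomial σ R))
  rw [Submonoid.powers_le]
  exact (isRegular_X (R := R) (n := s₀)).mem_nonZeroDivisors

theorem φ_injective : Function.Injective (φ (R := R) s₀ Sset) := by
  intro p p' h
  apply injective_algebraMap' (R := R) (s₀ := s₀)
  rw [← χ_φ hs₀, ← χ_φ hs₀, h]

theorem algebraMap_mem_range (t : MvPolynomial σ R) :
    algebraMap _ _ t ∈ (φ (R := R) s₀ Sset).range := by
  induction t using MvPolynomial.induction_on with
  | C r => exact ⟨C r, φ_C r⟩
  | add p q hp hq => rw [map_add]; exact Subalgebra.add_mem _ hp hq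
  | mul_X p s hp =>
    rw [map_mul]
    refine Subalgebra.mul_mem _ hp ?_
    by_cases hs : s ∈ Sset
    · refine ⟨X s₀ * X s, ?_⟩
      show φ (R := R) s₀ Sset (X s₀ * X s) = _
      rw [map_mul, φ_X_of_notMem hs₀, φ_X_of_mem hs, mul_comm, frac_mul_a]
    · exact ⟨X s, φ_X_of_notMem hs⟩

theorem frac_mem_range {x : MvPolynomial σ R} (hx : x ∈ J (R := R) s₀ Sset) :
    frac s₀ x ∈ (φ (R := R) s₀ Sset).range := by
  rw [J] at hx
  induction hx using Submodule.span_induction with
  | mem x hx =>
    obtain ⟨s, hs, rfl⟩ := hx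
    rcases hs with rfl | hs
    · refine ⟨1, ?_⟩
      rw [map_one]
      exact (IsLocalization.mk'_self _ _).symm
    · exact ⟨X s, φ_X_of_mem hs⟩
  | zero =>
    refine ⟨0, ?_⟩
    rw [map_zero]
    exact (IsLocalization.mk'_zero _).symm
  | add x y _ _ hx hy =>
    have : frac s₀ (x + y) = frac s₀ x + frac s₀ y := by
      rw [frac, frac, frac, IsLocalization.mk'_eq_mul_mk'_one x, IsLocalization.mk'_eq_mul_mk'_one y,
        IsLocalization.mk'_eq_mul_mk'_one (x + y), map_add, add_mul]
    rw [this]
    exact Subalgebra.add_mem _ hx hy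
  | smul t x _ hx =>
    have : frac s₀ (t • x) = algebraMap _ _ t * frac s₀ x := by
      rw [smul_eq_mul, frac, IsLocalization.mul_mk'_eq_mk'_of_mul]
    rw [this]
    exact Subalgebra.mul_mem _ (algebraMap_mem_range hs₀ t) hx

theorem mem_range_iff (y : Localization.Away (X s₀ : MvPolynomial σ R)) :
    y ∈ (φ (R := R) s₀ Sset).range ↔
      y ∈ BlowUp.affineAlgebra (MvPolynomial σ R) (J (R := R) s₀ Sset) (X s₀) := by
  classical
  constructor
  · intro hy
    rw [φ, ← Algebra.adjoin_range_eq_range_aeval] at hy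
    induction hy using Algebra.adjoin_induction with
    | mem y hy =>
      obtain ⟨s, rfl⟩ := hy
      dsimp only
      split_ifs with hs
      · exact Algebra.subset_adjoin ⟨X s, Ideal.subset_span ⟨s, Set.mem_insert_of_mem _ hs, rfl⟩, rfl⟩
      · exact Subalgebra.algebraMap_mem _ _
    | algebraMap r =>
      rw [IsScalarTower.algebraMap_apply R (MvPolynomial σ R)]
      exact Subalgebra.algebraMap_mem _ _
    | add x y _ _ hx hy => exact Subalgebra.add_mem _ hx hy
    | mul x y _ _ hx hy => exact Subalgebra.mul_mem _ hx hy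
  · intro hy
    unfold BlowUp.affineAlgebra at hy
    induction hy using Algebra.adjoin_induction with
    | mem y hy =>
      obtain ⟨x, hx, rfl⟩ := hy
      exact frac_mem_range hs₀ hx
    | algebraMap t => exact algebraMap_mem_range hs₀ t
    | add x y _ _ hx hy => exact Subalgebra.add_mem _ hx hy
    | mul x y _ _ hx hy => exact Subalgebra.mul_mem _ hx hy

/-- The chart is a polynomial ring. -/
noncomputable def equiv : MvPolynomial σ R ≃+*
    BlowUp.affineAlgebra (MvPolynomial σ R) (J (R := R) s₀ Sset) (X s₀) :=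
  RingEquiv.ofBijective
    ((φ (R := R) s₀ Sset).toRingHom.codRestrict
      (BlowUp.affineAlgebra (MvPolynomial σ R) (J (R := R) s₀ Sset) (X s₀)).toSubring
      (fun p => (mem_range_iff hs₀ _).1 ⟨p, rfl⟩))
    ⟨fun p p' h => φ_injective hs₀ (congrArg Subtype.val h), fun y => by
      obtain ⟨p, hp⟩ := (mem_range_iff hs₀ y.1).2 y.2
      exact ⟨p, Subtype.ext hp⟩⟩

theorem equiv_C (r : R) : equiv (R := R) hs₀ (C r) =
    algebraMap (MvPolynomial σ R) _ (C r) := by
  apply Subtype.ext
  exact φ_C r

/-- `R → T[J/a]` is smooth. -/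
theorem smooth [Finite σ] :
    ((algebraMap (MvPolynomial σ R)
      (BlowUp.affineAlgebra (MvPolynomial σ R) (J (R := R) s₀ Sset) (X s₀))).comp
        (C : R →+* MvPolynomial σ R)).Smooth := by
  have h1 : (algebraMap (MvPolynomial σ R)
      (BlowUp.affineAlgebra (MvPolynomial σ R) (J (R := R) s₀ Sset) (X s₀))).comp
        (C : R →+* MvPolynomial σ R) =
      ((equiv (R := R) hs₀ : MvPolynomial σ R →+* _)).comp (C : R →+* MvPolynomial σ R) := by
    exact RingHom.ext fun r => (equiv_C hs₀ r).symm
  rw [h1]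
  refine RingHom.Smooth.comp ?_ (RingHom.Smooth.of_bijective (equiv (R := R) hs₀).bijective)
  have : (C : R →+* MvPolynomial σ R) = algebraMap R (MvPolynomial σ R) := rfl
  rw [this, RingHom.smooth_algebraMap]
  exact ⟨inferInstance, inferInstance⟩

end Groth.Agent.Lib.Helper20.BlowAff
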