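import Mathlib
import Groth.Agent.S2894
import Groth.Agent.Lib.Helper20.BlowReg
import Groth.Agent.Lib.Helper82.EffCartierCompl

/-!
# Blow-up of a regular scheme along a regular centre is regular (helper20)
-/

set_option autoImplicit false
universe u
open CategoryTheory CategoryTheory.Limits AlgebraicGeometry TopologicalSpace

namespace Groth.Agent.Lib.Helper20.BlowPt

open Groth.Agent.Lib.Helper82 Groth.Agent.Lib.Helper20.BlowReg

/-- Stalks of `Spec` of a regular local ring are regular. -/
theorem regular_stalk_Spec (R : Type u) [CommRing R] [IsRegularLocalRing R]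
    (x : Spec (CommRingCat.of R)) :
    IsRegularLocalRing ((Spec (CommRingCat.of R)).presheaf.stalk x) := by
  rw [Groth.Agent.Lib.Helper77.RegularScheme.stalk_regular_iff (isAffineOpen_top _) x trivial]
  haveI : IsRegularLocalRing Γ(Spec (CommRingCat.of R), ⊤) :=
    IsRegularLocalRing.of_ringEquiv
      (Scheme.ΓSpecIso (CommRingCat.of R)).symm.commRingCatIsoToRingEquiv
  exact Groth.Agent.S0564.result _ _

/-- The blow-up of a regular locally Noetherian scheme along a (quasi-)regularly immersed regular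
centre is regular. -/
theorem regular_blowUp {X X' Y : Scheme.{u}} [IsLocallyNoetherian X] (i : Y ⟶ X)
    [IsClosedImmersion i]
    (hreg : ∀ z : Y, ∃ (U : X.Opens) (hU : IsAffineOpen U), i z ∈ U ∧
      ∃ (m : ℕ) (f₀ : Fin m → Γ(X, U)), CAlgX.IsQuasiRegular f₀ ∧
        i.ker.ideal ⟨U, hU⟩ = Ideal.span (Set.range f₀))
    (hX : ∀ x : X, IsRegularLocalRing (X.presheaf.stalk x))
    (hY : ∀ y : Y, IsRegularLocalRing (Y.presheaf.stalk y))
    (b : X' ⟶ X) (hb : BlowUp.IsBlowUp b i.ker) (x' : X') :
    IsRegularLocalRing (X'.presheaf.stalk x') := by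
  haveI : IsLocallyNoetherian X' := isLocallyNoetherian_of_isBlowUp i.ker b hb
  obtain ⟨E, hE⟩ : ∃ E : X'.IdealSheafData, E = i.ker.comap b := ⟨_, rfl⟩
  have hEc : BlowUp.IsEffCartierIdeal E := hE ▸ hb.1
  by_cases hx : x' ∈ E.support
  · -- on the exceptional divisor
    have hle : i.ker ≤ (E.subschemeι ≫ b).ker := by
      rw [← Scheme.IdealSheafData.map_ker, Scheme.IdealSheafData.ker_subschemeι, hE]
      exact Scheme.IdealSheafData.le_map_comap _ _
    let g : E.subscheme ⟶ Y := IsClosedImmersion.lift i (E.subschemeι ≫ b) hle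
    have hg : g ≫ i = E.subschemeι ≫ b := IsClosedImmersion.lift_fac _ _ _
    haveI : Smooth g := Groth.Agent.S2894.smooth_exceptional i hreg b hb E hE g hg
    obtain ⟨y'', rfl⟩ : ∃ y'' : E.subscheme, E.subschemeι y'' = x' := by
      have : x' ∈ Set.range E.subschemeι := by
        rw [Scheme.IdealSheafData.range_subschemeι]; exact hx
      exact this
    have hreg1 : IsRegularLocalRing (E.subscheme.presheaf.stalk y'') := by
      rw [Groth.Agent.Lib.Helper30.SmoothRegular.stalk_regular_iff_of_smooth g y'']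
      exact hY _
    obtain ⟨V', hyV', t, ht, htE⟩ := hEc (E.subschemeι y'')
    have hreg2 : IsRegularLocalRing (X'.presheaf.stalk (E.subschemeι y'') ⧸
        Ideal.span {(X'.presheaf.germ V'.1 (E.subschemeι y'') hyV').hom t}) :=
      IsRegularLocalRing.of_ringEquiv
        (Groth.Agent.Lib.Helper64.SubschemeStalk.stalkEquivSpan E V' y'' hyV' t htE).symm
    exact regular_of_quotient_nzd _ _
      (Groth.Agent.Lib.Helper64.SubschemeStalk.germ_mem_nonZeroDivisors V'.2 _ hyV' t ht) hreg2
  · -- away from the exceptional divisor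
    have hx₁ : b x' ∉ i.ker.support := by
      intro h
      apply hx
      rw [hE, Scheme.IdealSheafData.support_comap]
      exact h
    haveI hiso : IsIso (b ∣_ i.ker.support.compl) := isIso_morphismRestrict_of_isBlowUp i.ker b hb
    let p : ↥((b ⁻¹ᵁ i.ker.support.compl : X'.Opens) : Scheme.{u}) := ⟨x', hx₁⟩
    have h1 : IsIso ((b ∣_ i.ker.support.compl).stalkMap p) := inferInstance
    have h2 : IsIso (b.stalkMap x') :=
      ((MorphismProperty.isomorphisms CommRingCat).arrow_mk_iso_iff
        (morphismRestrictStalkMap b i.ker.support.compl p)).1 h1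
    haveI := hX (b x')
    exact IsRegularLocalRing.of_ringEquiv (R := X.presheaf.stalk (b x'))
      (asIso (b.stalkMap x')).commRingCatIsoToRingEquiv

theorem irreducible_blowUp {X X' : Scheme.{u}} [IrreducibleSpace X] (𝓘 : X.IdealSheafData)
    (b : X' ⟶ X) (hb : BlowUp.IsBlowUp b 𝓘) (hne : ∃ x : X, x ∉ 𝓘.support) :
    IrreducibleSpace X' := by
  obtain ⟨W, hWdef⟩ : ∃ W : X.Opens, W = 𝓘.support.compl := ⟨_, rfl⟩
  haveI hiso : IsIso (b ∣_ W) := hWdef ▸ isIso_morphismRestrict_of_isBlowUp 𝓘 b hb
  have hW : IsIrreducible (W : Set X) := by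
    refine ⟨?_, (IrreducibleSpace.isIrreducible_univ X).isPreirreducible.open_subset W.isOpen
      (Set.subset_univ _)⟩
    obtain ⟨x, hx⟩ := hne
    exact ⟨x, by rw [hWdef]; exact hx⟩
  haveI : IrreducibleSpace ↥W := Subtype.irreducibleSpace hW
  have hsurj : Function.Surjective (inv (b ∣_ W)) := by
    intro y
    refine ⟨(b ∣_ W) y, ?_⟩
    rw [← Scheme.Hom.comp_apply, IsIso.hom_inv_id]
    rfl
  have hirr : IsIrreducible ((b ⁻¹ᵁ W : X'.Opens) : Set X') := by
    have h1 := (IrreducibleSpace.isIrreducible_univ ↥W).image (inv (b ∣_ W) ≫ (b ⁻¹ᵁ W).ι)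
      (inv (b ∣_ W) ≫ (b ⁻¹ᵁ W).ι).continuous.continuousOn
    have h2 : (inv (b ∣_ W) ≫ (b ⁻¹ᵁ W).ι) '' Set.univ = ((b ⁻¹ᵁ W : X'.Opens) : Set X') := by
      rw [Set.image_univ]
      ext y
      constructor
      · rintro ⟨z, rfl⟩
        rw [Scheme.Hom.comp_apply]
        exact (inv (b ∣_ W) z).2
      · intro hy
        obtain ⟨z, hz⟩ := hsurj ⟨y, hy⟩
        refine ⟨z, ?_⟩
        rw [Scheme.Hom.comp_apply, hz]
        rfl
    exact (congrArg IsIrreducible h2).mp h1
  have hdense : Dense ((b ⁻¹ᵁ W : X'.Opens) : Set X') := by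
    haveI h1 := isSchemeTheoreticallyDominant_ι_compl_support (𝓘.comap b) hb.1
    haveI h0 := isAffineHom_ι_compl_support (𝓘.comap b) hb.1
    haveI : QuasiCompact (Scheme.Opens.ι (X := X') (𝓘.comap b).support.compl) := inferInstance
    haveI : IsDominant (Scheme.Opens.ι (X := X') (𝓘.comap b).support.compl) := inferInstance
    have h2 : Dense (Set.range (Scheme.Opens.ι (X := X') (𝓘.comap b).support.compl)) :=
      (Scheme.Opens.ι (X := X') (𝓘.comap b).support.compl).denseRange
    rw [Scheme.Opens.range_ι] at h2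
    have h3 : ((𝓘.comap b).support.compl : Set X') = ((b ⁻¹ᵁ W : X'.Opens) : Set X') := by
      rw [hWdef, Scheme.IdealSheafData.support_comap]
      rfl
    rwa [h3] at h2
  rw [irreducibleSpace_def]
  have := hirr.closure
  rwa [hdense.closure_eq] at this

end Groth.Agent.Lib.Helper20.BlowPt
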