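import Mathlib
import Groth.Agent.Lib.Helper20.BlowPt
import Groth.Agent.Lib.Helper99.DSeqD
import Groth.Agent.Lib.Helper56.CMRing
import Groth.Agent.Lib.Helper24.Linkage2
import Groth.Agent.Lib.Helper72.CMPoint
import Groth.Agent.Lib.Helper11.CMLocalize

/-!
# Blow-up of a Cohen–Macaulay scheme along a regularly immersed centre is Cohen–Macaulay (helper20)
-/

set_option autoImplicit false
universe u
open CategoryTheory CategoryTheory.Limits AlgebraicGeometry TopologicalSpace

namespace Groth.Agent.Lib.Helper20.BlowCM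

open LocCoh IsLocalRing RingTheory.Sequence
open Groth.Agent.Lib.Helper82 Groth.Agent.Lib.Helper20.BlowReg

/-- The quotient of a CM ring by a weakly regular sequence is a CM ring. -/
theorem isCohenMacaulayRing_quot_ofList (A : Type u) [CommRing A] (hA : IsCohenMacaulayRing A)
    (rs : List A) (hreg : IsWeaklyRegular A rs) : IsCohenMacaulayRing (A ⧸ Ideal.ofList rs) := by
  haveI : IsNoetherianRing A := hA.toIsNoetherian
  refine { isCohenMacaulayLocalRing_localization := ?_ }
  intro q _
  let Q : Ideal A := q.comap (Ideal.Quotient.mk (Ideal.ofList rs))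
  haveI : Q.IsPrime := Ideal.comap_isPrime _ _
  haveI hT : IsCohenMacaulayLocalRing (Localization.AtPrime Q) :=
    hA.isCohenMacaulayLocalRing_localization Q
  have hreg' : IsWeaklyRegular (Localization.AtPrime Q)
      (rs.map (algebraMap A (Localization.AtPrime Q))) :=
    hreg.of_isLocalization (Localization.AtPrime Q) Q.primeCompl
  have hmem : ∀ x ∈ rs.map (algebraMap A (Localization.AtPrime Q)),
      x ∈ maximalIdeal (Localization.AtPrime Q) := by
    intro x hx
    obtain ⟨r, hr, rfl⟩ := List.mem_map.1 hx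
    rw [IsLocalization.AtPrime.to_map_mem_maximal_iff (Localization.AtPrime Q) Q]
    show Ideal.Quotient.mk (Ideal.ofList rs) r ∈ q
    have hr' : r ∈ Ideal.ofList rs := Ideal.subset_span (show r ∈ {x | x ∈ rs} from hr)
    rw [Ideal.Quotient.eq_zero_iff_mem.2 hr']
    exact zero_mem _
  have e := Groth.Agent.Lib.Helper24.Linkage2.locQuotEquiv A (Ideal.ofList rs) Q q rfl
  have h := (Groth.Agent.Lib.Helper77.ProjNormal.quot_CM (Localization.AtPrime Q)
    (rs.map (algebraMap A (Localization.AtPrime Q))) hmem hreg'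
    ((Ideal.ofList rs).map (algebraMap A (Localization.AtPrime Q))) (Ideal.map_ofList _ _)
    (Localization.AtPrime q) e.symm).1
  exact { supportDim_eq_depth := by rw [Module.supportDim_self_eq_ringKrullDim]; exact h }

/-- Sections over an affine open of a locally Noetherian scheme with CM stalks form a CM ring. -/
theorem isCohenMacaulayRing_Γ {X : Scheme.{u}} [IsLocallyNoetherian X] {U : X.Opens}
    (hU : IsAffineOpen U) (h : ∀ x ∈ U, IsCohenMacaulayLocalRing (X.presheaf.stalk x)) :
    IsCohenMacaulayRing Γ(X, U) := by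
  haveI : IsNoetherianRing Γ(X, U) := IsLocallyNoetherian.component_noetherian ⟨U, hU⟩
  refine { isCohenMacaulayLocalRing_localization := ?_ }
  intro p _
  let y : PrimeSpectrum Γ(X, U) := ⟨p, inferInstance⟩
  have hyU : hU.fromSpec y ∈ U := by
    have h1 : Set.range hU.fromSpec = (U : Set X) := hU.range_fromSpec
    have h2 : hU.fromSpec y ∈ Set.range hU.fromSpec := Set.mem_range_self _
    rw [h1] at h2
    exact h2
  have hy : hU.primeIdealOf ⟨hU.fromSpec y, hyU⟩ = y := by
    apply hU.fromSpec.isOpenEmbedding.injective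
    exact hU.fromSpec_primeIdealOf ⟨hU.fromSpec y, hyU⟩
  have := (Groth.Agent.Lib.Helper11.CMLocalize.stalk_CM_iff hU (hU.fromSpec y) hyU).1 (h _ hyU)
  rw [hy] at this
  exact this

/-- **Blow-up of a CM scheme along a regularly immersed centre is CM.** -/
theorem cm_blowUp {W T : Scheme.{u}} [IsLocallyNoetherian W]
    (hcm : ∀ w : W, IsCohenMacaulayLocalRing (W.presheaf.stalk w))
    (I : W.IdealSheafData)
    (hI : ∀ x : W, x ∈ I.support → ∃ (U : W.Opens) (hU : IsAffineOpen U), x ∈ U ∧
      ∃ rs : List Γ(W, U), RingTheory.Sequence.IsRegular Γ(W, U) rs ∧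
        I.ideal ⟨U, hU⟩ = Ideal.ofList rs)
    (π : T ⟶ W) (hπ : BlowUp.IsBlowUp π I) (t : T) :
    IsCohenMacaulayLocalRing (T.presheaf.stalk t) := by
  haveI : IsLocallyNoetherian T := isLocallyNoetherian_of_isBlowUp I π hπ
  obtain ⟨E, hE⟩ : ∃ E : T.IdealSheafData, E = I.comap π := ⟨_, rfl⟩
  have hEc : BlowUp.IsEffCartierIdeal E := hE ▸ hπ.1
  by_cases ht : t ∈ E.support
  · have hx : π t ∈ I.support := by
      rw [hE, Scheme.IdealSheafData.support_comap] at ht
      exact ht
    obtain ⟨U, hU, hxU, rs, hrs, hIU⟩ := hI (π t) hx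
    have hA : IsCohenMacaulayRing Γ(W, U) := isCohenMacaulayRing_Γ hU (fun x _ => hcm x)
    have hG : Ideal.span (Set.range rs.get) = I.ideal ⟨U, hU⟩ := by
      rw [hIU, Ideal.ofList, Set.range_list_get]
    obtain ⟨a, ⟨k, rfl⟩, V, hV, hVU, ε, htV, hε⟩ :=
      Groth.Agent.Lib.Helper20.GenChart.exists_chart I π hπ U hU (Set.range rs.get) hG t hxU
    have hq : CAlgX.IsQuasiRegular rs.get := by
      apply Groth.Agent.Lib.Helper3.QReg.isQuasiRegular_of_isWeaklyRegular
      rw [List.ofFn_get]
      exact hrs.toIsWeaklyRegular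
    have hV' : IsAffineOpen (E.subschemeι ⁻¹ᵁ V) := hV.preimage E.subschemeι
    have hqk : RingHom.ker (E.subschemeι.app V).hom =
        (I.ideal ⟨U, hU⟩).map (π.appLE U V hVU).hom := by
      rw [Scheme.IdealSheafData.ker_subschemeι_app E ⟨V, hV⟩, hE]
      exact ideal_comap_of_le π I V hV U hU hVU
    let γ : (Γ(W, U) ⧸ I.ideal ⟨U, hU⟩) →+* Γ(E.subscheme, E.subschemeι ⁻¹ᵁ V) :=
      Ideal.Quotient.lift (I.ideal ⟨U, hU⟩)
        ((E.subschemeι.app V).hom.comp (π.appLE U V hVU).hom) (by
          intro r hr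
          have : (π.appLE U V hVU).hom r ∈ RingHom.ker (E.subschemeι.app V).hom := by
            rw [hqk]; exact Ideal.mem_map_of_mem _ hr
          exact this)
    have hγ : γ.comp (Ideal.Quotient.mk (I.ideal ⟨U, hU⟩)) =
        (E.subschemeι.app V).hom.comp (π.appLE U V hVU).hom := by
      ext r
      simp [γ]
    obtain ⟨n, Θ, -⟩ := Groth.Agent.Lib.Helper20.BlowQR.exists_equiv' rs.get hq k
      (I.ideal ⟨U, hU⟩) hG.symm (rs.get k) rfl (Ideal.Quotient.mk (I.ideal ⟨U, hU⟩))
      Ideal.Quotient.mk_surjective Ideal.mk_ker (π.appLE U V hVU).hom ε hε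
      (E.subschemeι.app V).hom (E.subschemeι_app_surjective ⟨V, hV⟩) hqk γ hγ
    have hAq : IsCohenMacaulayRing (Γ(W, U) ⧸ I.ideal ⟨U, hU⟩) := by
      rw [hIU]
      exact isCohenMacaulayRing_quot_ofList _ hA rs hrs.toIsWeaklyRegular
    have hPoly : IsCohenMacaulayRing (MvPolynomial (Fin n) (Γ(W, U) ⧸ I.ideal ⟨U, hU⟩)) :=
      Groth.Agent.Lib.Helper56.isCohenMacaulayRing_mvPolynomial (Fin n) _ hAq
    have hΓE : IsCohenMacaulayRing Γ(E.subscheme, E.subschemeι ⁻¹ᵁ V) :=
      Groth.Agent.Lib.Helper56.isCohenMacaulayRing_of_ringEquiv Θ hPoly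
    obtain ⟨y'', rfl⟩ : ∃ y'' : E.subscheme, E.subschemeι y'' = t := by
      have : t ∈ Set.range E.subschemeι := by
        rw [Scheme.IdealSheafData.range_subschemeι]; exact ht
      exact this
    have hcm1 : IsCohenMacaulayLocalRing (E.subscheme.presheaf.stalk y'') :=
      (Groth.Agent.Lib.Helper11.CMLocalize.stalk_CM_iff hV' y'' htV).2
        (hΓE.isCohenMacaulayLocalRing_localization _)
    obtain ⟨V', hyV', s, hs, hsE⟩ := hEc (E.subschemeι y'')
    have hcm2 : IsCohenMacaulayLocalRing (T.presheaf.stalk (E.subschemeι y'') ⧸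
        Ideal.span {(T.presheaf.germ V'.1 (E.subschemeι y'') hyV').hom s}) :=
      Groth.Agent.Lib.Helper56.isCohenMacaulayLocalRing_of_ringEquiv
        (Groth.Agent.Lib.Helper64.SubschemeStalk.stalkEquivSpan E V' y'' hyV' s hsE).symm hcm1
    have hnzd := Groth.Agent.Lib.Helper64.SubschemeStalk.germ_mem_nonZeroDivisors V'.2
      (E.subschemeι y'') hyV' s hs
    have hreg : IsSMulRegular (T.presheaf.stalk (E.subschemeι y''))
        ((T.presheaf.germ V'.1 (E.subschemeι y'') hyV').hom s) :=
      (isRegular_iff_mem_nonZeroDivisors.2 hnzd).left.isSMulRegular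
    have hmem : (T.presheaf.germ V'.1 (E.subschemeι y'') hyV').hom s ∈
        maximalIdeal (T.presheaf.stalk (E.subschemeι y'')) := by
      by_contra hcon
      rw [mem_maximalIdeal, mem_nonunits_iff, not_not] at hcon
      have htop : Ideal.span {(T.presheaf.germ V'.1 (E.subschemeι y'') hyV').hom s} = ⊤ :=
        Ideal.span_singleton_eq_top.2 hcon
      haveI := hcm2.toIsLocalRing
      have hnt : Nontrivial (T.presheaf.stalk (E.subschemeι y'') ⧸
        Ideal.span {(T.presheaf.germ V'.1 (E.subschemeι y'') hyV').hom s}) := inferInstance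
      rw [Ideal.Quotient.nontrivial_iff] at hnt
      exact hnt htop
    exact Groth.Agent.Lib.Helper72.CMPoint.isCM_of_quotient _ _ hmem hreg hcm2
  · have hx₁ : π t ∉ I.support := by
      intro h
      apply ht
      rw [hE, Scheme.IdealSheafData.support_comap]
      exact h
    haveI hiso : IsIso (π ∣_ I.support.compl) := isIso_morphismRestrict_of_isBlowUp I π hπ
    let p : ↥((π ⁻¹ᵁ I.support.compl : T.Opens) : Scheme.{u}) := ⟨t, hx₁⟩
    have h1 : IsIso ((π ∣_ I.support.compl).stalkMap p) := inferInstance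
    have h2 : IsIso (π.stalkMap t) :=
      ((MorphismProperty.isomorphisms CommRingCat).arrow_mk_iso_iff
        (morphismRestrictStalkMap π I.support.compl p)).1 h1
    exact Groth.Agent.Lib.Helper56.isCohenMacaulayLocalRing_of_ringEquiv
      (asIso (π.stalkMap t)).commRingCatIsoToRingEquiv (hcm (π t))

end Groth.Agent.Lib.Helper20.BlowCM
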