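import Mathlib
import Groth.Prelude.Def_BlowUp2

/-!
# Affine blow-up algebras commute with flat base change (helper20)

For a flat ring map `A → A'`, an ideal `I ⊆ A` and `a ∈ A`:
`A' ⊗[A] A[I/a] ≅ A'[IA'/a]`.
-/

set_option autoImplicit false
universe u
open TensorProduct

namespace Groth.Agent.Lib.Helper20.BlowFlat

variable {A A' : Type u} [CommRing A] [CommRing A'] [Algebra A A'] (I : Ideal A) (a : A)

/-- `A_a → A'_a`. -/
noncomputable def lam : Localization.Away a →ₐ[A] Localization.Away (algebraMap A A' a) :=
  { IsLocalization.Away.lift a (g := algebraMap A (Localization.Away (algebraMap A A' a))) (by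
      rw [IsScalarTower.algebraMap_apply A A' (Localization.Away (algebraMap A A' a))]
      exact IsLocalization.Away.algebraMap_isUnit _) with
    commutes' := fun r => IsLocalization.Away.lift_eq _ _ r }

theorem lam_algebraMap (r : A) :
    lam (A' := A') a (algebraMap A (Localization.Away a) r) =
      algebraMap A' (Localization.Away (algebraMap A A' a)) (algebraMap A A' r) := by
  rw [AlgHom.commutes, IsScalarTower.algebraMap_apply A A' (Localization.Away (algebraMap A A' a))]

theorem isUnit_a' : IsUnit (algebraMap A' (Localization.Away (algebraMap A A' a))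
    (algebraMap A A' a)) :=
  IsLocalization.Away.algebraMap_isUnit _

theorem lam_mk' (x : A) :
    lam (A' := A') a (IsLocalization.mk' (Localization.Away a) x
      (⟨a, Submonoid.mem_powers a⟩ : Submonoid.powers a)) =
    IsLocalization.mk' (Localization.Away (algebraMap A A' a)) (algebraMap A A' x)
      (⟨algebraMap A A' a, Submonoid.mem_powers _⟩ : Submonoid.powers (algebraMap A A' a)) := by
  apply (isUnit_a' (A' := A') a).mul_left_injective
  show _ * _ = _ * _
  rw [IsLocalization.mk'_spec, ← lam_algebraMap, ← map_mul, IsLocalization.mk'_spec, lam_algebraMap]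

/-- `A' ⊗ A_a → A'_a`. -/
noncomputable def θ : A' ⊗[A] Localization.Away a →ₐ[A'] Localization.Away (algebraMap A A' a) :=
  Algebra.TensorProduct.lift (Algebra.ofId A' _) (lam (A' := A') a) (fun _ _ => Commute.all _ _)

theorem θ_tmul (x : A') (y : Localization.Away a) :
    θ (A' := A') a (x ⊗ₜ y) = algebraMap A' _ x * lam (A' := A') a y := rfl

theorem θ_injective : Function.Injective (θ (A' := A') a) := by
  haveI : IsLocalization.Away (algebraMap A A' a) (A' ⊗[A] Localization.Away a) :=
    IsLocalization.Away.tensor a (Localization.Away a)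
  have h : (θ (A' := A') a).toRingHom =
      ((IsLocalization.algEquiv (Submonoid.powers (algebraMap A A' a))
        (A' ⊗[A] Localization.Away a) (Localization.Away (algebraMap A A' a))) :
          A' ⊗[A] Localization.Away a →+* _) := by
    apply IsLocalization.ringHom_ext (Submonoid.powers (algebraMap A A' a))
    ext x
    show θ (A' := A') a (algebraMap A' _ x) =
      (IsLocalization.algEquiv (Submonoid.powers (algebraMap A A' a))
        (A' ⊗[A] Localization.Away a) (Localization.Away (algebraMap A A' a)))
        (algebraMap A' _ x)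
    rw [AlgHom.commutes, AlgEquiv.commutes]
  intro z z' hz
  have h1 := congrArg (fun ψ : A' ⊗[A] Localization.Away a →+* _ => ψ z) h
  have h2 := congrArg (fun ψ : A' ⊗[A] Localization.Away a →+* _ => ψ z') h
  simp only [AlgHom.toRingHom_eq_coe, RingHom.coe_coe] at h1 h2
  apply (IsLocalization.algEquiv (Submonoid.powers (algebraMap A A' a))
        (A' ⊗[A] Localization.Away a) (Localization.Away (algebraMap A A' a))).injective
  rw [← h1, ← h2, hz]

/-- `A' ⊗ A[I/a] → A'_a`. -/
noncomputable def Ξ₀ : A' ⊗[A] BlowUp.affineAlgebra A I a →ₐ[A']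
    Localization.Away (algebraMap A A' a) :=
  (θ (A' := A') a).comp
    (Algebra.TensorProduct.map (AlgHom.id A' A') (BlowUp.affineAlgebra A I a).val)

theorem Ξ₀_tmul (x : A') (d : BlowUp.affineAlgebra A I a) :
    Ξ₀ (A' := A') I a (x ⊗ₜ d) = algebraMap A' _ x * lam (A' := A') a d.1 := rfl

theorem Ξ₀_injective [Module.Flat A A'] : Function.Injective (Ξ₀ (A' := A') I a) := by
  have h1 : Function.Injective ((BlowUp.affineAlgebra A I a).val.toLinearMap.lTensor A') :=
    Module.Flat.lTensor_preserves_injective_linearMap _ Subtype.val_injective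
  have h2 : ∀ z, Algebra.TensorProduct.map (AlgHom.id A' A') (BlowUp.affineAlgebra A I a).val z =
      (BlowUp.affineAlgebra A I a).val.toLinearMap.lTensor A' z := by
    intro z
    induction z using TensorProduct.induction_on with
    | zero => simp
    | tmul x y => rfl
    | add x y hx hy => rw [map_add, map_add, hx, hy]
  intro z z' hz
  have h3 : Algebra.TensorProduct.map (AlgHom.id A' A') (BlowUp.affineAlgebra A I a).val z =
      Algebra.TensorProduct.map (AlgHom.id A' A') (BlowUp.affineAlgebra A I a).val z' :=
    θ_injective (A' := A') a hz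
  rw [h2, h2] at h3
  exact h1 h3

theorem lam_mem {d : Localization.Away a} (hd : d ∈ BlowUp.affineAlgebra A I a) :
    lam (A' := A') a d ∈ BlowUp.affineAlgebra A' (I.map (algebraMap A A')) (algebraMap A A' a) := by
  unfold BlowUp.affineAlgebra at hd
  induction hd using Algebra.adjoin_induction with
  | mem y hy =>
    obtain ⟨x, hx, rfl⟩ := hy
    rw [lam_mk']
    exact Algebra.subset_adjoin ⟨algebraMap A A' x, Ideal.mem_map_of_mem _ hx, rfl⟩
  | algebraMap r =>
    rw [lam_algebraMap]
    exact Subalgebra.algebraMap_mem _ _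
  | add x y _ _ hx hy => rw [map_add]; exact Subalgebra.add_mem _ hx hy
  | mul x y _ _ hx hy => rw [map_mul]; exact Subalgebra.mul_mem _ hx hy

theorem Ξ₀_mem (z : A' ⊗[A] BlowUp.affineAlgebra A I a) :
    Ξ₀ (A' := A') I a z ∈
      BlowUp.affineAlgebra A' (I.map (algebraMap A A')) (algebraMap A A' a) := by
  induction z using TensorProduct.induction_on with
  | zero => rw [map_zero]; exact Subalgebra.zero_mem _
  | tmul x d =>
    rw [Ξ₀_tmul]
    exact Subalgebra.mul_mem _ (Subalgebra.algebraMap_mem _ _) (lam_mem I a d.2)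
  | add x y hx hy => rw [map_add]; exact Subalgebra.add_mem _ hx hy

theorem le_range :
    BlowUp.affineAlgebra A' (I.map (algebraMap A A')) (algebraMap A A' a) ≤
      (Ξ₀ (A' := A') I a).range := by
  unfold BlowUp.affineAlgebra
  apply Algebra.adjoin_le
  rintro _ ⟨y', hy', rfl⟩
  rw [Ideal.map] at hy'
  induction hy' using Submodule.span_induction with
  | mem y hy =>
    obtain ⟨x, hx, rfl⟩ := hy
    refine ⟨(1 : A') ⊗ₜ ⟨IsLocalization.mk' (Localization.Away a) x
      (⟨a, Submonoid.mem_powers a⟩ : Submonoid.powers a), Algebra.subset_adjoin ⟨x, hx, rfl⟩⟩, ?_⟩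
    show algebraMap A' _ (1 : A') * lam (A' := A') a (IsLocalization.mk' (Localization.Away a) x
      (⟨a, Submonoid.mem_powers a⟩ : Submonoid.powers a)) = _
    rw [map_one, one_mul, lam_mk']
  | zero =>
    refine ⟨0, ?_⟩
    rw [map_zero]
    exact (IsLocalization.mk'_zero _).symm
  | add x y _ _ hx hy =>
    have : IsLocalization.mk' (Localization.Away (algebraMap A A' a)) (x + y)
        (⟨algebraMap A A' a, Submonoid.mem_powers _⟩ : Submonoid.powers (algebraMap A A' a)) =
        IsLocalization.mk' _ x (⟨algebraMap A A' a, Submonoid.mem_powers _⟩ :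
          Submonoid.powers (algebraMap A A' a)) +
        IsLocalization.mk' _ y (⟨algebraMap A A' a, Submonoid.mem_powers _⟩ :
          Submonoid.powers (algebraMap A A' a)) := by
      rw [IsLocalization.mk'_eq_mul_mk'_one x, IsLocalization.mk'_eq_mul_mk'_one y,
        IsLocalization.mk'_eq_mul_mk'_one (x + y), map_add, add_mul]
    rw [this]
    exact Subalgebra.add_mem _ hx hy
  | smul c x _ hx =>
    have : IsLocalization.mk' (Localization.Away (algebraMap A A' a)) (c • x)
        (⟨algebraMap A A' a, Submonoid.mem_powers _⟩ : Submonoid.powers (algebraMap A A' a)) =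
        algebraMap A' _ c *
        IsLocalization.mk' _ x (⟨algebraMap A A' a, Submonoid.mem_powers _⟩ :
          Submonoid.powers (algebraMap A A' a)) := by
      rw [smul_eq_mul, IsLocalization.mul_mk'_eq_mk'_of_mul]
    rw [this]
    exact Subalgebra.mul_mem _ (Subalgebra.algebraMap_mem _ _) hx

/-- **Flat base change of affine blow-up algebras.** -/
theorem exists_equiv_tensor [Module.Flat A A'] :
    ∃ Ξ : A' ⊗[A] BlowUp.affineAlgebra A I a ≃+*
        BlowUp.affineAlgebra A' (I.map (algebraMap A A')) (algebraMap A A' a),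
      ∀ x : A', Ξ (x ⊗ₜ 1) = algebraMap A' _ x := by
  refine ⟨RingEquiv.ofBijective
    ((Ξ₀ (A' := A') I a).toRingHom.codRestrict
      (BlowUp.affineAlgebra A' (I.map (algebraMap A A')) (algebraMap A A' a)).toSubring
      (fun z => Ξ₀_mem I a z))
    ⟨fun z z' h => Ξ₀_injective I a (congrArg Subtype.val h), fun y => by
      obtain ⟨z, hz⟩ := le_range I a y.2
      exact ⟨z, Subtype.ext hz⟩⟩, fun x => ?_⟩
  apply Subtype.ext
  show Ξ₀ (A' := A') I a (x ⊗ₜ 1) = _
  rw [Ξ₀_tmul]
  simp

set_option backward.isDefEq.respectTransparency false in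
/-- **Smoothness of affine blow-up algebras transfers along étale maps.** -/
theorem smooth_of_etale {R₀ : Type u} [CommRing R₀] (c : R₀ →+* A)
    (hc : ((algebraMap A (BlowUp.affineAlgebra A I a)).comp c).Smooth)
    (het : (algebraMap A A').Etale) :
    ((algebraMap A' (BlowUp.affineAlgebra A' (I.map (algebraMap A A')) (algebraMap A A' a))).comp
      ((algebraMap A A').comp c)).Smooth := by
  haveI : Module.Flat A A' := by
    rw [← RingHom.flat_algebraMap_iff]
    exact (RingHom.Etale.iff_flat_and_formallyUnramified.mp het).1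
  obtain ⟨Ξ, hΞ⟩ := exists_equiv_tensor (A' := A') I a
  have h1 :=
    RingHom.IsStableUnderBaseChange.tensorProduct RingHom.Etale.isStableUnderBaseChange
      (R := A) (S := A') (BlowUp.affineAlgebra A I a) het
  rw [RingHom.etale_iff_formallyUnramified_and_smooth] at h1
  have h2 := h1.2
  let e : BlowUp.affineAlgebra A I a ⊗[A] A' ≃+*
      BlowUp.affineAlgebra A' (I.map (algebraMap A A')) (algebraMap A A' a) :=
    (Algebra.TensorProduct.comm A (BlowUp.affineAlgebra A I a) A').toRingEquiv.trans Ξ
  have h3 : RingHom.Smooth (R := BlowUp.affineAlgebra A I a ⊗[A] A')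
      (S := BlowUp.affineAlgebra A' (I.map (algebraMap A A')) (algebraMap A A' a))
      (RingEquiv.toRingHom e) := by
    exact RingHom.Smooth.of_bijective (RingEquiv.bijective e)
  have h4 := (hc.comp h2).comp h3
  convert h4 using 1
  refine RingHom.ext fun r => ?_
  show _ = e ((algebraMap A (BlowUp.affineAlgebra A I a) (c r)) ⊗ₜ (1 : A'))
  show _ = Ξ ((1 : A') ⊗ₜ (algebraMap A (BlowUp.affineAlgebra A I a) (c r)))
  have key : (1 : A') ⊗ₜ[A] (algebraMap A (BlowUp.affineAlgebra A I a) (c r)) =
      (algebraMap A A' (c r)) ⊗ₜ[A] (1 : BlowUp.affineAlgebra A I a) := by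
    rw [Algebra.algebraMap_eq_smul_one (A := BlowUp.affineAlgebra A I a) (c r),
      ← TensorProduct.smul_tmul, ← Algebra.algebraMap_eq_smul_one]
  rw [key, hΞ]
  rfl

end Groth.Agent.Lib.Helper20.BlowFlat
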