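import Mathlib
import Groth.Prelude.Def_BlowUp2
import Groth.Agent.Lib.Helper20.BlowQR

/-!
# Multiplicity along the exceptional divisor, ring level (helper20)

For a quasi-regular sequence `f` with `I = (f)`, `a = f k`, `B = A[I/a]`:
an element `x ∈ I^N` whose image in `B` lies in `a^(N+1) B` already lies in `I^(N+1)`
(the initial form of `a` is a nonzerodivisor in the associated graded ring).
-/

set_option autoImplicit false
universe u
open MvPolynomial

namespace Groth.Agent.Lib.Helper20.BlowMult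

variable {A : Type u} [CommRing A] {m : ℕ} (f : Fin m → A)

theorem eval_mem_pow_succ {H : MvPolynomial (Fin m) A} {N : ℕ} (hH : H.IsHomogeneous N)
    (hC : ∀ d, H.coeff d ∈ Ideal.span (Set.range f)) :
    eval f H ∈ Ideal.span (Set.range f) ^ (N + 1) := by
  rw [eval_eq']
  refine Ideal.sum_mem _ fun d hd => ?_
  rw [pow_succ']
  refine Ideal.mul_mem_mul (hC d) ?_
  have hdN : ∑ i, d i = N := by
    have := hH (mem_support_iff.1 hd)
    simpa [Finsupp.weight_apply, Finsupp.sum_fintype] using this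
  rw [← hdN, ← Finset.prod_pow_eq_pow_sum]
  exact Ideal.prod_mem_prod fun i _ => Ideal.pow_mem_pow (Ideal.subset_span (Set.mem_range_self i)) _

theorem mem_pow_succ_of_mul (hq : CAlgX.IsQuasiRegular f) (k : Fin m) {x : A} {N : ℕ}
    (hx : x ∈ Ideal.span (Set.range f) ^ N)
    (h : f k * x ∈ Ideal.span (Set.range f) ^ (N + 2)) :
    x ∈ Ideal.span (Set.range f) ^ (N + 1) := by
  obtain ⟨H, hH, rfl⟩ := (Ideal.mem_span_pow_iff_exists_isHomogeneous f _).1 hx
  have hH' : (X k * H).IsHomogeneous (1 + N) := (isHomogeneous_X A k).mul hH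
  have hev : eval f (X k * H) ∈ Ideal.span (Set.range f) ^ (1 + N + 1) := by
    rw [map_mul, eval_X]
    have : 1 + N + 1 = N + 2 := by omega
    rw [this]; exact h
  have hc := hq (1 + N) (X k * H) hH' hev
  apply eval_mem_pow_succ f hH
  intro d
  have := hc (Finsupp.single k 1 + d)
  rwa [coeff_X_mul] at this

theorem mem_pow_succ_of_pow_mul (hq : CAlgX.IsQuasiRegular f) (k : Fin m) {x : A} {N : ℕ} (j : ℕ)
    (hx : x ∈ Ideal.span (Set.range f) ^ N)
    (h : f k ^ j * x ∈ Ideal.span (Set.range f) ^ (j + N + 1)) :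
    x ∈ Ideal.span (Set.range f) ^ (N + 1) := by
  induction j with
  | zero => simpa using h
  | succ j ih =>
    apply ih
    have hk : f k ∈ Ideal.span (Set.range f) := Ideal.subset_span ⟨k, rfl⟩
    have h1 : f k ^ j * x ∈ Ideal.span (Set.range f) ^ (j + N) := by
      rw [pow_add]; exact Ideal.mul_mem_mul (Ideal.pow_mem_pow hk j) hx
    apply mem_pow_succ_of_mul f hq k h1
    have e1 : f k * (f k ^ j * x) = f k ^ (j + 1) * x := by ring
    rw [e1]
    have e2 : j + N + 2 = j + 1 + N + 1 := by omega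
    rw [e2]; exact h

theorem exists_pow_mul_eq (I : Ideal A) (a : A) (ha : a ∈ I) {y : Localization.Away a}
    (hy : y ∈ BlowUp.affineAlgebra A I a) :
    ∃ n : ℕ, ∃ z ∈ I ^ n,
      algebraMap A (Localization.Away a) a ^ n * y = algebraMap A (Localization.Away a) z := by
  unfold BlowUp.affineAlgebra at hy
  induction hy using Algebra.adjoin_induction with
  | mem y hy =>
    obtain ⟨x, hx, rfl⟩ := hy
    refine ⟨1, x, by simpa using hx, ?_⟩
    rw [pow_one]
    exact IsLocalization.mk'_spec' (Localization.Away a) x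
      (⟨a, Submonoid.mem_powers a⟩ : Submonoid.powers a)
  | algebraMap r => exact ⟨0, r, by simp, by simp⟩
  | add y₁ y₂ _ _ h₁ h₂ =>
    obtain ⟨n₁, z₁, hz₁, e₁⟩ := h₁
    obtain ⟨n₂, z₂, hz₂, e₂⟩ := h₂
    refine ⟨n₁ + n₂, a ^ n₂ * z₁ + a ^ n₁ * z₂, ?_, ?_⟩
    · refine Ideal.add_mem _ ?_ ?_
      · rw [add_comm, pow_add]; exact Ideal.mul_mem_mul (Ideal.pow_mem_pow ha _) hz₁
      · rw [pow_add]; exact Ideal.mul_mem_mul (Ideal.pow_mem_pow ha _) hz₂
    · rw [map_add, map_mul, map_mul, map_pow, map_pow, ← e₁, ← e₂]; ring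
  | mul y₁ y₂ _ _ h₁ h₂ =>
    obtain ⟨n₁, z₁, hz₁, e₁⟩ := h₁
    obtain ⟨n₂, z₂, hz₂, e₂⟩ := h₂
    refine ⟨n₁ + n₂, z₁ * z₂, ?_, ?_⟩
    · rw [pow_add]; exact Ideal.mul_mem_mul hz₁ hz₂
    · rw [map_mul, ← e₁, ← e₂]; ring

/-- Key lemma: the order of vanishing along the exceptional divisor is the `I`-adic order. -/
theorem mem_pow_succ_of_eq (hq : CAlgX.IsQuasiRegular f) (k : Fin m) {x : A} {N : ℕ}
    (hx : x ∈ Ideal.span (Set.range f) ^ N) {y : Localization.Away (f k)}
    (hy : y ∈ BlowUp.affineAlgebra A (Ideal.span (Set.range f)) (f k))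
    (h : algebraMap A (Localization.Away (f k)) x =
      algebraMap A (Localization.Away (f k)) (f k) ^ (N + 1) * y) :
    x ∈ Ideal.span (Set.range f) ^ (N + 1) := by
  have hk : f k ∈ Ideal.span (Set.range f) := Ideal.subset_span ⟨k, rfl⟩
  obtain ⟨n, z, hz, e⟩ := exists_pow_mul_eq _ (f k) hk hy
  have e3 : algebraMap A (Localization.Away (f k)) (f k ^ n * x) =
      algebraMap A (Localization.Away (f k)) (f k ^ (N + 1) * z) := by
    rw [map_mul, map_mul, map_pow, map_pow, h, ← e]; ring
  obtain ⟨⟨c, j, rfl⟩, hc⟩ := (IsLocalization.eq_iff_exists (Submonoid.powers (f k)) _).1 e3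
  simp only at hc
  apply mem_pow_succ_of_pow_mul f hq k (j + n) hx
  have e4 : f k ^ (j + n) * x = f k ^ j * (f k ^ n * x) := by ring
  rw [e4, hc]
  have e5 : j + n + N + 1 = j + ((N + 1) + n) := by omega
  rw [e5, pow_add, pow_add]
  exact Ideal.mul_mem_mul (Ideal.pow_mem_pow hk _)
    (Ideal.mul_mem_mul (Ideal.pow_mem_pow hk _) hz)

end Groth.Agent.Lib.Helper20.BlowMult

namespace Groth.Agent.Lib.Helper20.BlowMult

theorem mem_pow_succ_of_eq' {A : Type u} [CommRing A] {m : ℕ} (f : Fin m → A)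
    (hq : CAlgX.IsQuasiRegular f) (k : Fin m) (I : Ideal A) (hI : I = Ideal.span (Set.range f))
    (a : A) (ha : a = f k) {x : A} {N : ℕ}
    (hx : x ∈ I ^ N) {y : Localization.Away a}
    (hy : y ∈ BlowUp.affineAlgebra A I a)
    (h : algebraMap A (Localization.Away a) x =
      algebraMap A (Localization.Away a) a ^ (N + 1) * y) :
    x ∈ I ^ (N + 1) := by
  subst hI ha
  exact mem_pow_succ_of_eq f hq k hx hy h

/-- Facts about a chart `B' ≅ R[I/a]` of the blow-up of a maximal ideal `I` generated by a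
quasi-regular sequence in a domain `R`. -/
theorem chart_facts {R : Type u} [CommRing R] [IsDomain R] {d : ℕ} (x : Fin d → R)
    (hq : CAlgX.IsQuasiRegular x) (k : Fin d)
    (I : Ideal R) (hI : I = Ideal.span (Set.range x)) (hmax : I.IsMaximal) (a : R) (ha : a = x k)
    {B' : Type u} [CommRing B'] (β : R →+* B') (ε : B' ≃+* BlowUp.affineAlgebra R I a)
    (hε : ∀ r, ε (β r) = algebraMap R _ r)
    (f : R) (μ : ℕ) (hf : f ∈ I ^ μ) (hf' : f ∉ I ^ (μ + 1)) :
    IsDomain B' ∧ Prime (β a) ∧ I.map β = Ideal.span {β a} ∧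
      ∃ f' : B', β f = β a ^ μ * f' ∧ ¬ β a ∣ f' := by
  have haI : a ∈ I := by
    rw [hI, ha]; exact Ideal.subset_span ⟨k, rfl⟩
  -- F1
  have hF1 : I.map β = Ideal.span {β a} := by
    apply le_antisymm
    · rw [Ideal.map_le_iff_le_comap]
      intro y hy
      rw [Ideal.mem_comap, Ideal.mem_span_singleton']
      refine ⟨ε.symm ⟨IsLocalization.mk' (Localization.Away a) y
        (⟨a, Submonoid.mem_powers a⟩ : Submonoid.powers a),
        Algebra.subset_adjoin ⟨y, hy, rfl⟩⟩, ?_⟩
      apply ε.injective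
      rw [map_mul, hε, hε, RingEquiv.apply_symm_apply]
      apply Subtype.ext
      show _ * algebraMap R (Localization.Away a) a =
        algebraMap R (Localization.Away a) y
      exact IsLocalization.mk'_spec (Localization.Away a) y
        (⟨a, Submonoid.mem_powers a⟩ : Submonoid.powers a)
    · rw [Ideal.span_singleton_le_iff_mem]
      exact Ideal.mem_map_of_mem _ haI
  -- quotient is a polynomial ring over a field
  obtain ⟨n, Θ, -⟩ := Groth.Agent.Lib.Helper20.BlowQR.exists_equiv' x hq k I hI a ha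
    (Ideal.Quotient.mk I) Ideal.Quotient.mk_surjective Ideal.mk_ker β ε hε
    (Ideal.Quotient.mk (I.map β)) Ideal.Quotient.mk_surjective Ideal.mk_ker
    (Ideal.quotientMap (I.map β) β Ideal.le_comap_map) (by ext r; simp)
  letI : Field (R ⧸ I) := Ideal.Quotient.field I
  haveI hdomq : IsDomain (B' ⧸ I.map β) :=
    MulEquiv.isDomain (MvPolynomial (Fin n) (R ⧸ I)) Θ.symm.toMulEquiv
  have hprime : (I.map β).IsPrime := (Ideal.Quotient.isDomain_iff_prime (I.map β)).1 hdomq
  -- a ≠ 0
  have ha0 : a ≠ 0 := by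
    intro h0
    haveI : Subsingleton (Localization.Away a) :=
      IsLocalization.subsingleton (M := Submonoid.powers a) (by rw [h0]; exact ⟨1, by simp⟩)
    have h1 : (1 : B') = 0 := by
      apply ε.injective
      apply Subtype.ext
      exact Subsingleton.elim _ _
    apply hprime.ne_top
    rw [Ideal.eq_top_iff_one, h1]
    exact Ideal.zero_mem _
  have hM : Submonoid.powers a ≤ nonZeroDivisors R :=
    powers_le_nonZeroDivisors_of_noZeroDivisors ha0
  haveI : IsDomain (Localization.Away a) := IsLocalization.isDomain_localization hM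
  haveI : IsDomain (BlowUp.affineAlgebra R I a) := inferInstance
  haveI hdom : IsDomain B' := MulEquiv.isDomain _ ε.toMulEquiv
  have hinj : Function.Injective (algebraMap R (Localization.Away a)) :=
    IsLocalization.injective (Localization.Away a) hM
  have hβa : β a ≠ 0 := by
    intro h0
    have h1 := hε a
    rw [h0, map_zero] at h1
    have h2 : algebraMap R (Localization.Away a) a = 0 := by
      have := congrArg Subtype.val h1
      exact this.symm
    exact ha0 (hinj (by rw [h2, map_zero]))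
  have hpr : Prime (β a) := by
    rw [hF1] at hprime
    exact (Ideal.span_singleton_prime hβa).1 hprime
  refine ⟨hdom, hpr, hF1, ?_⟩
  have h1 : β f ∈ (I.map β) ^ μ := by
    rw [← Ideal.map_pow]; exact Ideal.mem_map_of_mem _ hf
  rw [hF1, Ideal.span_singleton_pow, Ideal.mem_span_singleton'] at h1
  obtain ⟨c, hc⟩ := h1
  refine ⟨c, by rw [← hc, mul_comm], ?_⟩
  rintro ⟨t, rfl⟩
  apply hf'
  have h2 : ε (β f) = ε (β a ^ (μ + 1) * t) := by
    rw [← hc]; congr 1; ring
  rw [map_mul, map_pow, hε, hε] at h2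
  have h3 := congrArg Subtype.val h2
  exact mem_pow_succ_of_eq' x hq k I hI a ha hf (ε t).2 h3

end Groth.Agent.Lib.Helper20.BlowMult
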