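import Mathlib
import Groth.Prelude.Def_BlowUp2
import Groth.Agent.Lib.Helper82.EffCartierCompl
import Groth.Agent.Lib.Helper82.EffCartier

set_option autoImplicit false
universe u
open AlgebraicGeometry CategoryTheory

namespace Groth.Agent.Lib.Helper20.BlowMult2

theorem dvd_of_pow_mul_eq {B : Type*} [CommRing B] [IsDomain B] {e f' : B} (he : Prime e)
    (hnd : ¬ e ∣ f') : ∀ (N M : ℕ) (s c : B), e ^ N * s = e ^ M * (c * f') → f' ∣ s := by
  intro N
  induction N with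
  | zero =>
    intro M s c h
    rw [pow_zero, one_mul] at h
    exact ⟨e ^ M * c, by rw [h]; ring⟩
  | succ N ih =>
    intro M s c h
    cases M with
    | zero =>
      rw [pow_zero, one_mul] at h
      have h1 : e ∣ c * f' := ⟨e ^ N * s, by rw [← h]; ring⟩
      rcases he.dvd_or_dvd h1 with h2 | h2
      · obtain ⟨c', rfl⟩ := h2
        apply ih 0 s c'
        rw [pow_zero, one_mul]
        apply mul_left_cancel₀ he.ne_zero
        rw [← mul_assoc, ← pow_succ', h]; ring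
      · exact absurd h2 hnd
    | succ M =>
      apply ih M s c
      apply mul_left_cancel₀ he.ne_zero
      rw [← mul_assoc, ← pow_succ', h, pow_succ']; ring

theorem ideal_map_comap_compl {X : Scheme.{u}} (E J : X.IdealSheafData)
    (hE : BlowUp.IsEffCartierIdeal E) (μ : ℕ) {V : X.Opens} (hV : IsAffineOpen V)
    [IsDomain Γ(X, V)] (e f' : Γ(X, V)) (he : Prime e) (hnd : ¬ e ∣ f')
    (hEV : E.ideal ⟨V, hV⟩ = Ideal.span {e}) (hJV : J.ideal ⟨V, hV⟩ = Ideal.span {e ^ μ * f'}) :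
    ((J.comap (Scheme.Opens.ι (X := X) E.support.compl)).map
      (Scheme.Opens.ι (X := X) E.support.compl)).ideal ⟨V, hV⟩ = Ideal.span {f'} := by
  haveI haffhom : IsAffineHom (Scheme.Opens.ι (X := X) E.support.compl) :=
    Groth.Agent.Lib.Helper82.isAffineHom_ι_compl_support E hE
  set j := Scheme.Opens.ι (X := X) E.support.compl with hj
  have haff : IsAffineOpen (j ⁻¹ᵁ V) := hV.preimage j
  have hle2 : j ''ᵁ (j ⁻¹ᵁ V) ≤ V := Scheme.Hom.image_preimage_le _ _
  have hW : j ''ᵁ (j ⁻¹ᵁ V) = X.basicOpen e := by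
    rw [Scheme.Hom.image_preimage_eq_opensRange_inf, Scheme.Opens.opensRange_ι,
      Groth.Agent.Lib.Helper82.compl_support_inf_eq_basicOpen E ⟨V, hV⟩ e hEV]
  have hloc := hV.isLocalization_of_eq_basicOpen e (homOfLE hle2) hW
  let φ : Γ(X, V) →+* Γ(X, j ''ᵁ (j ⁻¹ᵁ V)) := (X.presheaf.map (homOfLE hle2).op).hom
  have hφ : ∀ s, (j.app V).hom s = φ s := fun s => rfl
  have hmem : ∀ s, s ∈ ((J.comap j).map j).ideal ⟨V, hV⟩ ↔
      φ s ∈ Ideal.span {φ (e ^ μ * f')} := by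
    intro s
    rw [Scheme.IdealSheafData.map, Scheme.Hom.ker_apply, RingHom.mem_ker]
    have h1 : (((J.comap j).subschemeι ≫ j).app V).hom s =
        ((J.comap j).subschemeι.app (j ⁻¹ᵁ V)).hom ((j.app V).hom s) := by
      rw [Scheme.Hom.comp_app]
      rfl
    rw [h1]
    change (j.app V).hom s ∈ RingHom.ker ((J.comap j).subschemeι.app (j ⁻¹ᵁ V)).hom ↔ _
    have h2 := Scheme.IdealSheafData.ker_subschemeι_app (J.comap j) ⟨j ⁻¹ᵁ V, haff⟩
    rw [h2, Groth.Agent.Lib.Helper82.ideal_comap_of_le j J _ haff V hV le_rfl, hJV, Ideal.map_span,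
      Set.image_singleton]
    rw [← Scheme.Hom.app_eq_appLE]
    exact Iff.rfl
  -- localization facts
  letI : Algebra Γ(X, V) Γ(X, j ''ᵁ (j ⁻¹ᵁ V)) := φ.toAlgebra
  haveI : IsLocalization.Away e Γ(X, j ''ᵁ (j ⁻¹ᵁ V)) := hloc
  have halg : ∀ s, algebraMap Γ(X, V) Γ(X, j ''ᵁ (j ⁻¹ᵁ V)) s = φ s := fun s => rfl
  have hunit : IsUnit (φ e) := by
    rw [← halg]; exact IsLocalization.Away.algebraMap_isUnit e
  ext s
  rw [hmem, Ideal.mem_span_singleton', Ideal.mem_span_singleton]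
  constructor
  · rintro ⟨y, hy⟩
    obtain ⟨⟨c, ⟨_, n, rfl⟩⟩, hc⟩ := IsLocalization.surj (Submonoid.powers e) y
    simp only at hc
    rw [halg, halg, map_pow] at hc
    have h3 : φ (e ^ n * s) = φ (c * (e ^ μ * f')) := by
      rw [map_mul, map_mul, ← hy, ← hc, map_pow]; ring
    rw [← halg, ← halg] at h3
    obtain ⟨⟨_, k, rfl⟩, hk⟩ := (IsLocalization.eq_iff_exists (Submonoid.powers e) _).1 h3
    simp only at hk
    apply dvd_of_pow_mul_eq he hnd (k + n) (k + μ) s c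
    rw [pow_add, pow_add, mul_assoc, hk]; ring
  · rintro ⟨t, rfl⟩
    obtain ⟨u, hu⟩ := hunit.exists_left_inv
    refine ⟨u ^ μ * φ t, ?_⟩
    rw [map_mul, map_mul, map_pow]
    calc u ^ μ * φ t * (φ e ^ μ * φ f') = (u * φ e) ^ μ * (φ f' * φ t) := by ring
      _ = φ f' * φ t := by rw [hu, one_pow, one_mul]

end Groth.Agent.Lib.Helper20.BlowMult2
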