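import Mathlib
import Groth.Agent.Lib.Helper20.GenChart

/-!
# Blow-ups of affine schemes: separatedness and finite affine covers (helper20)
-/

set_option autoImplicit false
universe u
open CategoryTheory CategoryTheory.Limits AlgebraicGeometry TopologicalSpace

namespace Groth.Agent.Lib.Helper20.BlowSep

open Groth.Agent.Lib.Helper41 Groth.Agent.Lib.Helper41.BlowUpAffine Groth.Agent.Lib.Helper41.BlowUpExist
  Groth.Agent.Lib.Helper41.ReesChart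

instance isSeparated_π {X : Scheme.{u}} [IsAffine X] (𝓘 : X.IdealSheafData) :
    IsSeparated (BlowUpAffine.π 𝓘) := by
  unfold BlowUpAffine.π
  infer_instance

theorem isSeparated_of_isBlowUp_affine {X : Scheme.{u}} [IsAffine X] (𝓘 : X.IdealSheafData)
    {X' : Scheme.{u}} (b : X' ⟶ X) (hb : BlowUp.IsBlowUp b 𝓘) : IsSeparated b := by
  have hπ : BlowUp.IsBlowUp (BlowUpAffine.π 𝓘) 𝓘 := isBlowUp_π 𝓘
  obtain ⟨c, hc, -⟩ := hπ.2 X' b hb.1
  haveI : IsIso c := isIso_of_isBlowUp 𝓘 b (BlowUpAffine.π 𝓘) hb hπ c hc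
  rw [← hc]
  infer_instance

/-- A blow-up of an affine scheme in an ideal generated by `G` is covered by the affine opens
indexed by `G`. -/
theorem exists_affine_cover {X : Scheme.{u}} [IsAffine X] (𝓘 : X.IdealSheafData)
    (G : Set Γ(X, ⊤)) (hG : Ideal.span G = 𝓘.ideal ⟨⊤, isAffineOpen_top X⟩)
    {X' : Scheme.{u}} (b : X' ⟶ X) (hb : BlowUp.IsBlowUp b 𝓘) :
    ∃ V : G → X'.Opens, (∀ g, IsAffineOpen (V g)) ∧ ⨆ g, V g = ⊤ := by
  have hπ : BlowUp.IsBlowUp (BlowUpAffine.π 𝓘) 𝓘 := isBlowUp_π 𝓘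
  obtain ⟨c, hc, -⟩ := hπ.2 X' b hb.1
  haveI : IsIso c := isIso_of_isBlowUp 𝓘 b (BlowUpAffine.π 𝓘) hb hπ c hc
  have hG1 : ∀ g ∈ G, g ∈ topIdeal 𝓘 := by
    intro g hg
    show g ∈ 𝓘.ideal ⟨⊤, isAffineOpen_top X⟩
    rw [← hG]
    exact Ideal.subset_span hg
  have hG2 : topIdeal 𝓘 ≤ Ideal.span G := hG.ge
  refine ⟨fun g => c ⁻¹ᵁ (chart 𝓘 g.1 (hG1 g.1 g.2)).opensRange, fun g => ?_, ?_⟩
  · exact (isAffineOpen_opensRange (chart 𝓘 g.1 (hG1 g.1 g.2))).preimage_of_isIso c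
  · rw [eq_top_iff]
    intro x' _
    obtain ⟨a, ha, hx⟩ := GenChart.exists_mem_range_chart_of_span 𝓘 G hG1 hG2 (c x')
    exact TopologicalSpace.Opens.mem_iSup.mpr ⟨⟨a, ha⟩, hx⟩

end Groth.Agent.Lib.Helper20.BlowSep
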