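import Mathlib
import Groth.Prelude.Def_BlowUp2
import Groth.Agent.Lib.Helper20.BlowAff
import Groth.Agent.Lib.Helper20.BlowFlat

/-!
# Smoothness of blow-up charts in étale coordinates (helper20)
-/

set_option autoImplicit false
universe u

namespace Groth.Agent.Lib.Helper20.BlowSmooth

open Groth.Agent.Lib.Helper20

/-- Chart of a blow-up of a coordinate subspace, transported along an étale coordinate map. -/
theorem smooth_chart {R₀ A' D'' : Type u} [CommRing R₀] [CommRing A'] [CommRing D'']
    {σ : Type u} [Finite σ] (ψ : MvPolynomial σ R₀ →+* A') (hψ : ψ.Etale)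
    (s₀ : σ) (Sset : Set σ) (hs₀ : s₀ ∉ Sset) (I' : Ideal A')
    (hI' : I' = Ideal.span (ψ '' (MvPolynomial.X '' insert s₀ Sset)))
    (β : A' →+* D'') (ε : D'' ≃+* BlowUp.affineAlgebra A' I' (ψ (MvPolynomial.X s₀)))
    (hε : ∀ r, ε (β r) = algebraMap A' _ r) :
    (β.comp (ψ.comp MvPolynomial.C)).Smooth := by
  subst hI'
  letI := ψ.toAlgebra
  have hψ' : (algebraMap (MvPolynomial σ R₀) A').Etale := hψ
  have h1 := BlowFlat.smooth_of_etale (A := MvPolynomial σ R₀) (A' := A')
    (BlowAff.J (R := R₀) s₀ Sset) (MvPolynomial.X s₀) MvPolynomial.C (BlowAff.smooth hs₀) hψ'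
  have h2 : Ideal.map (algebraMap (MvPolynomial σ R₀) A') (BlowAff.J (R := R₀) s₀ Sset) =
      Ideal.span (ψ '' (MvPolynomial.X '' insert s₀ Sset)) := by
    unfold BlowAff.J
    rw [Ideal.map_span]
    rfl
  rw [h2] at h1
  have h3 : RingHom.Smooth (R := BlowUp.affineAlgebra A'
      (Ideal.span (ψ '' (MvPolynomial.X '' insert s₀ Sset))) (ψ (MvPolynomial.X s₀)))
      (S := D'') (RingEquiv.toRingHom ε.symm) := by
    exact RingHom.Smooth.of_bijective (RingEquiv.bijective ε.symm)
  have h4 := h1.comp h3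
  convert h4 using 1
  refine RingHom.ext fun r => ?_
  show β (ψ (MvPolynomial.C r)) = ε.symm (algebraMap A' _ (ψ (MvPolynomial.C r)))
  rw [← hε, RingEquiv.symm_apply_apply]

/-- The unit-ideal chart: `A → A[I/1]` is bijective. -/
theorem bijective_algebraMap_one {A : Type u} [CommRing A] (I : Ideal A) :
    Function.Bijective (algebraMap A (BlowUp.affineAlgebra A I (1 : A))) := by
  let e : A ≃ₐ[A] Localization.Away (1 : A) :=
    IsLocalization.atUnits A (Submonoid.powers (1 : A)) (by
      rintro _ ⟨n, rfl⟩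
      show IsUnit ((1 : A) ^ n)
      rw [one_pow]
      exact isUnit_one)
  have he : ∀ r, algebraMap A (Localization.Away (1 : A)) r = e r :=
    fun r => (e.commutes r).symm
  constructor
  · intro x y hxy
    have := congrArg Subtype.val hxy
    change algebraMap A (Localization.Away (1 : A)) x = algebraMap A _ y at this
    rw [he, he] at this
    exact e.injective this
  · intro d
    obtain ⟨x, hx⟩ := e.surjective d.1
    refine ⟨x, Subtype.ext ?_⟩
    change algebraMap A (Localization.Away (1 : A)) x = d.1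
    rw [he, hx]

/-- The unit-ideal chart, transported. -/
theorem smooth_chart_one {R₀ A' D'' : Type u} [CommRing R₀] [CommRing A'] [CommRing D'']
    (c : R₀ →+* A') (hc : c.Smooth) (I' : Ideal A')
    (β : A' →+* D'') (ε : D'' ≃+* BlowUp.affineAlgebra A' I' (1 : A'))
    (hε : ∀ r, ε (β r) = algebraMap A' _ r) : (β.comp c).Smooth := by
  refine hc.comp (RingHom.Smooth.of_bijective ?_)
  have h1 : ⇑β = ⇑ε.symm ∘ ⇑(algebraMap A' (BlowUp.affineAlgebra A' I' (1 : A'))) := by
    funext r
    show β r = ε.symm (algebraMap A' _ r)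
    rw [← hε, RingEquiv.symm_apply_apply]
  rw [h1]
  exact ε.symm.bijective.comp (bijective_algebraMap_one I')

end Groth.Agent.Lib.Helper20.BlowSmooth
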