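import Groth.Agent.Lib.Helper20.Seminormal4

set_option autoImplicit false
universe u
namespace Groth.Agent.Lib.Helper20.Descend
open AlgebraicGeometry CategoryTheory Limits TensorProduct

/-- for a field extension `L/K`, the equalizer of `L ⇉ L ⊗[K] L` is `K` -/
theorem mem_range_of_tmul_eq {K L : Type*} [Field K] [CommRing L] [Nontrivial L] [Algebra K L] (c : L)
    (h : c ⊗ₜ[K] (1 : L) = (1 : L) ⊗ₜ[K] c) : c ∈ (algebraMap K L).range := by
  have hinj : Function.Injective (Algebra.linearMap K L) := (algebraMap K L).injective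
  obtain ⟨φ, hφ⟩ := LinearMap.exists_leftInverse_of_injective (Algebra.linearMap K L)
    (LinearMap.ker_eq_bot.mpr hinj)
  have h1 : φ 1 = 1 := by
    have := LinearMap.congr_fun hφ 1
    simpa using this
  have h2 := congrArg (fun z => TensorProduct.lid K L (LinearMap.rTensor L φ z)) h
  simp only [LinearMap.rTensor_tmul, TensorProduct.lid_tmul, h1, one_smul] at h2
  exact ⟨φ c, by rw [Algebra.algebraMap_eq_smul_one]; exact h2⟩

end Groth.Agent.Lib.Helper20.Descend

namespace Groth.Agent.Lib.Helper20.Descend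
open AlgebraicGeometry CategoryTheory Limits TensorProduct

theorem fromSpecResidueField_appTop_ΓSpecIso {X : Scheme.{u}} (x : X) :
    (X.fromSpecResidueField x).appTop ≫ (Scheme.ΓSpecIso (X.residueField x)).hom =
      X.Γevaluation x := by
  rw [Scheme.fromSpecResidueField, Scheme.Hom.comp_appTop, Category.assoc,
    Scheme.ΓSpecIso_naturality, Scheme.fromSpecStalk_appTop]
  simp only [Category.assoc]
  change _ = X.presheaf.germ ⊤ x trivial ≫ X.residue x
  congr 1
  rw [← Category.assoc, ← Category.assoc]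
  convert Category.id_comp _
  simp

end Groth.Agent.Lib.Helper20.Descend

namespace Groth.Agent.Lib.Helper20.Descend
open AlgebraicGeometry CategoryTheory Limits TensorProduct

theorem Γevaluation_mem_range {X Y : Scheme.{u}} (π : Y ⟶ X) (d : Γ(Y, ⊤))
    (hd : (pullback.fst π π).appTop d = (pullback.snd π π).appTop d) (y : Y) :
    Y.Γevaluation y d ∈ (π.residueFieldMap y).hom.range := by
  letI : Algebra (X.residueField (π y)) (Y.residueField y) := (π.residueFieldMap y).hom.toAlgebra
  let K := X.residueField (π y)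
  let L := Y.residueField y
  let R : CommRingCat.{u} := CommRingCat.of (L ⊗[K] L)
  let i₁ : (Y.residueField y) ⟶ R :=
    CommRingCat.ofHom (Algebra.TensorProduct.includeLeft : L →ₐ[K] L ⊗[K] L).toRingHom
  let i₂ : (Y.residueField y) ⟶ R :=
    CommRingCat.ofHom (Algebra.TensorProduct.includeRight : L →ₐ[K] L ⊗[K] L).toRingHom
  have hi : π.residueFieldMap y ≫ i₁ = π.residueFieldMap y ≫ i₂ := by
    ext k
    change (Algebra.TensorProduct.includeLeft : L →ₐ[K] L ⊗[K] L) (algebraMap K L k) =
      (Algebra.TensorProduct.includeRight : L →ₐ[K] L ⊗[K] L) (algebraMap K L k)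
    rw [AlgHom.commutes, AlgHom.commutes]
  let a₁ : Spec R ⟶ Y := Spec.map i₁ ≫ Y.fromSpecResidueField y
  let a₂ : Spec R ⟶ Y := Spec.map i₂ ≫ Y.fromSpecResidueField y
  have ha : a₁ ≫ π = a₂ ≫ π := by
    simp only [a₁, a₂, Category.assoc]
    rw [← Scheme.Hom.SpecMap_residueFieldMap_fromSpecResidueField, ← Spec.map_comp_assoc,
      ← Spec.map_comp_assoc, hi]
  let w : Spec R ⟶ pullback π π := pullback.lift a₁ a₂ ha
  have h1 : a₁.appTop d = a₂.appTop d := by
    have e1 : w ≫ pullback.fst π π = a₁ := pullback.lift_fst _ _ _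
    have e2 : w ≫ pullback.snd π π = a₂ := pullback.lift_snd _ _ _
    rw [← e1, ← e2, Scheme.Hom.comp_appTop, Scheme.Hom.comp_appTop]
    simp only [CommRingCat.comp_apply]
    rw [hd]
  have h2 : ∀ (i : (Y.residueField y) ⟶ R),
      (Scheme.ΓSpecIso R).hom ((Spec.map i ≫ Y.fromSpecResidueField y).appTop d) =
        i (Y.Γevaluation y d) := by
    intro i
    rw [← fromSpecResidueField_appTop_ΓSpecIso, Scheme.Hom.comp_appTop]
    simp only [CommRingCat.comp_apply]
    rw [← CommRingCat.comp_apply, ← CommRingCat.comp_apply, Scheme.ΓSpecIso_naturality]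
    rfl
  have h3 : i₁ (Y.Γevaluation y d) = i₂ (Y.Γevaluation y d) := by
    rw [← h2 i₁, ← h2 i₂]
    exact congrArg _ h1
  exact mem_range_of_tmul_eq (K := K) (L := L) (Y.Γevaluation y d) h3

end Groth.Agent.Lib.Helper20.Descend

namespace Groth.Agent.Lib.Helper20.Descend
open AlgebraicGeometry CategoryTheory Limits TensorProduct

/-- on an affine scheme, elements of residue fields are fractions of values of global sections -/
theorem exists_Γevaluation_mul_eq {X : Scheme.{u}} [IsAffine X] (x : X) (k : X.residueField x) :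
    ∃ a s' : Γ(X, ⊤), X.Γevaluation x s' ≠ 0 ∧ X.Γevaluation x s' * k = X.Γevaluation x a := by
  have hU : IsAffineOpen (⊤ : X.Opens) := isAffineOpen_top X
  letI := X.presheaf.algebra_section_stalk (U := ⊤) ⟨x, trivial⟩
  have hloc := hU.isLocalization_stalk ⟨x, trivial⟩
  obtain ⟨g, rfl⟩ : ∃ g, X.residue x g = k := IsLocalRing.residue_surjective k
  obtain ⟨⟨a, s'⟩, h⟩ := IsLocalization.surj (hU.primeIdealOf ⟨x, trivial⟩).asIdeal.primeCompl g
  have hunit : IsUnit (algebraMap Γ(X, ⊤) (X.presheaf.stalk x) s') :=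
    IsLocalization.map_units (X.presheaf.stalk x) s'
  refine ⟨a, s', ?_, ?_⟩
  · change X.residue x (X.presheaf.germ ⊤ x trivial s'.1) ≠ 0
    have : IsUnit (X.residue x (X.presheaf.germ ⊤ x trivial s'.1)) := hunit.map (X.residue x).hom
    exact this.ne_zero
  · change X.residue x (X.presheaf.germ ⊤ x trivial s'.1) * X.residue x g =
      X.residue x (X.presheaf.germ ⊤ x trivial a)
    rw [← map_mul, mul_comm]
    exact congrArg (X.residue x) h

end Groth.Agent.Lib.Helper20.Descend
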