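import Groth.Agent.Lib.Helper20.Seminormal4
import Groth.Agent.Lib.Helper20.Descend1

set_option autoImplicit false
set_option linter.unusedSectionVars false
universe u
namespace Groth.Agent.Lib.Helper20.Descend
open AlgebraicGeometry CategoryTheory Limits TensorProduct
open Groth.Agent.Lib.Helper20.UnivHomeo

section Affine
variable {X Y : Scheme.{u}} (π : Y ⟶ X)

/-- the subring of global sections of `Y` equalizing the two projections of `Y ×_X Y` -/
noncomputable def eqRing : Subring Γ(Y, ⊤) :=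
  RingHom.eqLocus (pullback.fst π π).appTop.hom (pullback.snd π π).appTop.hom

theorem mem_eqRing (d : Γ(Y, ⊤)) :
    d ∈ eqRing π ↔ (pullback.fst π π).appTop d = (pullback.snd π π).appTop d := Iff.rfl

theorem appTop_mem_eqRing (a : Γ(X, ⊤)) : π.appTop.hom a ∈ eqRing π := by
  rw [mem_eqRing]
  change (π.appTop ≫ (pullback.fst π π).appTop) a = (π.appTop ≫ (pullback.snd π π).appTop) a
  rw [← Scheme.Hom.comp_appTop, ← Scheme.Hom.comp_appTop, pullback.condition]

/-- `Γ(X) → E` -/
noncomputable def toEq : Γ(X, ⊤) →+* eqRing π := π.appTop.hom.codRestrict (eqRing π) (appTop_mem_eqRing π)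

/-- `Y → Spec E` -/
noncomputable def toSpecEq : Y ⟶ Spec (CommRingCat.of (eqRing π)) :=
  Y.toSpecΓ ≫ Spec.map (CommRingCat.ofHom (eqRing π).subtype)

/-- `Spec E → X` -/
noncomputable def fromSpecEq [IsAffine X] : Spec (CommRingCat.of (eqRing π)) ⟶ X :=
  Spec.map (CommRingCat.ofHom (toEq π)) ≫ X.isoSpec.inv

theorem toSpecEq_fromSpecEq [IsAffine X] : toSpecEq π ≫ fromSpecEq π = π := by
  have hρ : CommRingCat.ofHom (toEq π) ≫ CommRingCat.ofHom (eqRing π).subtype = π.appTop := by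
    ext a
    rfl
  change (Y.toSpecΓ ≫ Spec.map _) ≫ Spec.map _ ≫ X.isoSpec.inv = π
  rw [Category.assoc, ← Spec.map_comp_assoc, hρ, ← Scheme.toSpecΓ_naturality_assoc,
    ← Scheme.isoSpec_hom, Iso.hom_inv_id, Category.comp_id]

theorem toSpecEq_appTop :
    (toSpecEq π).appTop = (Scheme.ΓSpecIso (CommRingCat.of (eqRing π))).hom ≫
      CommRingCat.ofHom (eqRing π).subtype := by
  change (Y.toSpecΓ ≫ Spec.map _).appTop = _
  rw [Scheme.Hom.comp_appTop, Scheme.toSpecΓ_appTop, Scheme.ΓSpecIso_naturality]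

theorem mem_asIdeal_toSpecEq_iff (y : Y) (e : eqRing π) :
    e ∈ ((toSpecEq π) y).asIdeal ↔ Y.Γevaluation y (e : Γ(Y, ⊤)) = 0 := by
  rw [Scheme.evaluation_eq_zero_iff_notMem_basicOpen, ← Scheme.toSpecΓ_preimage_basicOpen]
  change _ ↔ ¬ (Y.toSpecΓ y ∈ PrimeSpectrum.basicOpen (e : Γ(Y, ⊤)))
  have : (Y.toSpecΓ y ∈ PrimeSpectrum.basicOpen (e : Γ(Y, ⊤))) ↔
      (e : Γ(Y, ⊤)) ∉ (Y.toSpecΓ y).asIdeal := Iff.rfl
  rw [this, not_not]
  rfl

end Affine

section AffineProper
variable {X Y : Scheme.{u}} [IsAffine X] (π : Y ⟶ X) [IsProper π] [Surjective π]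

theorem surjective_toSpecEq : Surjective (toSpecEq π) := by
  have hc : CompactSpace Y := (quasiCompact_iff_compactSpace π).mp inferInstance
  have h1 : UniversallyClosed (toSpecEq π ≫ fromSpecEq π) := by
    rw [toSpecEq_fromSpecEq]; infer_instance
  have h2 : UniversallyClosed (toSpecEq π) := UniversallyClosed.of_comp_of_isSeparated _ (fromSpecEq π)
  have h3 : IsDominant (toSpecEq π) := by
    apply isDominant_of_of_appTop_injective
    rw [toSpecEq_appTop]
    intro a b hab
    have := Subtype.val_injective hab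
    exact (ConcreteCategory.bijective_of_isIso
      (Scheme.ΓSpecIso (CommRingCat.of (eqRing π))).hom).1 this
  infer_instance

theorem surjective_fromSpecEq : Surjective (fromSpecEq π) := by
  have : Surjective (toSpecEq π ≫ fromSpecEq π) := by
    rw [toSpecEq_fromSpecEq]; infer_instance
  exact Surjective.of_comp (toSpecEq π) _

theorem isIntegral_toEq : (toEq π).IsIntegral := by
  intro e
  obtain ⟨p, hp, hpe⟩ := isIntegral_appTop_of_universallyClosed π (e : Γ(Y, ⊤))
  refine ⟨p, hp, ?_⟩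
  apply Subtype.val_injective
  have := Polynomial.hom_eval₂ p (toEq π) (eqRing π).subtype e
  change (eqRing π).subtype (Polynomial.eval₂ (toEq π) e p) = 0
  rw [this]
  exact hpe

theorem isIntegralHom_fromSpecEq : IsIntegralHom (fromSpecEq π) := by
  have : IsIntegralHom (Spec.map (CommRingCat.ofHom (toEq π))) :=
    IsIntegralHom.SpecMap_iff.mpr (isIntegral_toEq π)
  unfold fromSpecEq
  infer_instance

theorem Γevaluation_eq_zero_iff_of_mem_eqRing (e : eqRing π) (w : ↑(pullback π π)) :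
    Y.Γevaluation (pullback.fst π π w) (e : Γ(Y, ⊤)) = 0 ↔
      Y.Γevaluation (pullback.snd π π w) (e : Γ(Y, ⊤)) = 0 := by
  have h1 := Scheme.Γevaluation_naturality_apply (pullback.fst π π) w (e : Γ(Y, ⊤))
  have h2 := Scheme.Γevaluation_naturality_apply (pullback.snd π π) w (e : Γ(Y, ⊤))
  have he : (pullback.fst π π).appTop (e : Γ(Y, ⊤)) = (pullback.snd π π).appTop (e : Γ(Y, ⊤)) := e.2
  rw [← map_eq_zero_iff _ ((pullback.fst π π).residueFieldMap w).hom.injective,
    ← map_eq_zero_iff _ ((pullback.snd π π).residueFieldMap w).hom.injective]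
  change ((pullback.fst π π).residueFieldMap w) _ = 0 ↔ ((pullback.snd π π).residueFieldMap w) _ = 0
  rw [h1, h2, he]

theorem injective_fromSpecEq : Function.Injective (fromSpecEq π) := by
  intro z₁ z₂ h
  obtain ⟨y₁, rfl⟩ := (surjective_toSpecEq π).surj z₁
  obtain ⟨y₂, rfl⟩ := (surjective_toSpecEq π).surj z₂
  have hπ : π y₁ = π y₂ := by
    rw [← Scheme.Hom.comp_apply, ← Scheme.Hom.comp_apply, toSpecEq_fromSpecEq] at h
    exact h
  obtain ⟨w, rfl, rfl⟩ := Scheme.Pullback.exists_preimage_pullback y₁ y₂ hπ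
  apply PrimeSpectrum.ext
  ext e
  rw [mem_asIdeal_toSpecEq_iff, mem_asIdeal_toSpecEq_iff]
  exact Γevaluation_eq_zero_iff_of_mem_eqRing π e w

theorem resTriv_toEq : letI := (toEq π).toAlgebra; ResTriv Γ(X, ⊤) (eqRing π) := by
  letI := (toEq π).toAlgebra
  intro 𝔮 _ e
  obtain ⟨y, hy⟩ := (surjective_toSpecEq π).surj (⟨𝔮, inferInstance⟩ : PrimeSpectrum (eqRing π))
  have h𝔮 : 𝔮 = ((toSpecEq π) y).asIdeal := by rw [hy]
  obtain ⟨k, hk⟩ := Γevaluation_mem_range π (e : Γ(Y, ⊤)) e.2 y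
  obtain ⟨a, s', hs', hmul⟩ := exists_Γevaluation_mul_eq (π y) k
  have hnat : ∀ b : Γ(X, ⊤), Y.Γevaluation y (π.appTop b) =
      (π.residueFieldMap y) (X.Γevaluation (π y) b) := fun b =>
    (Scheme.Γevaluation_naturality_apply π y b).symm
  refine ⟨a, s', ?_, ?_⟩
  · rw [h𝔮, mem_asIdeal_toSpecEq_iff]
    change ¬ (Y.Γevaluation y (π.appTop s') = 0)
    rw [hnat]
    exact fun h => hs' ((map_eq_zero_iff _ (π.residueFieldMap y).hom.injective).mp h)
  · rw [h𝔮, mem_asIdeal_toSpecEq_iff]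
    change Y.Γevaluation y (π.appTop s' * (e : Γ(Y, ⊤)) - π.appTop a) = 0
    rw [map_sub, map_mul, hnat, hnat]
    change (π.residueFieldMap y).hom _ * _ - (π.residueFieldMap y).hom _ = 0
    rw [← hk, ← map_mul, ← map_sub, hmul, sub_self, map_zero]

theorem residueFieldsIso_fromSpecEq : HTop.ResidueFieldsIso (fromSpecEq π) := by
  letI := (toEq π).toAlgebra
  have h1 : HTop.ResidueFieldsIso (Spec.map (CommRingCat.ofHom (toEq π))) := by
    intro z
    have hs := (forall_surjective_residueFieldMap_iff (A := Γ(X, ⊤)) (B := eqRing π)).mpr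
      (resTriv_toEq π) z
    rw [ConcreteCategory.isIso_iff_bijective]
    exact ⟨((Spec.map (CommRingCat.ofHom (toEq π))).residueFieldMap z).hom.injective, hs⟩
  exact Groth.Agent.Lib.Helper20.ImageUH.residueFieldsIso_comp _ _ h1
    (Groth.Agent.Lib.Helper20.Seminormal.residueFieldsIso_of_isOpenImmersion _)

theorem isPurelyInseparable_of_surjective {K L : Type*} [Field K] [Field L] (f : K →+* L)
    (hf : Function.Surjective f) : f.IsPurelyInseparable := by
  letI := f.toAlgebra
  change IsPurelyInseparable K L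
  rw [isPurelyInseparable_iff]
  intro x
  obtain ⟨k, rfl⟩ := hf x
  exact ⟨isIntegral_algebraMap, fun _ => ⟨k, rfl⟩⟩

theorem isUnivHomeo_fromSpecEq : FlatMor.IsUnivHomeo (fromSpecEq π) := by
  rw [isUnivHomeo_iff_scheme]
  refine ⟨isIntegralHom_fromSpecEq π, ?_, surjective_fromSpecEq π⟩
  have htfae := (tfae_universallyInjective (fromSpecEq π)).out 0 2
  rw [htfae]
  refine ⟨injective_fromSpecEq π, fun z => ?_⟩
  have := residueFieldsIso_fromSpecEq π z
  have hs : Function.Surjective ((fromSpecEq π).residueFieldMap z).hom :=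
    ((ConcreteCategory.isIso_iff_bijective _).mp this).2
  exact isPurelyInseparable_of_surjective _ hs

theorem exists_descend_of_isAffine (hX : HTop.IsSeminormal X) [IsReduced Y]
    (s : Γ(Y, ⊤)) (hs : (pullback.fst π π).appTop s = (pullback.snd π π).appTop s) :
    ∃ t : Γ(X, ⊤), π.appTop t = s := by
  have hred : IsReduced (Spec (CommRingCat.of (eqRing π))) := by
    have : _root_.IsReduced (eqRing π) :=
      isReduced_of_injective (eqRing π).subtype Subtype.val_injective
    infer_instance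
  have hiso : IsIso (fromSpecEq π) :=
    Groth.Agent.Lib.Helper20.Seminormal.isIso_of_uh_rfi_of_isSeminormal _
      (isUnivHomeo_fromSpecEq π) (residueFieldsIso_fromSpecEq π) hX
  let a_s : Γ(Spec (CommRingCat.of (eqRing π)), ⊤) :=
    (Scheme.ΓSpecIso (CommRingCat.of (eqRing π))).inv ⟨s, hs⟩
  refine ⟨(inv (fromSpecEq π)).appTop a_s, ?_⟩
  have h1 : π.appTop = (fromSpecEq π).appTop ≫ (toSpecEq π).appTop := by
    rw [← Scheme.Hom.comp_appTop, toSpecEq_fromSpecEq]
  have h2 : (inv (fromSpecEq π)).appTop ≫ (fromSpecEq π).appTop = 𝟙 _ := by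
    rw [← Scheme.Hom.comp_appTop, IsIso.hom_inv_id, Scheme.Hom.id_appTop]
  rw [h1]
  change ((inv (fromSpecEq π)).appTop ≫ (fromSpecEq π).appTop ≫ (toSpecEq π).appTop) a_s = s
  rw [← Category.assoc, h2, Category.id_comp, toSpecEq_appTop]
  change (eqRing π).subtype ((Scheme.ΓSpecIso (CommRingCat.of (eqRing π))).hom
    ((Scheme.ΓSpecIso (CommRingCat.of (eqRing π))).inv ⟨s, hs⟩)) = s
  have : (Scheme.ΓSpecIso (CommRingCat.of (eqRing π))).hom
    ((Scheme.ΓSpecIso (CommRingCat.of (eqRing π))).inv ⟨s, hs⟩) = ⟨s, hs⟩ :=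
    Iso.inv_hom_id_apply (C := CommRingCat) _ _
  rw [this]
  rfl

end AffineProper

end Groth.Agent.Lib.Helper20.Descend
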