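import Groth.Agent.Lib.Helper20.Descend2

set_option autoImplicit false
set_option linter.unusedSectionVars false
universe u
namespace Groth.Agent.Lib.Helper20.Descend
open AlgebraicGeometry CategoryTheory Limits TensorProduct
open Groth.Agent.Lib.Helper20.UnivHomeo

theorem app_eq_of_appLE_eq {X Y : Scheme.{u}} (π : Y ⟶ X) (W U : X.Opens) (hUW : U ≤ W)
    (V' : Y.Opens) (hV' : π ⁻¹ᵁ U ≤ V') (hV'W : V' ≤ π ⁻¹ᵁ W) (t'' : Γ(X, W)) (s : Γ(Y, ⊤))
    (h : π.appLE W V' hV'W t'' = Y.presheaf.map (homOfLE le_top).op s) :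
    π.app U (X.presheaf.map (homOfLE hUW).op t'') = Y.presheaf.map (homOfLE le_top).op s := by
  have h' := congrArg (Y.presheaf.map (homOfLE hV').op) h
  rw [← CommRingCat.comp_apply, ← CommRingCat.comp_apply, Scheme.Hom.appLE_map,
    ← Functor.map_comp] at h'
  rw [← CommRingCat.comp_apply, Scheme.Hom.app_eq_appLE, Scheme.Hom.map_appLE]
  exact h'

theorem app_eq_of_morphismRestrict_appTop_eq {X Y : Scheme.{u}} (π : Y ⟶ X) (U : X.Opens)
    (s : Γ(Y, ⊤)) (t' : Γ(U, ⊤))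
    (h : (π ∣_ U).appTop t' = (π ⁻¹ᵁ U).ι.appTop s) :
    π.app U (U.topIso.hom t') = Y.presheaf.map (homOfLE le_top).op s := by
  have hUW : U ≤ U.ι ''ᵁ ⊤ := by rw [U.ι_image_top]
  have hV' : π ⁻¹ᵁ U ≤ (π ⁻¹ᵁ U).ι ''ᵁ ((π ∣_ U) ⁻¹ᵁ ⊤) := by
    change π ⁻¹ᵁ U ≤ (π ⁻¹ᵁ U).ι ''ᵁ ⊤
    rw [(π ⁻¹ᵁ U).ι_image_top]
  have h2 := (congrArg (fun φ => φ.hom t') (morphismRestrict_app' π U ⊤)).symm.trans h
  exact app_eq_of_appLE_eq π (U.ι ''ᵁ ⊤) U hUW _ hV' _ t' s h2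

theorem exists_local_descend {X Y : Scheme.{u}} (hX : HTop.IsSeminormal X)
    (π : Y ⟶ X) [IsProper π] [Surjective π] [IsReduced Y]
    (s : Γ(Y, ⊤)) (hs : (pullback.fst π π).appTop s = (pullback.snd π π).appTop s)
    (U : X.Opens) (hU : IsAffineOpen U) :
    ∃ t : Γ(X, U), π.app U t = Y.presheaf.map (homOfLE le_top).op s := by
  haveI : IsAffine (U : Scheme.{u}) := hU
  have hXU := Groth.Agent.Lib.Helper20.Seminormal.isSeminormal_opens hX U
  haveI : IsProper (π ∣_ U) := IsZariskiLocalAtTarget.restrict ‹_› U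
  haveI : Surjective (π ∣_ U) := IsZariskiLocalAtTarget.restrict ‹_› U
  let m : pullback (π ∣_ U) (π ∣_ U) ⟶ pullback π π :=
    pullback.map (π ∣_ U) (π ∣_ U) π π (π ⁻¹ᵁ U).ι (π ⁻¹ᵁ U).ι U.ι
      (morphismRestrict_ι π U) (morphismRestrict_ι π U)
  have hm1 : m ≫ pullback.fst π π = pullback.fst (π ∣_ U) (π ∣_ U) ≫ (π ⁻¹ᵁ U).ι :=
    pullback.lift_fst _ _ _
  have hm2 : m ≫ pullback.snd π π = pullback.snd (π ∣_ U) (π ∣_ U) ≫ (π ⁻¹ᵁ U).ι :=
    pullback.lift_snd _ _ _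
  have hs' : (pullback.fst (π ∣_ U) (π ∣_ U)).appTop ((π ⁻¹ᵁ U).ι.appTop s) =
      (pullback.snd (π ∣_ U) (π ∣_ U)).appTop ((π ⁻¹ᵁ U).ι.appTop s) := by
    rw [← CommRingCat.comp_apply, ← CommRingCat.comp_apply, ← Scheme.Hom.comp_appTop,
      ← Scheme.Hom.comp_appTop, ← hm1, ← hm2, Scheme.Hom.comp_appTop, Scheme.Hom.comp_appTop,
      CommRingCat.comp_apply, CommRingCat.comp_apply, hs]
  obtain ⟨t', ht'⟩ := exists_descend_of_isAffine (π ∣_ U) hXU ((π ⁻¹ᵁ U).ι.appTop s) hs'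
  exact ⟨U.topIso.hom t', app_eq_of_morphismRestrict_appTop_eq π U s t' ht'⟩

theorem map_app_eq {X Y : Scheme.{u}} (π : Y ⟶ X) {U W : X.Opens} (hUW : U ≤ W) (a : Γ(X, W)) :
    π.app U (X.presheaf.map (homOfLE hUW).op a) =
      Y.presheaf.map (homOfLE (show π ⁻¹ᵁ U ≤ π ⁻¹ᵁ W from fun _ h => hUW h)).op (π.app W a) := by
  rw [← CommRingCat.comp_apply, ← CommRingCat.comp_apply, Scheme.Hom.naturality]
  rfl

theorem map_map_eq {Y : Scheme.{u}} {U V W : Y.Opens} (h1 : U ≤ V) (h2 : V ≤ W) (s : Γ(Y, W)) :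
    Y.presheaf.map (homOfLE h1).op (Y.presheaf.map (homOfLE h2).op s) =
      Y.presheaf.map (homOfLE (h1.trans h2)).op s := by
  rw [← CommRingCat.comp_apply, ← Functor.map_comp]
  rfl

/-- S13113 -/
theorem existsUnique_descend {X Y : Scheme.{u}} (hX : HTop.IsSeminormal X)
    (π : Y ⟶ X) [IsProper π] [Surjective π] [IsReduced Y]
    (s : Γ(Y, ⊤)) (hs : (pullback.fst π π).appTop s = (pullback.snd π π).appTop s) :
    ∃! t : Γ(X, ⊤), π.appTop t = s := by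
  have hXred : IsReduced X := Groth.Agent.Lib.Helper20.Seminormal.isReduced_of_isSeminormal hX
  have hdom : IsSchemeTheoreticallyDominant π := .of_isDominant π
  have hinj : ∀ U : X.Opens, Function.Injective (π.app U) := fun U => π.app_injective U
  choose t ht using fun U : X.affineOpens => exists_local_descend hX π s hs U.1 U.2
  let O : X.affineOpens → X.Opens := fun U => U.1
  have hcover : (⊤ : X.Opens) ≤ iSup O := by
    rw [iSup_affineOpens_eq_top]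
  let i : ∀ U : X.affineOpens, O U ⟶ (⊤ : X.Opens) := fun U => homOfLE le_top
  have hcompat : TopCat.Presheaf.IsCompatible X.presheaf O t := by
    intro U U'
    apply hinj (O U ⊓ O U')
    have h1 := map_app_eq π (inf_le_left : O U ⊓ O U' ≤ O U) (t U)
    have h2 := map_app_eq π (inf_le_right : O U ⊓ O U' ≤ O U') (t U')
    rw [ht U, map_map_eq] at h1
    rw [ht U', map_map_eq] at h2
    exact h1.trans h2.symm
  obtain ⟨a, ha, -⟩ : ∃! a : Γ(X, ⊤), ∀ U, X.presheaf.map (i U).op a = t U :=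
    X.sheaf.existsUnique_gluing' O ⊤ i hcover t hcompat
  have has : π.appTop a = s := by
    have hcoverY : (⊤ : Y.Opens) ≤ ⨆ U : X.affineOpens, π ⁻¹ᵁ (O U) := by
      intro y _
      have : π y ∈ iSup O := hcover trivial
      obtain ⟨U, hU⟩ := TopologicalSpace.Opens.mem_iSup.mp this
      exact TopologicalSpace.Opens.mem_iSup.mpr ⟨U, hU⟩
    apply Y.sheaf.eq_of_locally_eq' (fun U : X.affineOpens => π ⁻¹ᵁ (O U)) ⊤
      (fun U => homOfLE le_top) hcoverY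
    intro U
    have h1 := map_app_eq π (le_top : O U ≤ ⊤) a
    have h2 : X.presheaf.map (homOfLE (le_top : O U ≤ ⊤)).op a = t U := ha U
    rw [h2, ht U] at h1
    exact h1.symm
  refine ⟨a, has, fun b hb => hinj ⊤ ?_⟩
  exact hb.trans has.symm

end Groth.Agent.Lib.Helper20.Descend
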