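import Groth.Agent.Lib.Helper20.UnivHomeoChain

set_option autoImplicit false
universe u
open CategoryTheory Limits

namespace Groth.Agent.Lib.Helper20.FPApprox

section ColimCriterion

variable {A : CommRingCat.{u}} {J : Type u} [Preorder J] [IsDirected J (· ≤ ·)] [Nonempty J]

attribute [local instance] IsFiltered.isConnected

/-- A cocone over a directed system in `Under A` which is jointly surjective and separates
elements only when they become equal later is a colimit cocone (same criterion as in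
`Groth.Agent.Lib.Helper50.FPColim`, restated here to keep this library self-contained). -/
noncomputable def isColimitUnderOfTypes (F : J ⥤ Under A) (c : Cocone F)
    (hsurj : ∀ x : c.pt.right, ∃ (j : J) (y : (F.obj j).right), (c.ι.app j).right y = x)
    (hinj : ∀ (j : J) (y y' : (F.obj j).right), (c.ι.app j).right y = (c.ι.app j).right y' →
       ∃ (k : J) (hjk : j ≤ k), (F.map (homOfLE hjk)).right y = (F.map (homOfLE hjk)).right y') :
    IsColimit c := by
  have h1 : ReflectsColimitsOfShape J (Under.forget A) := inferInstance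
  have h2 : ReflectsColimitsOfShape J (forget CommRingCat.{u}) :=
    reflectsColimitsOfShape_of_reflectsIsomorphisms
  apply isColimitOfReflects (Under.forget A ⋙ forget CommRingCat)
  apply Types.FilteredColimit.isColimitOf'
  · intro x
    obtain ⟨j, y, rfl⟩ := hsurj x
    exact ⟨j, y, rfl⟩
  · intro j y y' e
    obtain ⟨k, hjk, h⟩ := hinj j y y' e
    exact ⟨k, homOfLE hjk, h⟩

end ColimCriterion

section Basic

variable (A B : Type u) [CommRing A] [CommRing B] [Algebra A B]

/-- evaluation at the tautological point -/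
noncomputable def ev (S : Finset B) : MvPolynomial S A →ₐ[A] B :=
  MvPolynomial.aeval (fun s : S => (s : B))

variable {B} in
/-- inclusion of finite subsets as a map of the subtypes -/
def inc {S S' : Finset B} (h : S ⊆ S') : S → S' := fun x => ⟨x.1, h x.2⟩

/-- a finite presentation mapping to `B` -/
structure Pres where
  S : Finset B
  I : Ideal (MvPolynomial S A)
  fg : I.FG
  le_ker : ∀ x ∈ I, ev A B S x = 0

variable {A B}

theorem ev_X (S : Finset B) (s : S) : ev A B S (MvPolynomial.X s) = s := by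
  simp [ev]

theorem ev_rename {S S' : Finset B} (h : S ⊆ S') (x : MvPolynomial S A) :
    ev A B S' (MvPolynomial.rename (inc h) x) = ev A B S x := by
  simp only [ev, MvPolynomial.aeval_rename]
  rfl

/-- the algebra presented -/
abbrev Pres.Alg (j : Pres A B) : Type u := MvPolynomial j.S A ⧸ j.I

instance : Preorder (Pres A B) where
  le j j' := ∃ h : j.S ⊆ j'.S, ∀ x ∈ j.I, MvPolynomial.rename (inc h) x ∈ j'.I
  le_refl j := ⟨Finset.Subset.refl _, fun x hx => by
    have : inc (Finset.Subset.refl j.S) = id := by funext x; rfl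
    rw [this, MvPolynomial.rename_id]
    exact hx⟩
  le_trans j j' j'' := by
    rintro ⟨h1, h2⟩ ⟨h1', h2'⟩
    refine ⟨h1.trans h1', fun x hx => ?_⟩
    have := h2' _ (h2 x hx)
    rw [MvPolynomial.rename_rename] at this
    exact this

theorem Pres.le_def {j j' : Pres A B} :
    j ≤ j' ↔ ∃ h : j.S ⊆ j'.S, ∀ x ∈ j.I, MvPolynomial.rename (inc h) x ∈ j'.I := Iff.rfl

/-- transition maps -/
noncomputable def Pres.trans {j j' : Pres A B} (h : j ≤ j') : j.Alg →ₐ[A] j'.Alg :=
  Ideal.quotientMapₐ j'.I (MvPolynomial.rename (inc h.choose)) (fun x hx => h.choose_spec x hx)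

theorem Pres.trans_mk {j j' : Pres A B} (h : j ≤ j') (hS : j.S ⊆ j'.S) (x : MvPolynomial j.S A) :
    Pres.trans h (Ideal.Quotient.mk j.I x) = Ideal.Quotient.mk j'.I (MvPolynomial.rename (inc hS) x) :=
  rfl

theorem Pres.trans_mk_eq {j j' : Pres A B} (h : j ≤ j') (q q' : MvPolynomial j.S A)
    (hS : j.S ⊆ j'.S) (hq : MvPolynomial.rename (inc hS) (q - q') ∈ j'.I) :
    Pres.trans h (Ideal.Quotient.mk j.I q) = Pres.trans h (Ideal.Quotient.mk j.I q') := by
  rw [Pres.trans_mk h hS, Pres.trans_mk h hS, Ideal.Quotient.eq, ← map_sub]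
  exact hq

/-- the map to `B` -/
noncomputable def Pres.leg (j : Pres A B) : j.Alg →ₐ[A] B :=
  Ideal.Quotient.liftₐ j.I (ev A B j.S) j.le_ker

theorem Pres.leg_mk (j : Pres A B) (x : MvPolynomial j.S A) :
    j.leg (Ideal.Quotient.mk j.I x) = ev A B j.S x := rfl

theorem Pres.leg_trans {j j' : Pres A B} (h : j ≤ j') (y : j.Alg) :
    j'.leg (Pres.trans h y) = j.leg y := by
  obtain ⟨x, rfl⟩ := Ideal.Quotient.mk_surjective y
  rw [Pres.trans_mk h h.choose, Pres.leg_mk, Pres.leg_mk, ev_rename]

theorem Pres.trans_refl {j : Pres A B} (h : j ≤ j) (y : j.Alg) : Pres.trans h y = y := by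
  obtain ⟨x, rfl⟩ := Ideal.Quotient.mk_surjective y
  rw [Pres.trans_mk h (Finset.Subset.refl _)]
  have : inc (Finset.Subset.refl j.S) = id := by funext x; rfl
  rw [this, MvPolynomial.rename_id]
  rfl

theorem Pres.trans_trans {j j' j'' : Pres A B} (h : j ≤ j') (h' : j' ≤ j'') (h'' : j ≤ j'')
    (y : j.Alg) : Pres.trans h' (Pres.trans h y) = Pres.trans h'' y := by
  obtain ⟨x, rfl⟩ := Ideal.Quotient.mk_surjective y
  rw [Pres.trans_mk h h.choose, Pres.trans_mk h' h'.choose, Pres.trans_mk h'' (h.choose.trans h'.choose),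
    MvPolynomial.rename_rename]
  rfl

theorem Pres.finitePresentation (j : Pres A B) : Algebra.FinitePresentation A j.Alg :=
  Algebra.FinitePresentation.quotient j.fg

theorem Pres.adjoin_eq_top (j : Pres A B) :
    Algebra.adjoin A (Set.range fun s : j.S => (Ideal.Quotient.mk j.I (MvPolynomial.X s) : j.Alg)) = ⊤ := by
  have h1 := MvPolynomial.adjoin_range_X (R := A) (σ := j.S)
  have h2 : (Algebra.adjoin A (Set.range (MvPolynomial.X : j.S → MvPolynomial j.S A))).map
      (Ideal.Quotient.mkₐ A j.I) = ⊤ := by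
    rw [h1, Algebra.map_top, AlgHom.range_eq_top]
    exact Ideal.Quotient.mkₐ_surjective A j.I
  rw [AlgHom.map_adjoin, ← Set.range_comp] at h2
  exact h2

end Basic

section Diagram

variable {A B : Type u} [CommRing A] [CommRing B] [Algebra A B] (good : Pres A B → Prop)

/-- the good presentations -/
abbrev GoodPres : Type u := {j : Pres A B // good j}

/-- the diagram of good presentations -/
noncomputable def functor : GoodPres good ⥤ Under (CommRingCat.of A) where
  obj j := Under.mk (CommRingCat.ofHom (algebraMap A j.1.Alg))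
  map {j j'} g := Under.homMk (CommRingCat.ofHom (Pres.trans (j := j.1) (j' := j'.1) (leOfHom g)).toRingHom)
    (by ext a; exact (Pres.trans (j := j.1) (j' := j'.1) (leOfHom g)).commutes a)
  map_id j := by
    ext x
    exact Pres.trans_refl (j := j.1) le_rfl x
  map_comp {j j' j''} g g' := by
    ext x
    exact (Pres.trans_trans (j := j.1) (j' := j'.1) (j'' := j''.1) (leOfHom g) (leOfHom g')
      (leOfHom (g ≫ g')) x).symm

/-- the cocone over `B` -/
noncomputable def cocone : Cocone (functor good) where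
  pt := Under.mk (CommRingCat.ofHom (algebraMap A B))
  ι :=
    { app := fun j => Under.homMk (CommRingCat.ofHom j.1.leg.toRingHom)
        (by ext a; exact j.1.leg.commutes a)
      naturality := fun j j' g => by
        ext x
        exact Pres.leg_trans (j := j.1) (j' := j'.1) (leOfHom g) x }

variable (hcof : ∀ S₀ : Finset B, ∃ j : Pres A B, good j ∧ S₀ ⊆ j.S)
  (hup : ∀ (j : Pres A B) (I' : Ideal (MvPolynomial j.S A)) (fg' : I'.FG)
    (le_ker' : ∀ x ∈ I', ev A B j.S x = 0), j.I ≤ I' → good j → good ⟨j.S, I', fg', le_ker'⟩)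

include hcof in
theorem nonempty_goodPres : Nonempty (GoodPres good) := by
  obtain ⟨j, hj, -⟩ := hcof ∅
  exact ⟨⟨j, hj⟩⟩

include hcof hup in
theorem isDirected_goodPres : IsDirected (GoodPres good) (· ≤ ·) := by
  classical
  refine ⟨fun j₁ j₂ => ?_⟩
  obtain ⟨j₀, hj₀, hS⟩ := hcof (j₁.1.S ∪ j₂.1.S)
  have h1 : j₁.1.S ⊆ j₀.S := Finset.union_subset_left hS
  have h2 : j₂.1.S ⊆ j₀.S := Finset.union_subset_right hS
  let I' : Ideal (MvPolynomial j₀.S A) :=
    j₀.I ⊔ (j₁.1.I.map (MvPolynomial.rename (inc h1)) ⊔ j₂.1.I.map (MvPolynomial.rename (inc h2)))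
  have fg' : I'.FG := Submodule.FG.sup j₀.fg (Submodule.FG.sup (Ideal.FG.map j₁.1.fg _) (Ideal.FG.map j₂.1.fg _))
  have le_ker' : ∀ x ∈ I', ev A B j₀.S x = 0 := by
    intro x hx
    have : I' ≤ RingHom.ker (ev A B j₀.S) := by
      refine sup_le (fun x hx => j₀.le_ker x hx) (sup_le ?_ ?_)
      · rw [Ideal.map_le_iff_le_comap]
        intro x hx
        rw [Ideal.mem_comap, RingHom.mem_ker, ev_rename]
        exact j₁.1.le_ker x hx
      · rw [Ideal.map_le_iff_le_comap]
        intro x hx
        rw [Ideal.mem_comap, RingHom.mem_ker, ev_rename]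
        exact j₂.1.le_ker x hx
    exact this hx
  refine ⟨⟨⟨j₀.S, I', fg', le_ker'⟩, hup j₀ I' fg' le_ker' le_sup_left hj₀⟩, ?_, ?_⟩
  · refine ⟨h1, fun x hx => ?_⟩
    exact Ideal.mem_sup_right (Ideal.mem_sup_left (Ideal.mem_map_of_mem _ hx))
  · refine ⟨h2, fun x hx => ?_⟩
    exact Ideal.mem_sup_right (Ideal.mem_sup_right (Ideal.mem_map_of_mem _ hx))

include hcof hup in
theorem exists_isColimit :
    ∃ (_ : IsDirected (GoodPres good) (· ≤ ·)) (_ : Nonempty (GoodPres good)),
      Nonempty (IsColimit (cocone good)) := by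
  have hd := isDirected_goodPres good hcof hup
  have hn := nonempty_goodPres good hcof
  refine ⟨hd, hn, ⟨?_⟩⟩
  refine isColimitUnderOfTypes _ _ ?_ ?_
  · intro (x : B)
    obtain ⟨j, hj, hS⟩ := hcof {x}
    have hx : x ∈ j.S := hS (Finset.mem_singleton_self x)
    refine ⟨⟨j, hj⟩, (Ideal.Quotient.mk j.I (MvPolynomial.X ⟨x, hx⟩) : j.Alg), ?_⟩
    change j.leg (Ideal.Quotient.mk j.I (MvPolynomial.X ⟨x, hx⟩)) = x
    rw [Pres.leg_mk, ev_X]
  · intro j y y' e
    have e' : j.1.leg y = j.1.leg y' := e
    obtain ⟨q, rfl⟩ := Ideal.Quotient.mk_surjective y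
    obtain ⟨q', rfl⟩ := Ideal.Quotient.mk_surjective y'
    rw [Pres.leg_mk, Pres.leg_mk] at e'
    let I' : Ideal (MvPolynomial j.1.S A) := j.1.I ⊔ Ideal.span {q - q'}
    have fg' : I'.FG := Submodule.FG.sup j.1.fg ⟨{q - q'}, by simp⟩
    have le_ker' : ∀ x ∈ I', ev A B j.1.S x = 0 := by
      intro x hx
      have : I' ≤ RingHom.ker (ev A B j.1.S) := by
        refine sup_le (fun x hx => j.1.le_ker x hx) ?_
        rw [Ideal.span_le]
        intro z hz
        rw [Set.mem_singleton_iff] at hz
        subst hz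
        change _ ∈ RingHom.ker _
        rw [RingHom.mem_ker, map_sub, e', sub_self]
      exact this hx
    let k : GoodPres good := ⟨⟨j.1.S, I', fg', le_ker'⟩, hup j.1 I' fg' le_ker' le_sup_left j.2⟩
    have hjk : j ≤ k := by
      refine ⟨Finset.Subset.refl _, fun x hx => ?_⟩
      have : inc (Finset.Subset.refl j.1.S) = id := by funext x; rfl
      rw [this, MvPolynomial.rename_id]
      exact Ideal.mem_sup_left hx
    refine ⟨k, hjk, ?_⟩
    refine Pres.trans_mk_eq (j := j.1) (j' := k.1) hjk q q' (Finset.Subset.refl _) ?_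
    have : inc (Finset.Subset.refl j.1.S) = id := by funext x; rfl
    rw [this, MvPolynomial.rename_id]
    exact Ideal.mem_sup_right (Ideal.subset_span rfl)

end Diagram

end Groth.Agent.Lib.Helper20.FPApprox
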