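import Groth.Agent.Lib.Helper20.FPApprox

set_option autoImplicit false
universe u
open CategoryTheory Limits

namespace Groth.Agent.Lib.Helper20.FPApprox

open Groth.Agent.Lib.Helper20.UnivHomeo

section Good

variable {A B : Type u} [CommRing A] [CommRing B] [Algebra A B]

theorem uh_of_surjective_algHom {C C' : Type u} [CommRing C] [CommRing C'] [Algebra A C]
    [Algebra A C'] (g : C →ₐ[A] C') (hg : Function.Surjective g) (h : UH A C)
    (hker : ∀ a : A, algebraMap A C' a = 0 → IsNilpotent a) : UH A C' where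
  integral := ⟨fun c' => by
    obtain ⟨c, rfl⟩ := hg c'
    exact (h.integral.isIntegral c).map g⟩
  ker_nil := hker
  radicial := fun c' => by
    obtain ⟨c, rfl⟩ := hg c'
    exact isNilpotent_delta_map g c (h.radicial c)

theorem resTriv_of_surjective_algHom {C C' : Type u} [CommRing C] [CommRing C'] [Algebra A C]
    [Algebra A C'] (g : C →ₐ[A] C') (hg : Function.Surjective g) (h : ResTriv A C) :
    ResTriv A C' := by
  intro 𝔮 _ c'
  obtain ⟨c, rfl⟩ := hg c'
  exact ResTrivAt.map g 𝔮 c (h (𝔮.comap g) c)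

theorem Pres.ker_nil (j : Pres A B) (hker : ∀ a : A, algebraMap A B a = 0 → IsNilpotent a)
    (a : A) (ha : algebraMap A j.Alg a = 0) : IsNilpotent a := by
  apply hker
  have := congrArg j.leg ha
  rwa [AlgHom.commutes, map_zero] at this

theorem range_trans_le_radicialClosure {j j' : Pres A B} (h : j ≤ j') (hj : UH A j.Alg) :
    (Pres.trans h).range ≤ radicialClosure A j'.Alg := by
  rintro _ ⟨y, rfl⟩
  exact isNilpotent_delta_map (Pres.trans h) y (hj.radicial y)

theorem isIntegral_trans {j j' : Pres A B} (h : j ≤ j') (hj : UH A j.Alg) (y : j.Alg) :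
    IsIntegral A (Pres.trans h y) := (hj.integral.isIntegral y).map (Pres.trans h)

variable [DecidableEq B]

/-- extend a presentation by one variable and finitely many relations -/
noncomputable abbrev Pres.extend (j : Pres A B) (b : B)
    (rels : Finset (MvPolynomial ↥(insert b j.S) A))
    (hrels : ∀ r ∈ rels, ev A B (insert b j.S) r = 0) : Pres A B where
  S := insert b j.S
  I := j.I.map (MvPolynomial.rename (inc (Finset.subset_insert b j.S))) ⊔ Ideal.span (rels : Set _)
  fg := Submodule.FG.sup (Ideal.FG.map j.fg _) ⟨rels, rfl⟩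
  le_ker := by
    intro x hx
    have : j.I.map (MvPolynomial.rename (inc (Finset.subset_insert b j.S))) ⊔
        Ideal.span (rels : Set _) ≤ RingHom.ker (ev A B (insert b j.S)) := by
      refine sup_le ?_ ?_
      · rw [Ideal.map_le_iff_le_comap]
        intro x hx
        rw [Ideal.mem_comap, RingHom.mem_ker, ev_rename]
        exact j.le_ker x hx
      · rw [Ideal.span_le]
        intro r hr
        exact hrels r hr
    exact this hx

variable (j : Pres A B) (b : B) (rels : Finset (MvPolynomial ↥(insert b j.S) A))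
  (hrels : ∀ r ∈ rels, ev A B (insert b j.S) r = 0)

theorem Pres.le_extend : j ≤ j.extend b rels hrels :=
  ⟨Finset.subset_insert b j.S, fun _ hx => Ideal.mem_sup_left (Ideal.mem_map_of_mem _ hx)⟩

/-- the new generator -/
noncomputable def Pres.xb : (j.extend b rels hrels).Alg :=
  Ideal.Quotient.mk _ (MvPolynomial.X ⟨b, Finset.mem_insert_self b j.S⟩)

theorem Pres.mk_rel (r : MvPolynomial ↥(insert b j.S) A) (hr : r ∈ rels) :
    (Ideal.Quotient.mk (j.extend b rels hrels).I r : (j.extend b rels hrels).Alg) = 0 :=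
  Ideal.Quotient.eq_zero_iff_mem.mpr (Ideal.mem_sup_right (Ideal.subset_span hr))

theorem Pres.gen_cases (s : ↥(insert b j.S)) :
    (Ideal.Quotient.mk (j.extend b rels hrels).I (MvPolynomial.X s) : (j.extend b rels hrels).Alg) =
        j.xb b rels hrels ∨
      ∃ y : j.Alg, Pres.trans (j.le_extend b rels hrels) y =
        (Ideal.Quotient.mk (j.extend b rels hrels).I (MvPolynomial.X s) : (j.extend b rels hrels).Alg) := by
  obtain ⟨s, hs⟩ := s
  rcases Finset.mem_insert.mp hs with rfl | hs'
  · exact Or.inl rfl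
  · refine Or.inr ⟨Ideal.Quotient.mk _ (MvPolynomial.X ⟨s, hs'⟩), ?_⟩
    rw [Pres.trans_mk _ (Finset.subset_insert b j.S), MvPolynomial.rename_X]
    rfl

include hrels in
theorem uh_extend (hj : UH A j.Alg) (hker : ∀ a : A, algebraMap A B a = 0 → IsNilpotent a)
    (hint : IsIntegral A (j.xb b rels hrels))
    (hrad : j.xb b rels hrels ∈ radicialClosure A (j.extend b rels hrels).Alg) :
    UH A (j.extend b rels hrels).Alg := by
  refine uh_of_adjoin _ (Pres.adjoin_eq_top _) ?_ (Pres.ker_nil _ hker) ?_
  · rintro _ ⟨s, rfl⟩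
    rcases Pres.gen_cases j b rels hrels s with h | ⟨y, hy⟩
    · beta_reduce; rw [h]; exact hint
    · beta_reduce; rw [← hy]; exact isIntegral_trans _ hj y
  · rintro _ ⟨s, rfl⟩
    rcases Pres.gen_cases j b rels hrels s with h | ⟨y, hy⟩
    · beta_reduce; rw [h]; exact hrad
    · beta_reduce; rw [← hy]; exact range_trans_le_radicialClosure _ hj ⟨y, rfl⟩

include hrels in
theorem resTriv_extend (hj : ResTriv A j.Alg)
    (hb : ∀ (𝔮 : Ideal (j.extend b rels hrels).Alg) [𝔮.IsPrime], ResTrivAt A 𝔮 (j.xb b rels hrels)) :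
    ResTriv A (j.extend b rels hrels).Alg := by
  refine resTriv_of_adjoin _ (Pres.adjoin_eq_top _) ?_
  rintro 𝔮 _ _ ⟨s, rfl⟩
  rcases Pres.gen_cases j b rels hrels s with h | ⟨y, hy⟩
  · beta_reduce; rw [h]; exact hb 𝔮
  · beta_reduce; rw [← hy]
    exact ResTrivAt.map (Pres.trans (j.le_extend b rels hrels)) 𝔮 y (hj _ y)

end Good

end Groth.Agent.Lib.Helper20.FPApprox
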