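import Groth.Agent.Lib.Helper20.FPApprox2

set_option autoImplicit false
universe u
open CategoryTheory Limits

namespace Groth.Agent.Lib.Helper20.FPApprox

open Groth.Agent.Lib.Helper20.UnivHomeo

section Steps

variable {A B : Type u} [CommRing A] [CommRing B] [Algebra A B] [DecidableEq B]

omit [DecidableEq B] in
theorem exists_rep (j : Pres A B) (c : B) (hc : c ∈ j.leg.range) :
    ∃ q : MvPolynomial j.S A, ev A B j.S q = c := by
  obtain ⟨y, rfl⟩ := hc
  obtain ⟨q, rfl⟩ := Ideal.Quotient.mk_surjective y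
  exact ⟨q, rfl⟩

/-- the relation `X_b ^ n * m - q` -/
noncomputable def rel (j : Pres A B) (b : B) (m : ℕ) (n : ℕ) (q : MvPolynomial j.S A) :
    MvPolynomial ↥(insert b j.S) A :=
  (m : MvPolynomial ↥(insert b j.S) A) * MvPolynomial.X ⟨b, Finset.mem_insert_self b j.S⟩ ^ n -
    MvPolynomial.rename (inc (Finset.subset_insert b j.S)) q

theorem ev_rel (j : Pres A B) (b : B) (m n : ℕ) (q : MvPolynomial j.S A)
    (hq : ev A B j.S q = (m : B) * b ^ n) : ev A B (insert b j.S) (rel j b m n q) = 0 := by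
  rw [rel, map_sub, map_mul, map_pow, ev_X, ev_rename, hq, map_natCast, sub_self]

theorem xb_rel (j : Pres A B) (b : B) (rels : Finset (MvPolynomial ↥(insert b j.S) A))
    (hrels : ∀ r ∈ rels, ev A B (insert b j.S) r = 0) (m n : ℕ) (q : MvPolynomial j.S A)
    (hr : rel j b m n q ∈ rels) :
    (m : (j.extend b rels hrels).Alg) * j.xb b rels hrels ^ n =
      Pres.trans (j.le_extend b rels hrels) (Ideal.Quotient.mk j.I q) := by
  have h := Pres.mk_rel j b rels hrels _ hr
  rw [rel, map_sub, sub_eq_zero, map_mul, map_pow, map_natCast] at h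
  rw [Pres.trans_mk _ (Finset.subset_insert b j.S)]
  exact h

theorem uh_step2 (hker : ∀ a : A, algebraMap A B a = 0 → IsNilpotent a) (j : Pres A B)
    (hj : UH A j.Alg) (b : B) (hb : step2 j.leg.range b) :
    ∃ j' : Pres A B, UH A j'.Alg ∧ j.S ⊆ j'.S ∧ b ∈ j'.S := by
  classical
  rcases hb with ⟨h2, h3⟩ | ⟨p, hp, h1, h2⟩
  · obtain ⟨q₂, hq₂⟩ := exists_rep j _ h2
    obtain ⟨q₃, hq₃⟩ := exists_rep j _ h3
    let rels : Finset (MvPolynomial ↥(insert b j.S) A) := {rel j b 1 2 q₂, rel j b 1 3 q₃}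
    have hrels : ∀ r ∈ rels, ev A B (insert b j.S) r = 0 := by
      intro r hr
      rcases Finset.mem_insert.mp hr with rfl | hr
      · exact ev_rel j b 1 2 q₂ (by rw [hq₂]; simp)
      · rw [Finset.mem_singleton] at hr
        subst hr
        exact ev_rel j b 1 3 q₃ (by rw [hq₃]; simp)
    have e2 := xb_rel j b rels hrels 1 2 q₂ (Finset.mem_insert_self _ _)
    have e3 := xb_rel j b rels hrels 1 3 q₃ (Finset.mem_insert_of_mem (Finset.mem_singleton_self _))
    rw [Nat.cast_one, one_mul] at e2 e3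
    refine ⟨j.extend b rels hrels, ?_, Finset.subset_insert b j.S, Finset.mem_insert_self b j.S⟩
    refine uh_extend j b rels hrels hj hker ?_ ?_
    · apply IsIntegral.of_pow (n := 2) (by norm_num)
      rw [e2]
      exact isIntegral_trans _ hj _
    · apply mem_radicialClosure_of_sq_cube
      · rw [e2]; exact range_trans_le_radicialClosure _ hj ⟨_, rfl⟩
      · rw [e3]; exact range_trans_le_radicialClosure _ hj ⟨_, rfl⟩
  · obtain ⟨q₁, hq₁⟩ := exists_rep j _ h1
    obtain ⟨q₂, hq₂⟩ := exists_rep j _ h2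
    let rels : Finset (MvPolynomial ↥(insert b j.S) A) := {rel j b p 1 q₁, rel j b 1 p q₂}
    have hrels : ∀ r ∈ rels, ev A B (insert b j.S) r = 0 := by
      intro r hr
      rcases Finset.mem_insert.mp hr with rfl | hr
      · exact ev_rel j b p 1 q₁ (by rw [hq₁]; simp)
      · rw [Finset.mem_singleton] at hr
        subst hr
        exact ev_rel j b 1 p q₂ (by rw [hq₂]; simp)
    have e1 := xb_rel j b rels hrels p 1 q₁ (Finset.mem_insert_self _ _)
    have e2 := xb_rel j b rels hrels 1 p q₂ (Finset.mem_insert_of_mem (Finset.mem_singleton_self _))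
    rw [Nat.cast_one, one_mul] at e2
    rw [pow_one] at e1
    refine ⟨j.extend b rels hrels, ?_, Finset.subset_insert b j.S, Finset.mem_insert_self b j.S⟩
    refine uh_extend j b rels hrels hj hker ?_ ?_
    · apply IsIntegral.of_pow (n := p) hp.pos
      rw [e2]
      exact isIntegral_trans _ hj _
    · apply mem_radicialClosure_of_prime p hp
      · rw [e1]; exact range_trans_le_radicialClosure _ hj ⟨_, rfl⟩
      · rw [e2]; exact range_trans_le_radicialClosure _ hj ⟨_, rfl⟩

theorem uh_resTriv_step1 (hker : ∀ a : A, algebraMap A B a = 0 → IsNilpotent a) (j : Pres A B)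
    (hj : UH A j.Alg ∧ ResTriv A j.Alg) (b : B) (hb : step1 j.leg.range b) :
    ∃ j' : Pres A B, (UH A j'.Alg ∧ ResTriv A j'.Alg) ∧ j.S ⊆ j'.S ∧ b ∈ j'.S := by
  classical
  obtain ⟨h2, h3⟩ := hb
  obtain ⟨q₂, hq₂⟩ := exists_rep j _ h2
  obtain ⟨q₃, hq₃⟩ := exists_rep j _ h3
  let rels : Finset (MvPolynomial ↥(insert b j.S) A) := {rel j b 1 2 q₂, rel j b 1 3 q₃}
  have hrels : ∀ r ∈ rels, ev A B (insert b j.S) r = 0 := by
    intro r hr
    rcases Finset.mem_insert.mp hr with rfl | hr
    · exact ev_rel j b 1 2 q₂ (by rw [hq₂]; simp)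
    · rw [Finset.mem_singleton] at hr
      subst hr
      exact ev_rel j b 1 3 q₃ (by rw [hq₃]; simp)
  have e2 := xb_rel j b rels hrels 1 2 q₂ (Finset.mem_insert_self _ _)
  have e3 := xb_rel j b rels hrels 1 3 q₃ (Finset.mem_insert_of_mem (Finset.mem_singleton_self _))
  rw [Nat.cast_one, one_mul] at e2 e3
  refine ⟨j.extend b rels hrels, ⟨?_, ?_⟩, Finset.subset_insert b j.S, Finset.mem_insert_self b j.S⟩
  · refine uh_extend j b rels hrels hj.1 hker ?_ ?_
    · apply IsIntegral.of_pow (n := 2) (by norm_num)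
      rw [e2]
      exact isIntegral_trans _ hj.1 _
    · apply mem_radicialClosure_of_sq_cube
      · rw [e2]; exact range_trans_le_radicialClosure _ hj.1 ⟨_, rfl⟩
      · rw [e3]; exact range_trans_le_radicialClosure _ hj.1 ⟨_, rfl⟩
  · refine resTriv_extend j b rels hrels hj.2 ?_
    intro 𝔮 _
    apply ResTrivAt.of_sq_cube
    · rw [e2]; exact ResTrivAt.map _ 𝔮 _ (hj.2 _ _)
    · rw [e3]; exact ResTrivAt.map _ 𝔮 _ (hj.2 _ _)

end Steps

end Groth.Agent.Lib.Helper20.FPApprox
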