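import Groth.Agent.Lib.Helper20.FPApprox3

set_option autoImplicit false
universe u
open CategoryTheory Limits

namespace Groth.Agent.Lib.Helper20.FPApprox

open Groth.Agent.Lib.Helper20.UnivHomeo

section Cofinal

variable {A B : Type u} [CommRing A] [CommRing B] [Algebra A B]

/-- the trivial presentation -/
noncomputable def Pres.base (A B : Type u) [CommRing A] [CommRing B] [Algebra A B] : Pres A B where
  S := ∅
  I := ⊥
  fg := Submodule.fg_bot
  le_ker := by
    intro x hx
    rw [Ideal.mem_bot] at hx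
    rw [hx, map_zero]

theorem uh_base (hker : ∀ a : A, algebraMap A B a = 0 → IsNilpotent a) :
    UH A (Pres.base A B).Alg := by
  refine uh_of_adjoin _ (Pres.adjoin_eq_top _) ?_ (Pres.ker_nil _ hker) ?_
  · rintro _ ⟨s, rfl⟩
    exact absurd s.2 (Finset.notMem_empty _)
  · rintro _ ⟨s, rfl⟩
    exact absurd s.2 (Finset.notMem_empty _)

theorem resTriv_base : ResTriv A (Pres.base A B).Alg := by
  refine resTriv_of_adjoin _ (Pres.adjoin_eq_top _) ?_
  rintro 𝔮 _ _ ⟨s, rfl⟩
  exact absurd s.2 (Finset.notMem_empty _)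

theorem mem_range_leg (j : Pres A B) (x : B) (hx : x ∈ j.S) : x ∈ j.leg.range :=
  ⟨Ideal.Quotient.mk j.I (MvPolynomial.X ⟨x, hx⟩), by
    change j.leg (Ideal.Quotient.mk j.I (MvPolynomial.X ⟨x, hx⟩)) = x
    rw [Pres.leg_mk, ev_X]⟩

variable (step : Subalgebra A B → B → Prop)
  (hmono : ∀ (C D : Subalgebra A B), C ≤ D → ∀ b, step C b → step D b)
  (htop : chainClosure step hmono = ⊤)
  (htriv : ∀ (C : Subalgebra A B) (x : B), x ∈ C → step C x)
  (good : Pres A B → Prop) (g0 : ∃ j, good j)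
  (gstep : ∀ j, good j → ∀ b, step j.leg.range b → ∃ j', good j' ∧ j.S ⊆ j'.S ∧ b ∈ j'.S)

include hmono gstep in
theorem exists_good_of_chain {l : List B} (hl : Chain step l) (j : Pres A B) (hj : good j) :
    ∃ j', good j' ∧ j.S ⊆ j'.S ∧ ∀ x ∈ l, x ∈ j'.S := by
  induction hl with
  | nil => exact ⟨j, hj, Finset.Subset.refl _, fun x hx => by simp at hx⟩
  | snoc l b hl hb ih =>
    obtain ⟨j', hj', hS, hl'⟩ := ih
    have hle : adjoinList A l ≤ j'.leg.range := by
      apply Algebra.adjoin_le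
      intro x hx
      exact mem_range_leg j' x (hl' x hx)
    obtain ⟨j'', hj'', hS', hb'⟩ := gstep j' hj' b (hmono _ _ hle b hb)
    refine ⟨j'', hj'', hS.trans hS', fun x hx => ?_⟩
    rw [List.mem_append, List.mem_singleton] at hx
    rcases hx with hx | rfl
    · exact hS' (hl' x hx)
    · exact hb'

include hmono htop htriv g0 gstep in
theorem cofinal_of_steps (S₀ : Finset B) : ∃ j, good j ∧ S₀ ⊆ j.S := by
  classical
  induction S₀ using Finset.induction_on with
  | empty =>
    obtain ⟨j, hj⟩ := g0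
    exact ⟨j, hj, Finset.empty_subset _⟩
  | insert b S₀ _ ih =>
    obtain ⟨j, hj, hS⟩ := ih
    have hb : b ∈ chainClosure step hmono := htop ▸ Algebra.mem_top
    obtain ⟨l, hl, hbl⟩ := hb
    obtain ⟨j', hj', hS', hl'⟩ := exists_good_of_chain step hmono good gstep hl j hj
    have hle : adjoinList A l ≤ j'.leg.range := by
      apply Algebra.adjoin_le
      intro x hx
      exact mem_range_leg j' x (hl' x hx)
    obtain ⟨j'', hj'', hS'', hb''⟩ := gstep j' hj' b (htriv _ _ (hle hbl))
    refine ⟨j'', hj'', ?_⟩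
    intro x hx
    rcases Finset.mem_insert.mp hx with rfl | hx
    · exact hb''
    · exact hS'' (hS' (hS hx))

end Cofinal

section Final

variable {A B : Type u} [CommRing A] [CommRing B] [Algebra A B]

theorem exists_colimit_of_good (good : Pres A B → Prop)
    (hcof : ∀ S₀ : Finset B, ∃ j : Pres A B, good j ∧ S₀ ⊆ j.S)
    (hup : ∀ (j : Pres A B) (I' : Ideal (MvPolynomial j.S A)) (fg' : I'.FG)
      (le_ker' : ∀ x ∈ I', ev A B j.S x = 0), j.I ≤ I' → good j → good ⟨j.S, I', fg', le_ker'⟩) :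
    ∃ (J : Type u) (_ : SmallCategory J) (_ : IsFiltered J) (F : J ⥤ Under (CommRingCat.of A))
      (c : Limits.Cocone F) (_ : Limits.IsColimit c),
      (∀ j, ∃ p : Pres A B, good p ∧ F.obj j = Under.mk (CommRingCat.ofHom (algebraMap A p.Alg))) ∧
      c.pt = Under.mk (CommRingCat.ofHom (algebraMap A B)) := by
  obtain ⟨hd, hn, ⟨hc⟩⟩ := exists_isColimit good hcof hup
  refine ⟨GoodPres good, inferInstance, inferInstance, functor good, cocone good, hc, ?_, rfl⟩
  intro j
  exact ⟨j.1, j.2, rfl⟩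

theorem exists_colimit_uh (hUH : UH A B) :
    ∃ (J : Type u) (_ : SmallCategory J) (_ : IsFiltered J) (F : J ⥤ Under (CommRingCat.of A))
      (c : Limits.Cocone F) (_ : Limits.IsColimit c),
      (∀ j, ∃ p : Pres A B, UH A p.Alg ∧
        F.obj j = Under.mk (CommRingCat.ofHom (algebraMap A p.Alg))) ∧
      c.pt = Under.mk (CommRingCat.ofHom (algebraMap A B)) := by
  classical
  refine exists_colimit_of_good (fun p => UH A p.Alg) ?_ ?_
  · exact cofinal_of_steps step2 step2_mono hUH.W2_eq_top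
      (fun C x hx => Or.inl ⟨pow_mem hx 2, pow_mem hx 3⟩) _ ⟨Pres.base A B, uh_base hUH.ker_nil⟩
      (fun j hj b hb => uh_step2 hUH.ker_nil j hj b hb)
  · intro j I' fg' le_ker' hle hj
    exact uh_of_surjective_algHom (Ideal.Quotient.factorₐ A hle)
      (Ideal.Quotient.factor_surjective hle) hj
      (Pres.ker_nil ⟨j.S, I', fg', le_ker'⟩ hUH.ker_nil)

theorem exists_colimit_uh_resTriv (hUH : UH A B) (hRT : ResTriv A B) :
    ∃ (J : Type u) (_ : SmallCategory J) (_ : IsFiltered J) (F : J ⥤ Under (CommRingCat.of A))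
      (c : Limits.Cocone F) (_ : Limits.IsColimit c),
      (∀ j, ∃ p : Pres A B, (UH A p.Alg ∧ ResTriv A p.Alg) ∧
        F.obj j = Under.mk (CommRingCat.ofHom (algebraMap A p.Alg))) ∧
      c.pt = Under.mk (CommRingCat.ofHom (algebraMap A B)) := by
  classical
  refine exists_colimit_of_good (fun p => UH A p.Alg ∧ ResTriv A p.Alg) ?_ ?_
  · exact cofinal_of_steps step1 step1_mono (hUH.W1_eq_top hRT)
      (fun C x hx => ⟨pow_mem hx 2, pow_mem hx 3⟩) _
      ⟨Pres.base A B, uh_base hUH.ker_nil, resTriv_base⟩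
      (fun j hj b hb => uh_resTriv_step1 hUH.ker_nil j hj b hb)
  · intro j I' fg' le_ker' hle hj
    exact ⟨uh_of_surjective_algHom (Ideal.Quotient.factorₐ A hle)
      (Ideal.Quotient.factor_surjective hle) hj.1
      (Pres.ker_nil ⟨j.S, I', fg', le_ker'⟩ hUH.ker_nil),
      resTriv_of_surjective_algHom (Ideal.Quotient.factorₐ A hle)
      (Ideal.Quotient.factor_surjective hle) hj.2⟩

end Final

end Groth.Agent.Lib.Helper20.FPApprox
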