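import Mathlib

set_option autoImplicit false
universe u
namespace Groth.Agent.Lib.Helper20.NowhereDense

section minprime

/-- elements of a minimal prime are nilpotent after multiplying by something outside the prime -/
theorem exists_notMem_isNilpotent_mul {C : Type*} [CommRing C] {q : Ideal C}
    (hq : q ∈ minimalPrimes C) {x : C} (hx : x ∈ q) : ∃ t, t ∉ q ∧ IsNilpotent (t * x) := by
  haveI := hq.1.1
  by_contra hcon
  push Not at hcon
  let S : Submonoid C := q.primeCompl ⊔ Submonoid.powers x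
  have hdisj : Disjoint ((⊥ : Ideal C) : Set C) (S : Set C) := by
    rw [Set.disjoint_left]
    intro z hz hzS
    have hz0 : z = 0 := hz
    subst hz0
    obtain ⟨t, ht, y, ⟨n, rfl⟩, hty⟩ := Submonoid.mem_sup.mp hzS
    apply hcon t ht
    refine ⟨n + 1, ?_⟩
    have : (t * x) ^ (n + 1) = t ^ n * x * (t * x ^ n) := by ring
    rw [this]
    change t * x ^ n = 0 at hty
    rw [hty, mul_zero]
  obtain ⟨q', hq', -, hq'S⟩ := Ideal.exists_le_prime_disjoint (⊥ : Ideal C) S hdisj
  have hle : q' ≤ q := by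
    intro z hz
    by_contra hzq
    exact Set.disjoint_left.mp hq'S hz (Submonoid.mem_sup_left hzq)
  have hge : q ≤ q' := hq.2 ⟨hq', bot_le⟩ hle
  have hxq' : x ∈ q' := hge hx
  exact Set.disjoint_left.mp hq'S hxq' (Submonoid.mem_sup_right (Submonoid.mem_powers x))

end minprime

section genfree

variable {A M : Type*} [CommRing A] [AddCommGroup M] [Module A M] [Module.Finite A M]

/-- generation after inverting `s` by at most `n` elements -/
def GenBy (a : A) (n : ℕ) : Prop :=
  ∃ s : A, ¬ IsNilpotent s ∧ a ∣ s ∧ ∃ t : Finset M, t.card ≤ n ∧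
    ∀ m : M, ∃ k : ℕ, s ^ k • m ∈ Submodule.span A (t : Set M)

variable (M) in
/-- "generic freeness up to nilpotents" -/
theorem exists_generic_basis (a : A) (ha : ¬ IsNilpotent a) :
    ∃ s : A, ¬ IsNilpotent s ∧ a ∣ s ∧ ∃ t : Finset M,
      (∀ m : M, ∃ k : ℕ, s ^ k • m ∈ Submodule.span A (t : Set M)) ∧
      ∀ w : M → A, ∑ x ∈ t, w x • x = 0 → ∀ x ∈ t, IsNilpotent (s * w x) := by
  classical
  have hex : ∃ n, GenBy (M := M) a n := by
    obtain ⟨t, ht⟩ := (Module.Finite.fg_top : (⊤ : Submodule A M).FG)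
    exact ⟨t.card, a, ha, dvd_rfl, t, le_rfl, fun m => ⟨0, by rw [ht]; trivial⟩⟩
  obtain ⟨s, hs, has, t, htc, hspan⟩ := Nat.find_spec hex
  refine ⟨s, hs, has, t, hspan, ?_⟩
  intro w hw x₀ hx₀
  by_contra hnil
  have hpos : 0 < Nat.find hex := by
    have : 0 < t.card := Finset.card_pos.mpr ⟨x₀, hx₀⟩
    omega
  apply Nat.find_min hex (m := Nat.find hex - 1) (by omega)
  refine ⟨s * w x₀, hnil, Dvd.dvd.mul_right has _, t.erase x₀, ?_, ?_⟩
  · rw [Finset.card_erase_of_mem hx₀]; omega
  · intro m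
    obtain ⟨k, hk⟩ := hspan m
    obtain ⟨f, -, hf⟩ := Submodule.mem_span_finset.mp hk
    refine ⟨k + 1, ?_⟩
    have h1 : w x₀ • x₀ = - ∑ x ∈ t.erase x₀, w x • x := by
      rw [← Finset.add_sum_erase t _ hx₀] at hw
      exact eq_neg_of_add_eq_zero_left hw
    have h2 : w x₀ • (s ^ k • m) = ∑ x ∈ t.erase x₀, (w x₀ * f x - f x₀ * w x) • x := by
      rw [← hf, ← Finset.add_sum_erase t _ hx₀, smul_add, smul_comm (w x₀) (f x₀) x₀, h1,
        smul_neg, Finset.smul_sum, Finset.smul_sum, ← Finset.sum_neg_distrib,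
        ← Finset.sum_add_distrib]
      refine Finset.sum_congr rfl fun x _ => ?_
      simp only [smul_smul, sub_smul]
      abel
    have h3 : (s * w x₀) ^ (k + 1) • m = (s * w x₀ ^ k) • (w x₀ • (s ^ k • m)) := by
      rw [smul_smul, smul_smul]
      congr 1
      ring
    rw [h3, h2]
    refine Submodule.smul_mem _ _ (Submodule.sum_mem _ fun x hx => ?_)
    exact Submodule.smul_mem _ _ (Submodule.subset_span (by exact_mod_cast hx))

end genfree

end Groth.Agent.Lib.Helper20.NowhereDense
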