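import Mathlib
import Groth.Agent.Lib.Helper20.NowhereDense1

set_option autoImplicit false
universe u
namespace Groth.Agent.Lib.Helper20.NowhereDense

theorem exists_prime_notMem_of_not_isNilpotent {T : Type*} [CommRing T] {x : T}
    (hx : ¬ IsNilpotent x) : ∃ P : Ideal T, P.IsPrime ∧ x ∉ P := by
  by_contra hcon
  push Not at hcon
  apply hx
  rw [← mem_nilradical, nilradical_eq_sInf, Ideal.mem_sInf]
  exact fun {P} hP => hcon P hP

theorem exists_not_nilpotent_mul_nilpotent {A C : Type*} [CommRing A] [CommRing C] [Algebra A C]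
    [Module.Finite A C] (J : Ideal C) (a : A) (ha : ¬ IsNilpotent a)
    (H : ∀ p : Ideal A, p.IsPrime → a ∉ p →
      ∃ q : Ideal C, q.IsPrime ∧ J ≤ q ∧ q.comap (algebraMap A C) = p) :
    ∃ c : C, ¬ IsNilpotent c ∧ ∀ j ∈ J, IsNilpotent (c * j) := by
  classical
  let π : C →ₐ[A] (C ⧸ J) := Ideal.Quotient.mkₐ A J
  have hπ : ∀ z : C, π z = 0 ↔ z ∈ J := fun z => Ideal.Quotient.eq_zero_iff_mem
  obtain ⟨s, hs, has, t, hspan, hfree⟩ := exists_generic_basis (A := A) (C ⧸ J) a ha
  obtain ⟨G, hG⟩ := (Module.Finite.fg_top : (⊤ : Submodule A C).FG)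
  have hk : ∀ g : C, ∃ k : ℕ, s ^ k • π g ∈ Submodule.span A (t : Set (C ⧸ J)) := fun g => hspan _
  choose k hk using hk
  set K := ∑ g ∈ G, k g with hKdef
  have hK : ∀ g ∈ G, s ^ K • π g ∈ Submodule.span A (t : Set (C ⧸ J)) := by
    intro g hg
    have h1 : k g ≤ K := Finset.single_le_sum (fun _ _ => Nat.zero_le _) hg
    have h2 : s ^ K • π g = s ^ (K - k g) • (s ^ k g • π g) := by
      rw [smul_smul, ← pow_add, Nat.sub_add_cancel h1]
    rw [h2]; exact Submodule.smul_mem _ _ (hk g)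
  have hF : ∀ g : C, ∃ F : (C ⧸ J) → A, g ∈ G → ∑ x ∈ t, F x • x = s ^ K • π g := by
    intro g
    by_cases hg : g ∈ G
    · obtain ⟨F, -, hF⟩ := Submodule.mem_span_finset.mp (hK g hg)
      exact ⟨F, fun _ => hF⟩
    · exact ⟨0, fun h => absurd h hg⟩
  choose F hF using hF
  have hu : ∀ x : C ⧸ J, ∃ u : C, π u = x := Ideal.Quotient.mk_surjective
  choose u hu using hu
  set jj : C → C := fun g => s ^ K • g - ∑ x ∈ t, F g x • u x with hjjdef
  have hjj : ∀ g ∈ G, jj g ∈ J := by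
    intro g hg
    rw [← hπ]
    simp only [hjjdef, map_sub, map_smul, map_sum, hu]
    rw [hF g hg, sub_self]
  -- the primes
  obtain ⟨p₀, hp₀, hsp₀⟩ := exists_prime_notMem_of_not_isNilpotent hs
  obtain ⟨p, hp, hpp₀⟩ := Ideal.exists_minimalPrimes_le (bot_le : (⊥ : Ideal A) ≤ p₀)
  haveI := hp.1.1
  have hsp : s ∉ p := fun h => hsp₀ (hpp₀ h)
  have hap : a ∉ p := by
    obtain ⟨b, hb⟩ := has
    intro h
    exact hsp (hb ▸ Ideal.mul_mem_right b p h)
  obtain ⟨q, hq, hJq, hqp⟩ := H p inferInstance hap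
  have hqmin : q ∈ minimalPrimes C := by
    refine ⟨⟨hq, bot_le⟩, fun q' hq' hle => ?_⟩
    haveI := hq'.1
    have h1 : q'.comap (algebraMap A C) ≤ p := hqp ▸ Ideal.comap_mono hle
    have h2 : p ≤ q'.comap (algebraMap A C) := hp.2 ⟨inferInstance, bot_le⟩ h1
    have h3 : q'.under A = q.under A := by
      rw [Ideal.under_def, Ideal.under_def, hqp]
      exact le_antisymm h1 h2
    exact (Algebra.QuasiFinite.eq_of_le_of_under_eq (R := A) q' q hle h3).ge
  have hτ : ∀ g : C, ∃ τ : C, g ∈ G → τ ∉ q ∧ IsNilpotent (τ * jj g) := by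
    intro g
    by_cases hg : g ∈ G
    · obtain ⟨τ, h1, h2⟩ := exists_notMem_isNilpotent_mul hqmin (hJq (hjj g hg))
      exact ⟨τ, fun _ => ⟨h1, h2⟩⟩
    · exact ⟨0, fun h => absurd h hg⟩
  choose τ hτ using hτ
  set c₀ : C := ∏ g ∈ G, τ g with hc₀
  have hc₀q : c₀ ∉ q := by
    rw [hc₀, Ideal.IsPrime.prod_mem_iff]
    rintro ⟨g, hg, hgq⟩
    exact (hτ g hg).1 hgq
  have hc₀jj : ∀ g ∈ G, c₀ * jj g ∈ nilradical C := by
    intro g hg
    rw [hc₀, ← Finset.mul_prod_erase G τ hg, mul_comm (τ g), mul_assoc]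
    exact Ideal.mul_mem_left _ _ (mem_nilradical.mpr (hτ g hg).2)
  refine ⟨c₀ * algebraMap A C (s ^ (K + 1)), ?_, ?_⟩
  · intro hnil
    have hmem : c₀ * algebraMap A C (s ^ (K + 1)) ∈ q := by
      have := mem_nilradical.mpr hnil
      rw [nilradical_eq_sInf, Ideal.mem_sInf] at this
      exact this hq
    rcases hq.mem_or_mem hmem with h | h
    · exact hc₀q h
    · have h' : s ^ (K + 1) ∈ q.comap (algebraMap A C) := h
      rw [hqp] at h'
      exact hsp (Ideal.IsPrime.mem_of_pow_mem inferInstance _ h')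
  · intro j hj
    rw [← mem_nilradical]
    have hjtop : j ∈ Submodule.span A (G : Set C) := by rw [hG]; trivial
    obtain ⟨b, -, hb⟩ := Submodule.mem_span_finset.mp hjtop
    set w : (C ⧸ J) → A := fun x => ∑ g ∈ G, b g * F g x with hw
    have e0 : ∀ g : C, s ^ K • g = jj g + ∑ x ∈ t, F g x • u x := by
      intro g
      simp only [hjjdef]
      abel
    have e1 : s ^ K • j = ∑ g ∈ G, b g • jj g + ∑ x ∈ t, w x • u x := by
      rw [← hb, Finset.smul_sum]
      have : ∀ g ∈ G, s ^ K • b g • g = b g • jj g + ∑ x ∈ t, (b g * F g x) • u x := by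
        intro g _
        rw [smul_comm, e0 g, smul_add, Finset.smul_sum]
        simp only [smul_smul]
      rw [Finset.sum_congr rfl this, Finset.sum_add_distrib, Finset.sum_comm]
      congr 1
      refine Finset.sum_congr rfl fun x _ => ?_
      rw [hw, Finset.sum_smul]
    have e2 : ∑ x ∈ t, w x • x = 0 := by
      have h1 := congrArg π e1
      have h2 : π (s ^ K • j) = 0 := by
        rw [map_smul, (hπ j).mpr hj, smul_zero]
      have h3 : π (∑ g ∈ G, b g • jj g) = 0 := by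
        rw [map_sum]
        refine Finset.sum_eq_zero fun g hg => ?_
        rw [map_smul, (hπ _).mpr (hjj g hg), smul_zero]
      rw [h2, map_add, h3, zero_add, map_sum] at h1
      simp only [map_smul, hu] at h1
      exact h1.symm
    have hnil := hfree w e2
    have e3 : c₀ * algebraMap A C (s ^ (K + 1)) * j =
        ∑ g ∈ G, (s * b g) • (c₀ * jj g) + ∑ x ∈ t, (s * w x) • (c₀ * u x) := by
      have : algebraMap A C (s ^ (K + 1)) * j = s • (s ^ K • j) := by
        rw [smul_smul, ← pow_succ', Algebra.smul_def]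
      rw [mul_assoc, this, e1, smul_add, Finset.smul_sum, Finset.smul_sum, mul_add,
        Finset.mul_sum, Finset.mul_sum]
      congr 1 <;> refine Finset.sum_congr rfl fun _ _ => ?_ <;> rw [smul_smul, mul_smul_comm]
    rw [e3]
    refine Ideal.add_mem _ (Ideal.sum_mem _ fun g hg => ?_) (Ideal.sum_mem _ fun x hx => ?_)
    · rw [Algebra.smul_def]; exact Ideal.mul_mem_left _ _ (hc₀jj g hg)
    · rw [Algebra.smul_def]
      exact Ideal.mul_mem_right _ _ (mem_nilradical.mpr ((hnil x hx).map (algebraMap A C)))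

end Groth.Agent.Lib.Helper20.NowhereDense
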