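import Mathlib
import Groth.Agent.Lib.Helper20.NowhereDense2

set_option autoImplicit false
universe u
namespace Groth.Agent.Lib.Helper20.NowhereDense
open PrimeSpectrum

section top
variable {X Y : Type*} [TopologicalSpace X] [TopologicalSpace Y]

theorem isNowhereDense_union {s t : Set X} (hs : IsNowhereDense s) (ht : IsNowhereDense t) :
    IsNowhereDense (s ∪ t) := by
  rw [IsNowhereDense, closure_union]
  rw [interior_union_isClosed_of_interior_empty isClosed_closure ht]
  exact hs

theorem isNowhereDense_biUnion_finset {ι : Type*} (F : Finset ι) (s : ι → Set X)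
    (h : ∀ i ∈ F, IsNowhereDense (s i)) : IsNowhereDense (⋃ i ∈ F, s i) := by
  classical
  induction F using Finset.induction_on with
  | empty => simp
  | insert a F ha ih =>
    rw [Finset.set_biUnion_insert]
    exact isNowhereDense_union (h a (Finset.mem_insert_self a F))
      (ih fun i hi => h i (Finset.mem_insert_of_mem hi))

theorem isNowhereDense_preimage {f : X → Y} (hf : Continuous f) (hf' : IsOpenMap f) {s : Set Y}
    (hs : IsNowhereDense s) : IsNowhereDense (f ⁻¹' s) := by
  rw [IsNowhereDense, Set.eq_empty_iff_forall_notMem]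
  intro x hx
  have h1 : interior (closure (f ⁻¹' s)) ⊆ f ⁻¹' (closure s) :=
    interior_subset.trans (hf.closure_preimage_subset s)
  have h2 : f '' interior (closure (f ⁻¹' s)) ⊆ interior (closure s) :=
    interior_maximal (Set.image_subset_iff.mpr h1) (hf' _ isOpen_interior)
  rw [hs] at h2
  exact h2 ⟨x, hx, rfl⟩

/-- a closed set is nowhere dense iff it contains no nonempty open set -/
theorem not_subset_of_isNowhereDense {s U : Set X} (hs : IsNowhereDense s) (hU : IsOpen U)
    (hne : U.Nonempty) : ¬ U ⊆ closure s := by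
  intro h
  have := interior_maximal h hU
  rw [hs] at this
  obtain ⟨x, hx⟩ := hne
  exact this hx

end top

section spec

theorem nonempty_basicOpen_of_not_isNilpotent {T : Type*} [CommRing T] {x : T}
    (hx : ¬ IsNilpotent x) :
    ((basicOpen x : TopologicalSpace.Opens (PrimeSpectrum T)) : Set (PrimeSpectrum T)).Nonempty := by
  obtain ⟨P, hP, hxP⟩ := exists_prime_notMem_of_not_isNilpotent hx
  exact ⟨⟨P, hP⟩, hxP⟩

theorem not_isNilpotent_of_mem_basicOpen {T : Type*} [CommRing T] {x : T} {P : PrimeSpectrum T}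
    (h : P ∈ basicOpen x) : ¬ IsNilpotent x := by
  intro hn
  obtain ⟨n, hn⟩ := hn
  have : x ^ n ∈ P.asIdeal := by rw [hn]; exact zero_mem _
  exact h (P.2.mem_of_pow_mem _ this)

/-- an interior point of a set in a prime spectrum has a basic open neighbourhood in the set -/
theorem exists_basicOpen_subset {T : Type*} [CommRing T] {s : Set (PrimeSpectrum T)}
    (hs : (interior s).Nonempty) :
    ∃ a : T, ¬ IsNilpotent a ∧ ((basicOpen a : TopologicalSpace.Opens _) : Set (PrimeSpectrum T)) ⊆ s := by
  obtain ⟨x, hx⟩ := hs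
  obtain ⟨_, ⟨a, rfl⟩, hxa, ha⟩ := (isTopologicalBasis_basic_opens (R := T)).exists_subset_of_mem_open
    hx isOpen_interior
  exact ⟨a, not_isNilpotent_of_mem_basicOpen hxa, ha.trans interior_subset⟩

theorem isNowhereDense_image_comap_of_finite {A C : Type*} [CommRing A] [CommRing C] [Algebra A C]
    [Module.Finite A C] (Z : Set (PrimeSpectrum C)) (hZc : IsClosed Z) (hZ : IsNowhereDense Z) :
    IsNowhereDense (comap (algebraMap A C) '' Z) := by
  by_contra hcon
  have hne : (interior (closure (comap (algebraMap A C) '' Z))).Nonempty :=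
    Set.nonempty_iff_ne_empty.mpr hcon
  have hint : (algebraMap A C).IsIntegral :=
    algebraMap_isIntegral_iff.mpr inferInstance
  have hcl : IsClosed (comap (algebraMap A C) '' Z) :=
    PrimeSpectrum.isClosedMap_comap_of_isIntegral _ hint Z hZc
  rw [hcl.closure_eq] at hne
  obtain ⟨a, ha, haZ⟩ := exists_basicOpen_subset hne
  set J := vanishingIdeal Z with hJ
  have hZJ : zeroLocus (J : Set C) = Z := by
    rw [hJ, zeroLocus_vanishingIdeal_eq_closure, hZc.closure_eq]
  obtain ⟨c, hc, hcJ⟩ := exists_not_nilpotent_mul_nilpotent J a ha (by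
    intro p hp hap
    have : (⟨p, hp⟩ : PrimeSpectrum A) ∈ comap (algebraMap A C) '' Z := haZ hap
    obtain ⟨q, hqZ, hq⟩ := this
    refine ⟨q.asIdeal, q.2, ?_, congrArg PrimeSpectrum.asIdeal hq⟩
    rw [← hZJ] at hqZ
    exact hqZ)
  apply not_subset_of_isNowhereDense hZ (basicOpen c).isOpen (nonempty_basicOpen_of_not_isNilpotent hc)
  rw [hZc.closure_eq, ← hZJ]
  intro q' hq' j hj
  have h1 : c * j ∈ q'.asIdeal := by
    have := mem_nilradical.mpr (hcJ j hj)
    rw [nilradical_eq_sInf, Ideal.mem_sInf] at this
    exact this q'.2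
  exact (q'.2.mem_or_mem h1).resolve_left hq'

end spec

end Groth.Agent.Lib.Helper20.NowhereDense
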