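import Mathlib
import Groth.Agent.Lib.Helper20.NowhereDense3

set_option autoImplicit false
universe u
namespace Groth.Agent.Lib.Helper20.NowhereDense
open PrimeSpectrum

/-- transfer of nowhere density along a "localization isomorphism" `C_r ≅ B_r` -/
theorem isNowhereDense_image_comap_of_pow_mul_mem {C B : Type*} [CommRing C] [CommRing B]
    (ι : C →+* B) (hι : Function.Injective ι) (r : C)
    (hr : ∀ b : B, ∃ (n : ℕ) (c : C), ι c = ι r ^ n * b)
    (Z : Set (PrimeSpectrum B)) (hZc : IsClosed Z) (hZ : IsNowhereDense Z) :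
    IsNowhereDense (comap ι '' (Z ∩ (basicOpen (ι r) : Set (PrimeSpectrum B)))) := by
  set W := comap ι '' (Z ∩ (basicOpen (ι r) : Set (PrimeSpectrum B))) with hW
  by_contra hcon
  have hne : (interior (closure W)).Nonempty := Set.nonempty_iff_ne_empty.mpr hcon
  obtain ⟨c, hc, hcW⟩ := exists_basicOpen_subset hne
  set J := vanishingIdeal Z with hJ
  have hZJ : zeroLocus (J : Set B) = Z := by
    rw [hJ, zeroLocus_vanishingIdeal_eq_closure, hZc.closure_eq]
  have hWr : W ⊆ (basicOpen r : Set (PrimeSpectrum C)) := by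
    rintro _ ⟨q, ⟨-, hq⟩, rfl⟩
    exact hq
  -- c * r is not nilpotent
  have hcr : ¬ IsNilpotent (c * r) := by
    intro hnil
    obtain ⟨x, hx⟩ := nonempty_basicOpen_of_not_isNilpotent hc
    have hdisj : Disjoint ((basicOpen c : TopologicalSpace.Opens _) : Set (PrimeSpectrum C)) W := by
      rw [Set.disjoint_left]
      intro y hyc hyW
      have hyr := hWr hyW
      have : y ∈ basicOpen (c * r) := by
        rw [basicOpen_mul]; exact ⟨hyc, hyr⟩
      exact not_isNilpotent_of_mem_basicOpen this hnil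
    have := hdisj.closure_right (basicOpen c).isOpen
    exact Set.disjoint_left.mp this hx (hcW hx)
  apply not_subset_of_isNowhereDense hZ (basicOpen (ι (c * r))).isOpen
    (nonempty_basicOpen_of_not_isNilpotent (fun h => hcr ((IsNilpotent.map_iff hι).mp h)))
  rw [hZc.closure_eq, ← hZJ]
  intro q' hq' j hj
  have hq'c : ι c ∉ q'.asIdeal := fun h => hq' (by rw [map_mul]; exact Ideal.mul_mem_right _ _ h)
  have hq'r : ι r ∉ q'.asIdeal := fun h => hq' (by rw [map_mul]; exact Ideal.mul_mem_left _ _ h)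
  obtain ⟨n, cj, hcj⟩ := hr j
  have hy : comap ι q' ∈ closure W := hcW hq'c
  have hWsub : W ⊆ zeroLocus {cj} := by
    rintro _ ⟨q'', ⟨hq''Z, -⟩, rfl⟩
    rw [← hZJ] at hq''Z
    simp only [mem_zeroLocus, Set.singleton_subset_iff, SetLike.mem_coe]
    show ι cj ∈ q''.asIdeal
    rw [hcj]
    exact Ideal.mul_mem_left _ _ (hq''Z hj)
  have hy2 : comap ι q' ∈ zeroLocus {cj} :=
    (closure_minimal hWsub (isClosed_zeroLocus _)) hy
  simp only [mem_zeroLocus, Set.singleton_subset_iff, SetLike.mem_coe] at hy2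
  have hy3 : ι cj ∈ q'.asIdeal := hy2
  rw [hcj] at hy3
  exact (q'.2.mem_or_mem hy3).resolve_left (fun h => hq'r (q'.2.mem_of_pow_mem _ h))

end Groth.Agent.Lib.Helper20.NowhereDense
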