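import Mathlib
import Groth.Agent.Lib.Helper20.NowhereDense4

set_option autoImplicit false
universe u
namespace Groth.Agent.Lib.Helper20.NowhereDense
open PrimeSpectrum

theorem pow_mul_mem_of_awayMap_surjective {C B : Type*} [CommRing C] [CommRing B] (ι : C →+* B)
    (r : C) (h : Function.Surjective (Localization.awayMap ι r)) (b : B) :
    ∃ (n : ℕ) (c : C), ι c = ι r ^ n * b := by
  obtain ⟨z, hz⟩ := h (algebraMap B (Localization.Away (ι r)) b)
  obtain ⟨n, c, hc⟩ := IsLocalization.Away.surj (S := Localization.Away r) r z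
  have h1 := congrArg (Localization.awayMap ι r) hc
  rw [map_mul, map_pow, hz] at h1
  have h2 : ∀ x : C, Localization.awayMap ι r (algebraMap C (Localization.Away r) x) =
      algebraMap B (Localization.Away (ι r)) (ι x) := fun x => IsLocalization.map_eq _ x
  rw [h2, h2, ← map_pow, ← map_mul] at h1
  obtain ⟨⟨_, k, rfl⟩, hk⟩ := (IsLocalization.eq_iff_exists (Submonoid.powers (ι r)) _).mp h1
  refine ⟨k + n, r ^ k * c, ?_⟩
  simp only at hk
  rw [map_mul, map_pow, ← hk, pow_add]
  ring

theorem isNowhereDense_image_comap_of_quasiFinite {A B : Type*} [CommRing A] [CommRing B]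
    [Algebra A B] [Algebra.FiniteType A B] [Algebra.QuasiFinite A B]
    (Z : Set (PrimeSpectrum B)) (hZc : IsClosed Z) (hZ : IsNowhereDense Z) :
    IsNowhereDense (comap (algebraMap A B) '' Z) := by
  have key : ∀ q : PrimeSpectrum B, ∃ r : B, r ∉ q.asIdeal ∧
      IsNowhereDense (comap (algebraMap A B) '' (Z ∩ (basicOpen r : Set (PrimeSpectrum B)))) := by
    intro q
    haveI := q.2
    obtain ⟨S', hfg, r, hrq, hbij⟩ :=
      Algebra.QuasiFiniteAt.exists_fg_and_exists_notMem_and_awayMap_bijective (R := A) q.asIdeal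
    haveI : Module.Finite A S' := Module.Finite.iff_fg.mpr hfg
    refine ⟨r.1, hrq, ?_⟩
    have hstar := pow_mul_mem_of_awayMap_surjective S'.val.toRingHom r hbij.2
    have h1 := isNowhereDense_image_comap_of_pow_mul_mem S'.val.toRingHom Subtype.val_injective r
      hstar Z hZc hZ
    have h2 := isNowhereDense_image_comap_of_finite (A := A) (C := S') _ isClosed_closure h1.closure
    refine h2.mono ?_
    rintro _ ⟨q', hq', rfl⟩
    exact ⟨comap S'.val.toRingHom q', subset_closure ⟨q', hq', rfl⟩, rfl⟩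
  choose r hr hnd using key
  obtain ⟨F, hF⟩ := isCompact_univ.elim_finite_subcover
    (fun q => ((basicOpen (r q) : TopologicalSpace.Opens _) : Set (PrimeSpectrum B)))
    (fun q => (basicOpen _).isOpen) (fun q _ => Set.mem_iUnion.mpr ⟨q, hr q⟩)
  have := isNowhereDense_biUnion_finset F _ (fun q _ => hnd q)
  refine this.mono ?_
  rintro _ ⟨q', hq', rfl⟩
  obtain ⟨q, hqF, hq⟩ := Set.mem_iUnion₂.mp (hF (Set.mem_univ q'))
  exact Set.mem_iUnion₂.mpr ⟨q, hqF, q', ⟨hq', hq⟩, rfl⟩

end Groth.Agent.Lib.Helper20.NowhereDense
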