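import Mathlib
import Groth.Agent.Lib.Helper20.NowhereDense5

set_option autoImplicit false
universe u
namespace Groth.Agent.Lib.Helper20.NowhereDense
open AlgebraicGeometry CategoryTheory

theorem isNowhereDense_image_inter_affine {X Y : Scheme.{u}} (f : Y ⟶ X) [LocallyQuasiFinite f]
    [LocallyOfFiniteType f] {U : X.Opens} (hU : IsAffineOpen U) {V : Y.Opens}
    (hV : IsAffineOpen V) (e : V ≤ f ⁻¹ᵁ U) (T : Set Y) (hT : IsClosed T)
    (hT' : IsNowhereDense T) : IsNowhereDense (f '' (T ∩ V)) := by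
  have hqf : (f.appLE U V e).hom.QuasiFinite := LocallyQuasiFinite.quasiFinite_appLE hU hV e
  have hft : (f.appLE U V e).hom.FiniteType := LocallyOfFiniteType.finiteType_appLE f hU hV e
  algebraize [(f.appLE U V e).hom]
  set Z : Set (PrimeSpectrum Γ(Y, V)) := hV.fromSpec ⁻¹' T with hZ
  have hZc : IsClosed Z := hT.preimage hV.fromSpec.continuous
  have hZn : IsNowhereDense Z :=
    isNowhereDense_preimage hV.fromSpec.continuous hV.fromSpec.isOpenEmbedding.isOpenMap hT'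
  have h1 := isNowhereDense_image_comap_of_quasiFinite (A := Γ(X, U)) (B := Γ(Y, V)) Z hZc hZn
  have h2 := hU.fromSpec.isOpenEmbedding.isInducing.isNowhereDense_image h1
  refine h2.mono ?_
  rintro _ ⟨y, ⟨hyT, hyV⟩, rfl⟩
  have hy : y ∈ Set.range hV.fromSpec := by rw [hV.range_fromSpec]; exact hyV
  obtain ⟨z, rfl⟩ := hy
  refine ⟨PrimeSpectrum.comap (algebraMap Γ(X, U) Γ(Y, V)) z, ⟨z, hyT, rfl⟩, ?_⟩
  have := congrArg (fun g => g.base z) (IsAffineOpen.SpecMap_appLE_fromSpec f hU hV e)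
  exact this

theorem isNowhereDense_image {X Y : Scheme.{u}} (f : Y ⟶ X) [LocallyQuasiFinite f]
    [LocallyOfFiniteType f] [QuasiCompact f] (T : Set Y) (hT : IsClosed T)
    (hT' : IsNowhereDense T) : IsNowhereDense (f '' T) := by
  rw [IsNowhereDense, Set.eq_empty_iff_forall_notMem]
  intro x hx
  obtain ⟨U, hU, hxU, hUsub⟩ := exists_isAffineOpen_mem_and_subset (X := X) (x := x)
    (U := ⟨interior (closure (f '' T)), isOpen_interior⟩) hx
  have hc : IsCompact ((f ⁻¹ᵁ U : Y.Opens) : Set Y) :=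
    QuasiCompact.isCompact_preimage (f := f) _ U.isOpen hU.isCompact
  have hcov : ∀ y : (f ⁻¹ᵁ U : Y.Opens), ∃ V : Y.Opens, IsAffineOpen V ∧ y.1 ∈ V ∧ V ≤ f ⁻¹ᵁ U :=
    fun y => exists_isAffineOpen_mem_and_subset (x := y.1) (U := f ⁻¹ᵁ U) y.2
  choose V hVaff hyV hVle using hcov
  obtain ⟨F, hF⟩ := hc.elim_finite_subcover (fun y => (V y : Set Y)) (fun y => (V y).isOpen)
    (fun y hy => Set.mem_iUnion.mpr ⟨⟨y, hy⟩, hyV _⟩)
  have hS := isNowhereDense_biUnion_finset F (fun y => f '' (T ∩ V y))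
    (fun y _ => isNowhereDense_image_inter_affine f hU (hVaff y) (hVle y) T hT hT')
  apply not_subset_of_isNowhereDense hS U.isOpen ⟨x, hxU⟩
  have h1 : (U : Set X) ⊆ closure ((U : Set X) ∩ f '' T) := by
    have := U.isOpen.inter_closure (t := f '' T)
    exact fun z hz => this ⟨hz, interior_subset (hUsub hz)⟩
  refine h1.trans (closure_mono ?_)
  rintro _ ⟨hzU, y, hyT, rfl⟩
  have hy : y ∈ f ⁻¹ᵁ U := hzU
  obtain ⟨y', hy'F, hy'⟩ := Set.mem_iUnion₂.mp (hF hy)
  exact Set.mem_iUnion₂.mpr ⟨y', hy'F, y, ⟨hyT, hy'⟩, rfl⟩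

end Groth.Agent.Lib.Helper20.NowhereDense
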