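import Mathlib
import Groth.Agent.Lib.Helper20.NowhereDense6

set_option autoImplicit false
universe u
namespace Groth.Agent.Lib.Helper20.GenFinite
open AlgebraicGeometry CategoryTheory PrimeSpectrum
open Groth.Agent.Lib.Helper20.NowhereDense

/-- a dense quasi-compact open of a prime spectrum contains all minimal primes -/
theorem mem_of_dense_of_isCompact_of_minimal {C : Type*} [CommRing C] (O : Set (PrimeSpectrum C))
    (hO : IsOpen O) (hOc : IsCompact O) (hOd : Dense O) (q : PrimeSpectrum C)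
    (hq : q.asIdeal ∈ minimalPrimes C) : q ∈ O := by
  classical
  by_contra hqO
  obtain ⟨t, ht⟩ := isCompact_isOpen_iff.mp ⟨hOc, hO⟩
  have hqt : ∀ c ∈ t, c ∈ q.asIdeal := by
    intro c hc
    by_contra hcq
    apply hqO
    rw [← ht]
    intro hmem
    exact hcq (hmem (by exact_mod_cast hc))
  have hτ : ∀ c : C, ∃ τ : C, c ∈ t → τ ∉ q.asIdeal ∧ IsNilpotent (τ * c) := by
    intro c
    by_cases hc : c ∈ t
    · obtain ⟨τ, h1, h2⟩ := exists_notMem_isNilpotent_mul hq (hqt c hc)
      exact ⟨τ, fun _ => ⟨h1, h2⟩⟩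
    · exact ⟨0, fun h => absurd h hc⟩
  choose τ hτ using hτ
  set T : C := ∏ c ∈ t, τ c with hT
  have hTq : T ∉ q.asIdeal := by
    rw [hT, Ideal.IsPrime.prod_mem_iff]
    rintro ⟨c, hc, hcq⟩
    exact (hτ c hc).1 hcq
  obtain ⟨q', hq'T, hq'O⟩ := hOd.inter_open_nonempty _ (basicOpen T).isOpen ⟨q, hTq⟩
  rw [← ht] at hq'O
  have : ∃ c ∈ t, c ∉ q'.asIdeal := by
    by_contra hcon
    push Not at hcon
    exact hq'O (fun c hc => hcon c (by exact_mod_cast hc))
  obtain ⟨c, hc, hcq'⟩ := this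
  have hnil : IsNilpotent (T * c) := by
    rw [hT, ← Finset.mul_prod_erase t τ hc, mul_comm (τ c), mul_assoc]
    exact Commute.isNilpotent_mul_left (Commute.all _ _) (hτ c hc).2
  have hmem : T * c ∈ q'.asIdeal := by
    have := mem_nilradical.mpr hnil
    rw [nilradical_eq_sInf, Ideal.mem_sInf] at this
    exact this q'.2
  rcases q'.2.mem_or_mem hmem with h | h
  · exact hq'T h
  · exact hcq' h

end Groth.Agent.Lib.Helper20.GenFinite
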