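import Mathlib
import Groth.Agent.Lib.Helper20.GenFinite1

set_option autoImplicit false
universe u
namespace Groth.Agent.Lib.Helper20.GenFinite
open AlgebraicGeometry CategoryTheory
open Groth.Agent.Lib.Helper20.NowhereDense

theorem isIntegralHom_morphismRestrict_of_eq {X Y : Scheme.{u}} {f g : Y ⟶ X} (h : g = f)
    (U : X.Opens) (hg : IsIntegralHom (g ∣_ U)) : IsIntegralHom (f ∣_ U) := by
  subst h; exact hg

theorem exists_isFinite_morphismRestrict_of_isSeparated {X Y : Scheme.{u}} (f : Y ⟶ X)
    [IsAffine X] [Nonempty X] [IsSeparated f] [LocallyQuasiFinite f] [LocallyOfFiniteType f]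
    [QuasiCompact f] :
    ∃ U : X.Opens, (U : Set X).Nonempty ∧ IsFinite (f ∣_ U) := by
  haveI : IsOpenImmersion f.toNormalization := inferInstance
  have hcl : IsClosed (f.fromNormalization '' (Set.range f.toNormalization)ᶜ) :=
    f.fromNormalization.isClosedMap _ f.toNormalization.isOpenEmbedding.isOpen_range.isClosed_compl
  let U : X.Opens := ⟨(f.fromNormalization '' (Set.range f.toNormalization)ᶜ)ᶜ, hcl.isOpen_compl⟩
  refine ⟨U, ?_, ?_⟩
  · haveI : IsAffine f.normalization := isAffine_of_isAffineHom f.fromNormalization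
    haveI : CompactSpace Y := QuasiCompact.compactSpace_of_compactSpace f
    have hint : (f.fromNormalization.appTop).hom.IsIntegral :=
      IsIntegralHom.isIntegral_app f.fromNormalization ⊤ (isAffineOpen_top X)
    haveI : Nontrivial Γ(X, ⊤) := by
      have hne : Nonempty ↥(⊤ : X.Opens) := ⟨⟨Nonempty.some ‹_›, trivial⟩⟩
      exact @Scheme.component_nontrivial X ⊤ hne
    obtain ⟨⟨p₀, hp₀⟩⟩ := Ideal.nonempty_minimalPrimes (I := (⊥ : Ideal Γ(X, ⊤))) bot_ne_top
    haveI := hp₀.1.1
    set x₀ : X := X.isoSpec.inv (⟨p₀, hp₀.1.1⟩ : PrimeSpectrum Γ(X, ⊤)) with hx₀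
    refine ⟨x₀, ?_⟩
    rintro ⟨d, hd, hdx⟩
    apply hd
    set q : PrimeSpectrum Γ(f.normalization, ⊤) := f.normalization.isoSpec.hom d with hq
    have hqp : PrimeSpectrum.comap f.fromNormalization.appTop.hom q = ⟨p₀, hp₀.1.1⟩ := by
      have h1 := congrArg (fun g => g.base d) (Scheme.isoSpec_hom_naturality f.fromNormalization)
      have h2 : (Spec.map f.fromNormalization.appTop) q = X.isoSpec.hom (f.fromNormalization d) := h1
      rw [hdx, hx₀] at h2
      have h3 : X.isoSpec.hom (X.isoSpec.inv (⟨p₀, hp₀.1.1⟩ : PrimeSpectrum Γ(X, ⊤))) =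
          (⟨p₀, hp₀.1.1⟩ : PrimeSpectrum Γ(X, ⊤)) := by
        rw [← Scheme.Hom.comp_apply, Iso.inv_hom_id]; rfl
      rw [h3] at h2
      exact h2
    have hqmin : q.asIdeal ∈ minimalPrimes Γ(f.normalization, ⊤) := by
      algebraize [f.fromNormalization.appTop.hom]
      haveI : Algebra.IsIntegral Γ(X, ⊤) Γ(f.normalization, ⊤) := algebraMap_isIntegral_iff.mp hint
      refine ⟨⟨q.2, bot_le⟩, fun q' hq' hle => ?_⟩
      haveI := hq'.1
      have hqp' : q.asIdeal.comap (algebraMap Γ(X, ⊤) Γ(f.normalization, ⊤)) = p₀ :=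
        congrArg PrimeSpectrum.asIdeal hqp
      have h1 : q'.comap (algebraMap Γ(X, ⊤) Γ(f.normalization, ⊤)) ≤ p₀ :=
        hqp' ▸ Ideal.comap_mono hle
      have h2 : p₀ ≤ q'.comap (algebraMap Γ(X, ⊤) Γ(f.normalization, ⊤)) :=
        hp₀.2 ⟨inferInstance, bot_le⟩ h1
      by_contra hnle
      have hlt : q' < q.asIdeal := lt_of_le_of_ne hle (fun h => hnle (h ▸ le_rfl))
      have := Ideal.IsIntegral.comap_lt_comap (R := Γ(X, ⊤)) hlt
      rw [hqp'] at this
      exact absurd (lt_of_le_of_lt h2 this) (lt_irrefl _)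
    have hO := mem_of_dense_of_isCompact_of_minimal
      (Set.range (f.toNormalization ≫ f.normalization.isoSpec.hom))
      (f.toNormalization ≫ f.normalization.isoSpec.hom).isOpenEmbedding.isOpen_range
      (isCompact_range (f.toNormalization ≫ f.normalization.isoSpec.hom).continuous)
      (f.toNormalization ≫ f.normalization.isoSpec.hom).denseRange q hqmin
    obtain ⟨y, hy⟩ := hO
    refine ⟨y, ?_⟩
    have h4 : f.normalization.isoSpec.hom (f.toNormalization y) = f.normalization.isoSpec.hom d := hy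
    exact f.normalization.isoSpec.hom.isOpenEmbedding.injective h4
  · have h1 : IsIntegralHom (f ∣_ U) := by
      apply isIntegralHom_morphismRestrict_of_eq f.toNormalization_fromNormalization
      rw [morphismRestrict_comp]
      haveI : IsIso (f.toNormalization ∣_ f.fromNormalization ⁻¹ᵁ U) := by
        rw [isIso_iff_isOpenImmersion_and_surjective]
        refine ⟨inferInstance, ⟨fun n => ?_⟩⟩
        have hn : n.1 ∈ Set.range f.toNormalization := by
          by_contra hcon
          exact n.2 ⟨n.1, hcon, rfl⟩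
        obtain ⟨y, hy⟩ := hn
        have hyU : y ∈ f.toNormalization ⁻¹ᵁ f.fromNormalization ⁻¹ᵁ U := by
          show f.toNormalization y ∈ f.fromNormalization ⁻¹ᵁ U
          rw [hy]; exact n.2
        refine ⟨⟨y, hyU⟩, ?_⟩
        apply Subtype.ext
        rw [morphismRestrict_base_coe]
        exact hy
      haveI h3 : IsIntegralHom (f.toNormalization ∣_ f.fromNormalization ⁻¹ᵁ U) := inferInstance
      haveI h4 : IsIntegralHom (f.fromNormalization ∣_ U) :=
        MorphismProperty.of_isPullback (P := @IsIntegralHom)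
          (isPullback_morphismRestrict f.fromNormalization U).flip inferInstance
      exact MorphismProperty.comp_mem _ _ _ h3 h4
    rw [IsFinite.iff_isIntegralHom_and_locallyOfFiniteType]
    exact ⟨h1, inferInstance⟩

end Groth.Agent.Lib.Helper20.GenFinite
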