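import Mathlib
import Groth.Agent.Lib.Helper20.GenFinite2

set_option autoImplicit false
universe u
namespace Groth.Agent.Lib.Helper20.GenFinite
open AlgebraicGeometry CategoryTheory
open Groth.Agent.Lib.Helper20.NowhereDense

theorem quasiSeparatedSpace_of_closed_affine_cover {Y : Scheme.{u}} {ι : Type*} [Finite ι]
    (V : ι → Y.Opens) (hV : ∀ i, IsAffineOpen (V i)) (hVc : ∀ i, IsClosed (V i : Set Y))
    (hcov : ∀ y : Y, ∃ i, y ∈ V i) : QuasiSeparatedSpace Y := by
  rw [quasiSeparatedSpace_iff_forall_affineOpens]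
  intro U W
  have h1 : ((U : Y.Opens) : Set Y) ∩ ((W : Y.Opens) : Set Y) =
      ⋃ i, (((U : Y.Opens) : Set Y) ∩ (V i : Set Y)) ∩ (((W : Y.Opens) : Set Y) ∩ (V i : Set Y)) := by
    ext y
    simp only [Set.mem_inter_iff, Set.mem_iUnion]
    constructor
    · rintro ⟨hU, hW⟩
      obtain ⟨i, hi⟩ := hcov y
      exact ⟨i, ⟨hU, hi⟩, ⟨hW, hi⟩⟩
    · rintro ⟨i, ⟨hU, -⟩, ⟨hW, -⟩⟩
      exact ⟨hU, hW⟩
  rw [h1]
  refine isCompact_iUnion fun i => ?_
  exact (hV i).isQuasiSeparated _ _ Set.inter_subset_right (U.1.isOpen.inter (V i).isOpen)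
    (U.2.isCompact.inter_right (hVc i)) Set.inter_subset_right (W.1.isOpen.inter (V i).isOpen)
    (W.2.isCompact.inter_right (hVc i))

theorem isSeparated_of_closed_affine_cover {X Y : Scheme.{u}} (f : Y ⟶ X) [IsAffine X]
    {ι : Type*} [Finite ι]
    (V : ι → Y.Opens) (hV : ∀ i, IsAffineOpen (V i)) (hVc : ∀ i, IsClosed (V i : Set Y))
    (hcov : ∀ y : Y, ∃ i, y ∈ V i) : IsSeparated f := by
  haveI : QuasiSeparatedSpace Y := quasiSeparatedSpace_of_closed_affine_cover V hV hVc hcov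
  haveI : QuasiSeparated f := (HasAffineProperty.iff_of_isAffine (P := @QuasiSeparated)).mpr ‹_›
  refine IsSeparated.of_valuativeCriterion f (fun S => ⟨fun l₁ l₂ => ?_⟩)
  obtain ⟨i, hi⟩ := hcov (S.i₁ (IsLocalRing.closedPoint S.K))
  haveI : IsAffine (V i).toScheme := hV i
  -- every lift lands in `V i`
  have hland : ∀ l : S.commSq.LiftStruct, Set.range l.l ⊆ (V i : Set Y) := by
    intro l
    rintro _ ⟨z, rfl⟩
    set η : Spec (CommRingCat.of S.R) :=
      Spec.map (CommRingCat.ofHom (algebraMap S.R S.K)) (IsLocalRing.closedPoint S.K) with hη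
    have hηz : η ⤳ z := by
      refine (PrimeSpectrum.le_iff_specializes (R := S.R) η z).mp ?_
      intro a ha
      have h1 : algebraMap S.R S.K a ∈ (IsLocalRing.closedPoint S.K).asIdeal := ha
      have h2 : (IsLocalRing.closedPoint S.K).asIdeal = ⊥ := by
        rw [IsLocalRing.closedPoint]; exact IsLocalRing.maximalIdeal_eq_bot
      rw [h2, Ideal.mem_bot] at h1
      have h3 : a = 0 := (IsFractionRing.injective S.R S.K) (by rw [h1, map_zero])
      rw [h3]; exact zero_mem _
    have h4 : l.l η ⤳ l.l z := hηz.map l.l.continuous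
    have h5 : l.l η = S.i₁ (IsLocalRing.closedPoint S.K) := by
      rw [hη, ← Scheme.Hom.comp_apply, l.fac_left]
    rw [h5] at h4
    exact h4.mem_closed (hVc i) hi
  have hr : ∀ l : S.commSq.LiftStruct, Set.range l.l ⊆ Set.range (V i).ι := by
    intro l
    rw [Scheme.Opens.range_ι]
    exact hland l
  have hr₁ : Set.range S.i₁ ⊆ Set.range (V i).ι := by
    rw [← l₁.fac_left]
    rintro _ ⟨z, rfl⟩
    exact hr l₁ ⟨_, rfl⟩
  set g : (V i).toScheme ⟶ X := (V i).ι ≫ f with hg
  haveI : IsSeparated g := IsSeparated.of_isAffineHom g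
  let S' : ValuativeCommSq g :=
    { R := S.R
      K := S.K
      i₁ := IsOpenImmersion.lift (V i).ι S.i₁ hr₁
      i₂ := S.i₂
      commSq := ⟨by rw [hg, IsOpenImmersion.lift_fac_assoc]; exact S.commSq.w⟩ }
  let l₁' : S'.commSq.LiftStruct :=
    { l := IsOpenImmersion.lift (V i).ι l₁.l (hr l₁)
      fac_left := by
        rw [← cancel_mono (V i).ι, Category.assoc, IsOpenImmersion.lift_fac,
          IsOpenImmersion.lift_fac]
        exact l₁.fac_left
      fac_right := by
        show IsOpenImmersion.lift (V i).ι l₁.l (hr l₁) ≫ ((V i).ι ≫ f) = S.i₂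
        rw [IsOpenImmersion.lift_fac_assoc]
        exact l₁.fac_right }
  let l₂' : S'.commSq.LiftStruct :=
    { l := IsOpenImmersion.lift (V i).ι l₂.l (hr l₂)
      fac_left := by
        rw [← cancel_mono (V i).ι, Category.assoc, IsOpenImmersion.lift_fac,
          IsOpenImmersion.lift_fac]
        exact l₂.fac_left
      fac_right := by
        show IsOpenImmersion.lift (V i).ι l₂.l (hr l₂) ≫ ((V i).ι ≫ f) = S.i₂
        rw [IsOpenImmersion.lift_fac_assoc]
        exact l₂.fac_right }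
  have hsub := IsSeparated.valuativeCriterion g S'
  have heq : l₁' = l₂' := Subsingleton.elim _ _
  have h6 : l₁'.l = l₂'.l := congrArg CommSq.LiftStruct.l heq
  have h7 : l₁'.l ≫ (V i).ι = l₂'.l ≫ (V i).ι := by rw [h6]
  have h8 : l₁.l = l₂.l := by
    have e1 : l₁'.l ≫ (V i).ι = l₁.l := IsOpenImmersion.lift_fac _ _ _
    have e2 : l₂'.l ≫ (V i).ι = l₂.l := IsOpenImmersion.lift_fac _ _ _
    rw [← e1, ← e2, h7]
  exact CommSq.LiftStruct.ext h8

end Groth.Agent.Lib.Helper20.GenFinite
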