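import Mathlib
import Groth.Agent.Lib.Helper20.GenFinite3

set_option autoImplicit false
universe u
namespace Groth.Agent.Lib.Helper20.GenFinite
open AlgebraicGeometry CategoryTheory
open Groth.Agent.Lib.Helper20.NowhereDense

theorem frontier_preimage {Y : Scheme.{u}} (V W : Y.Opens) :
    V.ι ⁻¹' (closure ((V : Set Y) ∩ W) \ W) = frontier (V.ι ⁻¹' (W : Set Y)) := by
  have hO : IsOpen (V.ι ⁻¹' (W : Set Y)) := W.isOpen.preimage V.ι.continuous
  rw [hO.frontier_eq, V.ι.isOpenEmbedding.isInducing.closure_eq_preimage_closure_image,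
    Set.image_preimage_eq_inter_range, Scheme.Opens.range_ι, Set.preimage_sdiff, Set.inter_comm]

theorem isNowhereDense_image_frontier {X Y : Scheme.{u}} (f : Y ⟶ X) [LocallyQuasiFinite f]
    [LocallyOfFiniteType f] [IsAffine X] (V W : Y.Opens) (hV : IsAffineOpen V) :
    IsNowhereDense (f '' ((V : Set Y) ∩ (closure ((V : Set Y) ∩ W) \ W))) := by
  haveI : IsAffine V.toScheme := hV
  have hT : IsNowhereDense (frontier (V.ι ⁻¹' (W : Set Y))) := by
    rw [isClosed_frontier.isNowhereDense_iff, ← frontier_compl]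
    exact interior_frontier (W.isOpen.preimage V.ι.continuous).isClosed_compl
  have h1 := isNowhereDense_image (V.ι ≫ f) _ isClosed_frontier hT
  refine h1.mono ?_
  rintro _ ⟨y, ⟨hyV, hy⟩, rfl⟩
  refine ⟨⟨y, hyV⟩, ?_, rfl⟩
  rw [← frontier_preimage]
  exact hy

theorem exists_basicOpen_closed_affine_cover {X Y : Scheme.{u}} (f : Y ⟶ X) [IsAffine X]
    [Nonempty X] [LocallyQuasiFinite f] [LocallyOfFiniteType f] [QuasiCompact f] :
    ∃ s : Γ(X, ⊤), ((X.basicOpen s : X.Opens) : Set X).Nonempty ∧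
      ∃ (ι : Type u) (_ : Finite ι) (V : ι → (f ⁻¹ᵁ X.basicOpen s).toScheme.Opens),
      (∀ i, IsAffineOpen (V i)) ∧
      (∀ i, IsClosed (V i : Set (f ⁻¹ᵁ X.basicOpen s).toScheme)) ∧ ∀ y, ∃ i, y ∈ V i := by
  classical
  haveI : CompactSpace Y := QuasiCompact.compactSpace_of_compactSpace f
  have hcov : ∀ y : Y, ∃ V : Y.Opens, IsAffineOpen V ∧ y ∈ V := fun y => by
    obtain ⟨V, hV, hy, -⟩ := exists_isAffineOpen_mem_and_subset (X := Y) (x := y) (U := ⊤) trivial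
    exact ⟨V, hV, hy⟩
  choose V hV hyV using hcov
  obtain ⟨F, hF⟩ := isCompact_univ.elim_finite_subcover (fun y => (V y : Set Y))
    (fun y => (V y).isOpen) (fun y _ => Set.mem_iUnion.mpr ⟨y, hyV y⟩)
  set B : Set X := ⋃ j ∈ F, ⋃ i ∈ F,
    f '' ((V j : Set Y) ∩ (closure ((V j : Set Y) ∩ V i) \ V i)) with hB
  have hBnd : IsNowhereDense B := isNowhereDense_biUnion_finset F _
    (fun j _ => isNowhereDense_biUnion_finset F _
      (fun i _ => isNowhereDense_image_frontier f (V j) (V i) (hV j)))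
  have hne : ((closure B)ᶜ : Set X).Nonempty := by
    by_contra hcon
    rw [Set.not_nonempty_iff_eq_empty, Set.compl_empty_iff] at hcon
    have h1 := hBnd
    rw [IsNowhereDense, hcon, interior_univ] at h1
    exact (Set.univ_nonempty (α := X)).ne_empty h1
  obtain ⟨x, hx⟩ := hne
  obtain ⟨_, ⟨_, ⟨s, rfl⟩, rfl⟩, hxs, hsB⟩ := (isBasis_basicOpen X).exists_subset_of_mem_open hx
    isClosed_closure.isOpen_compl
  refine ⟨s, ⟨x, hxs⟩, ↥F, inferInstance, fun i => (f ⁻¹ᵁ X.basicOpen s).ι ⁻¹ᵁ V i.1, ?_, ?_, ?_⟩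
  · intro i
    rw [← Scheme.Hom.isAffineOpen_iff_of_isOpenImmersion (f ⁻¹ᵁ X.basicOpen s).ι,
      Scheme.Hom.image_preimage_eq_opensRange_inf, Scheme.Opens.opensRange_ι,
      Scheme.preimage_basicOpen, inf_comm]
    have h1 := Scheme.basicOpen_res (X := Y) (U := f ⁻¹ᵁ ⊤) (V := V i.1) (f.app ⊤ s)
      (homOfLE (show V i.1 ≤ f ⁻¹ᵁ ⊤ from le_top)).op
    rw [← h1]
    exact (hV i.1).basicOpen _
  · intro i
    rw [← closure_subset_iff_isClosed]
    intro y hy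
    have h1 : y ∈ (f ⁻¹ᵁ X.basicOpen s).ι ⁻¹' closure ((f ⁻¹ᵁ X.basicOpen s).ι ''
        ((f ⁻¹ᵁ X.basicOpen s).ι ⁻¹' (V i.1 : Set Y))) := by
      rw [← (f ⁻¹ᵁ X.basicOpen s).ι.isOpenEmbedding.isInducing.closure_eq_preimage_closure_image]
      exact hy
    have h2 : (f ⁻¹ᵁ X.basicOpen s).ι y ∈ closure (V i.1 : Set Y) :=
      closure_mono (Set.image_preimage_subset _ _) h1
    by_contra hyi
    have hyi' : (f ⁻¹ᵁ X.basicOpen s).ι y ∉ (V i.1 : Set Y) := hyi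
    obtain ⟨j, hjF, hj⟩ := Set.mem_iUnion₂.mp (hF (Set.mem_univ ((f ⁻¹ᵁ X.basicOpen s).ι y)))
    have h3 : (f ⁻¹ᵁ X.basicOpen s).ι y ∈ closure ((V j : Set Y) ∩ V i.1) :=
      (V j).isOpen.inter_closure ⟨hj, h2⟩
    have h4 : f ((f ⁻¹ᵁ X.basicOpen s).ι y) ∈ B := by
      rw [hB]
      exact Set.mem_iUnion₂.mpr ⟨j, hjF, Set.mem_iUnion₂.mpr ⟨i.1, i.2, _, ⟨hj, h3, hyi'⟩, rfl⟩⟩
    have h5 : f ((f ⁻¹ᵁ X.basicOpen s).ι y) ∈ X.basicOpen s := y.2
    exact hsB h5 (subset_closure h4)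
  · intro y
    obtain ⟨j, hjF, hj⟩ := Set.mem_iUnion₂.mp (hF (Set.mem_univ y.1))
    exact ⟨⟨j, hjF⟩, hj⟩

end Groth.Agent.Lib.Helper20.GenFinite
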