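import Mathlib
import Groth.Agent.Lib.Helper20.GenFinite4

set_option autoImplicit false
universe u
namespace Groth.Agent.Lib.Helper20.GenFinite
open AlgebraicGeometry CategoryTheory
open Groth.Agent.Lib.Helper20.NowhereDense

theorem isFinite_morphismRestrict_image {X Y : Scheme.{u}} (f : Y ⟶ X) (W : X.Opens)
    (U' : W.toScheme.Opens) (h : IsFinite (f ∣_ W ∣_ U')) : IsFinite (f ∣_ W.ι ''ᵁ U') :=
  (MorphismProperty.arrow_mk_iso_iff @IsFinite (morphismRestrictRestrict f W U')).mp h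

theorem isFinite_morphismRestrict_congr {X Y : Scheme.{u}} (f : Y ⟶ X) {W W' : X.Opens}
    (h : W = W') (hW : IsFinite (f ∣_ W)) : IsFinite (f ∣_ W') := by
  subst h; exact hW

instance {X Y : Scheme.{u}} (f : Y ⟶ X) (W : X.Opens) [LocallyQuasiFinite f] :
    LocallyQuasiFinite (f ∣_ W) :=
  MorphismProperty.of_isPullback (P := @LocallyQuasiFinite)
    (isPullback_morphismRestrict f W).flip inferInstance

/-- affine case -/
theorem exists_isFinite_morphismRestrict_of_isAffine {X Y : Scheme.{u}} (f : Y ⟶ X) [IsAffine X]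
    [Nonempty X] [LocallyQuasiFinite f] [LocallyOfFiniteType f] [QuasiCompact f] :
    ∃ U : X.Opens, (U : Set X).Nonempty ∧ IsFinite (f ∣_ U) := by
  obtain ⟨s, ⟨x, hx⟩, ι, hι, V, hV, hVc, hcov⟩ := exists_basicOpen_closed_affine_cover f
  haveI : IsAffine (X.basicOpen s).toScheme := (isAffineOpen_top X).basicOpen s
  haveI : Nonempty (X.basicOpen s).toScheme := ⟨⟨x, hx⟩⟩
  haveI : IsSeparated (f ∣_ X.basicOpen s) := isSeparated_of_closed_affine_cover _ V hV hVc hcov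
  obtain ⟨U', ⟨x', hx'⟩, hU'⟩ := exists_isFinite_morphismRestrict_of_isSeparated (f ∣_ X.basicOpen s)
  exact ⟨(X.basicOpen s).ι ''ᵁ U', ⟨_, x', hx', rfl⟩, isFinite_morphismRestrict_image f _ U' hU'⟩

theorem exists_isFinite_morphismRestrict_le {X Y : Scheme.{u}} (f : Y ⟶ X)
    [LocallyQuasiFinite f] [LocallyOfFiniteType f] [QuasiCompact f] (W : X.Opens)
    (hW : IsAffineOpen W) (hne : (W : Set X).Nonempty) :
    ∃ U : X.Opens, U ≤ W ∧ (U : Set X).Nonempty ∧ IsFinite (f ∣_ U) := by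
  haveI : IsAffine W.toScheme := hW
  obtain ⟨x, hx⟩ := hne
  haveI : Nonempty W.toScheme := ⟨⟨x, hx⟩⟩
  obtain ⟨U', ⟨x', hx'⟩, hU'⟩ := exists_isFinite_morphismRestrict_of_isAffine (f ∣_ W)
  refine ⟨W.ι ''ᵁ U', ?_, ⟨_, x', hx', rfl⟩, isFinite_morphismRestrict_image f _ U' hU'⟩
  rintro _ ⟨y, -, rfl⟩
  exact y.2

theorem exists_dense_isFinite_morphismRestrict {X Y : Scheme.{u}} (f : Y ⟶ X)
    [LocallyQuasiFinite f] [LocallyOfFiniteType f] [QuasiCompact f] :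
    ∃ U : X.Opens, Dense (U : Set X) ∧ IsFinite (f ∣_ U) := by
  set S := {U : X.Opens // IsFinite (f ∣_ U)} with hS
  set U₀ : X.Opens := ⨆ i : S, i.1 with hU₀
  refine ⟨U₀, ?_, ?_⟩
  · rw [dense_iff_inter_open]
    rintro O hO ⟨x, hxO⟩
    obtain ⟨W, hW, hxW, hWO⟩ := exists_isAffineOpen_mem_and_subset (X := X) (x := x)
      (U := ⟨O, hO⟩) hxO
    obtain ⟨U, hUW, ⟨z, hz⟩, hU⟩ := exists_isFinite_morphismRestrict_le f W hW ⟨x, hxW⟩
    refine ⟨z, hWO (hUW hz), ?_⟩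
    exact (le_iSup (fun i : S => i.1) ⟨U, hU⟩) hz
  · have htop : ⨆ i : S, U₀.ι ⁻¹ᵁ i.1 = ⊤ := by
      rw [eq_top_iff]
      rintro ⟨y, hy⟩ -
      obtain ⟨i, hi⟩ := TopologicalSpace.Opens.mem_iSup.mp hy
      exact TopologicalSpace.Opens.mem_iSup.mpr ⟨i, hi⟩
    rw [IsZariskiLocalAtTarget.iff_of_iSup_eq_top (P := @IsFinite) _ htop]
    intro i
    have h1 : U₀.ι ''ᵁ (U₀.ι ⁻¹ᵁ i.1) = i.1 := by
      rw [Scheme.Hom.image_preimage_eq_opensRange_inf, Scheme.Opens.opensRange_ι]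
      exact inf_eq_right.mpr (le_iSup (fun i : S => i.1) i)
    have h2 : IsFinite (f ∣_ U₀.ι ''ᵁ (U₀.ι ⁻¹ᵁ i.1)) :=
      isFinite_morphismRestrict_congr f h1.symm i.2
    exact (MorphismProperty.arrow_mk_iso_iff @IsFinite (morphismRestrictRestrict f U₀ _)).mpr h2

end Groth.Agent.Lib.Helper20.GenFinite
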