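import Groth.Agent.Lib.Helper20.AwnScheme5
set_option autoImplicit false
universe u
namespace Groth.Agent.Lib.Helper20.ImageUH
open AlgebraicGeometry CategoryTheory Limits
open Groth.Agent.Lib.Helper20.UnivHomeo

/-- if `h` is surjective and `h ≫ π` is universally injective then `π` is universally injective -/
theorem universallyInjective_of_surjective_comp {T' T₁ T : Scheme.{u}} (h : T' ⟶ T₁) (π : T₁ ⟶ T)
    [Surjective h] [UniversallyInjective (h ≫ π)] : UniversallyInjective π := by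
  rw [UniversallyInjective.iff_diagonal]
  have h1 : Surjective (pullback.diagonal (h ≫ π)) :=
    (UniversallyInjective.iff_diagonal _).mp inferInstance
  let m : pullback (h ≫ π) (h ≫ π) ⟶ pullback π π :=
    pullback.map (h ≫ π) (h ≫ π) π π h h (𝟙 T) (by simp) (by simp)
  have hm : Surjective m := by
    refine ⟨fun z => ?_⟩
    have : z ∈ Set.range m := by
      rw [Scheme.Pullback.range_map]
      exact ⟨h.surjective _, h.surjective _⟩
    exact this
  have e : h ≫ pullback.diagonal π = pullback.diagonal (h ≫ π) ≫ m := by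
    apply pullback.hom_ext
    · simp only [m, Category.assoc, pullback.diagonal_fst, Category.comp_id, pullback.lift_fst,
        pullback.map]
      rw [pullback.diagonal_fst_assoc]
    · simp only [m, Category.assoc, pullback.diagonal_snd, Category.comp_id, pullback.lift_snd,
        pullback.map]
      rw [pullback.diagonal_snd_assoc]
  have : Surjective (h ≫ pullback.diagonal π) := by rw [e]; infer_instance
  exact Surjective.of_comp h _


section Image
variable {T' P T : Scheme.{u}} (ν : T' ⟶ T) (hν : FlatMor.IsUnivHomeo ν) (ρ : P ⟶ T)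
  [IsSeparated ρ] (γ : T' ⟶ P) (hγ : γ ≫ ρ = ν)
include hν hγ

theorem universallyClosed_graph : UniversallyClosed γ := by
  have h1 := (isUnivHomeo_iff_scheme ν).mp hν
  have : IsIntegralHom ν := h1.1
  have : UniversallyClosed (γ ≫ ρ) := by rw [hγ]; infer_instance
  exact UniversallyClosed.of_comp_of_isSeparated γ ρ

theorem surjective_toImage : Surjective γ.toImage := by
  have := universallyClosed_graph ν hν ρ γ hγ
  infer_instance

omit hν [IsSeparated ρ] in
theorem toImage_comp : γ.toImage ≫ (γ.imageι ≫ ρ) = ν := by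
  rw [← Category.assoc, γ.toImage_imageι, hγ]

omit [IsSeparated ρ] in
theorem surjective_image : Surjective (γ.imageι ≫ ρ) := by
  have h1 := (isUnivHomeo_iff_scheme ν).mp hν
  have : Surjective (γ.toImage ≫ (γ.imageι ≫ ρ)) := by
    rw [toImage_comp ν ρ γ hγ]; exact h1.2.2
  exact Surjective.of_comp γ.toImage _

theorem universallyInjective_image : UniversallyInjective (γ.imageι ≫ ρ) := by
  have h1 := (isUnivHomeo_iff_scheme ν).mp hν
  have := surjective_toImage ν hν ρ γ hγ
  have : UniversallyInjective (γ.toImage ≫ (γ.imageι ≫ ρ)) := by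
    rw [toImage_comp ν ρ γ hγ]; exact h1.2.1
  exact universallyInjective_of_surjective_comp γ.toImage _

theorem universallyClosed_image : UniversallyClosed (γ.imageι ≫ ρ) := by
  have h1 := (isUnivHomeo_iff_scheme ν).mp hν
  have : IsIntegralHom ν := h1.1
  have := surjective_toImage ν hν ρ γ hγ
  have : UniversallyClosed (γ.toImage ≫ (γ.imageι ≫ ρ)) := by
    rw [toImage_comp ν ρ γ hγ]; infer_instance
  exact UniversallyClosed.of_comp_surjective γ.toImage _

theorem isFinite_image [LocallyOfFiniteType ρ] : IsFinite (γ.imageι ≫ ρ) := by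
  have := universallyClosed_image ν hν ρ γ hγ
  have := universallyInjective_image ν hν ρ γ hγ
  have : IsProper (γ.imageι ≫ ρ) := { }
  exact IsFinite.of_isProper_of_locallyQuasiFinite _

theorem isUnivHomeo_image [IsIntegralHom (γ.imageι ≫ ρ)] : FlatMor.IsUnivHomeo (γ.imageι ≫ ρ) := by
  rw [isUnivHomeo_iff_scheme]
  exact ⟨inferInstance, universallyInjective_image ν hν ρ γ hγ, surjective_image ν hν ρ γ hγ⟩

theorem isReduced_image [IsReduced T'] : IsReduced γ.image := by
  have := universallyClosed_graph ν hν ρ γ hγ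
  have hq : ∀ U : P.affineOpens, _root_.IsReduced (Γ(P, U) ⧸ γ.ker.ideal U) := by
    intro U
    rw [γ.ker_apply U]
    exact isReduced_of_injective (RingHom.kerLift (γ.app U.1).hom)
      (RingHom.kerLift_injective (γ.app U.1).hom)
  have (U : P.affineOpens) : IsReduced (γ.ker.subschemeCover.openCover.X U) := by
    have := hq U
    change IsReduced (Spec (.of (Γ(P, U) ⧸ γ.ker.ideal U)))
    infer_instance
  exact .of_openCover _ γ.ker.subschemeCover.openCover

end Image


section Factor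
variable {S X T T' : Scheme.{u}} [X.IsSeparated] (fX : X ⟶ S) [LocallyOfFiniteType fX] (fT : T ⟶ S)
  (ν : T' ⟶ T) (hν : FlatMor.IsUnivHomeo ν)
include hν

theorem exists_factor (g : T' ⟶ X) (w : g ≫ fX = ν ≫ fT) :
    ∃ (T₁ : Scheme.{u}) (π : T₁ ⟶ T) (_ : IsFinite π) (_ : FlatMor.IsUnivHomeo π) (g₁ : T₁ ⟶ X)
      (h : T' ⟶ T₁), Surjective h ∧ h ≫ π = ν ∧ g₁ ≫ fX = π ≫ fT ∧ h ≫ g₁ = g := by
  have : IsSeparated fX := by
    have : IsSeparated (fX ≫ terminal.from S) := by
      rw [terminal.comp_from]; infer_instance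
    exact IsSeparated.of_comp fX (terminal.from S)
  let ρ : pullback fX fT ⟶ T := pullback.snd fX fT
  let γ : T' ⟶ pullback fX fT := pullback.lift g ν w
  have hγ : γ ≫ ρ = ν := pullback.lift_snd _ _ _
  have hfin : IsFinite (γ.imageι ≫ ρ) := isFinite_image ν hν ρ γ hγ
  refine ⟨γ.image, γ.imageι ≫ ρ, hfin, isUnivHomeo_image ν hν ρ γ hγ,
    γ.imageι ≫ pullback.fst fX fT, γ.toImage, surjective_toImage ν hν ρ γ hγ,
    toImage_comp ν ρ γ hγ, ?_, ?_⟩
  · simp only [Category.assoc, ρ, pullback.condition]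
  · rw [γ.toImage_imageι_assoc]
    exact pullback.lift_fst _ _ _

theorem exists_dominate [IsReduced T'] {T₁ T₂ : Scheme.{u}} (π₁ : T₁ ⟶ T) (π₂ : T₂ ⟶ T)
    [IsFinite π₁] [IsFinite π₂] (g₁ : T₁ ⟶ X) (g₂ : T₂ ⟶ X) (h₁ : T' ⟶ T₁) (h₂ : T' ⟶ T₂)
    (hh₁ : h₁ ≫ π₁ = ν) (hh₂ : h₂ ≫ π₂ = ν) (e : h₁ ≫ g₁ = h₂ ≫ g₂) :
    ∃ (T₃ : Scheme.{u}) (π₃ : T₃ ⟶ T) (_ : IsFinite π₃) (_ : FlatMor.IsUnivHomeo π₃)
      (a₁ : T₃ ⟶ T₁) (a₂ : T₃ ⟶ T₂) (h₃ : T' ⟶ T₃), Surjective h₃ ∧ h₃ ≫ π₃ = ν ∧
        a₁ ≫ π₁ = π₃ ∧ a₂ ≫ π₂ = π₃ ∧ a₁ ≫ g₁ = a₂ ≫ g₂ := by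
  let ρ : pullback π₁ π₂ ⟶ T := pullback.fst π₁ π₂ ≫ π₁
  let δ : T' ⟶ pullback π₁ π₂ := pullback.lift h₁ h₂ (by rw [hh₁, hh₂])
  have hδ : δ ≫ ρ = ν := by
    simp only [δ, ρ, pullback.lift_fst_assoc, hh₁]
  have huc := universallyClosed_graph ν hν ρ δ hδ
  have hred : IsReduced δ.image := isReduced_image ν hν ρ δ hδ
  have hfin : IsFinite (δ.imageι ≫ ρ) := inferInstance
  refine ⟨δ.image, δ.imageι ≫ ρ, hfin, isUnivHomeo_image ν hν ρ δ hδ,
    δ.imageι ≫ pullback.fst π₁ π₂, δ.imageι ≫ pullback.snd π₁ π₂, δ.toImage,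
    surjective_toImage ν hν ρ δ hδ, toImage_comp ν ρ δ hδ, ?_, ?_, ?_⟩
  · simp only [Category.assoc, ρ]
  · simp only [Category.assoc, ρ, pullback.condition]
  · apply ext_of_isDominant δ.toImage
    simp only [Category.assoc]
    rw [δ.toImage_imageι_assoc, δ.toImage_imageι_assoc]
    simp only [δ, pullback.lift_fst_assoc, pullback.lift_snd_assoc, e]

end Factor

end Groth.Agent.Lib.Helper20.ImageUH
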