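import Groth.Agent.Lib.Helper20.ImageUH
set_option autoImplicit false
universe u
namespace Groth.Agent.Lib.Helper20.ImageUH
open AlgebraicGeometry CategoryTheory Limits
open Groth.Agent.Lib.Helper20.UnivHomeo
open Groth.Agent.Lib.Helper20.AwnScheme

theorem isReduced_nilradical_subscheme (X : Scheme.{u}) : IsReduced X.nilradical.subscheme := by
  have hq : ∀ U : X.affineOpens, _root_.IsReduced (Γ(X, U) ⧸ X.nilradical.ideal U) := by
    intro U
    rw [← Ideal.isRadical_iff_quotient_reduced]
    change ((⊥ : X.IdealSheafData).radical.ideal U).IsRadical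
    rw [Scheme.IdealSheafData.radical_ideal]
    exact Ideal.radical_isRadical _
  have (U : X.affineOpens) : IsReduced (X.nilradical.subschemeCover.openCover.X U) := by
    have := hq U
    change IsReduced (Spec (.of (Γ(X, U) ⧸ X.nilradical.ideal U)))
    infer_instance
  exact .of_openCover _ X.nilradical.subschemeCover.openCover

theorem surjective_nilradical_subschemeι (X : Scheme.{u}) : Surjective X.nilradical.subschemeι := by
  refine ⟨fun x => ?_⟩
  have : x ∈ Set.range X.nilradical.subschemeι := by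
    rw [Scheme.IdealSheafData.range_subschemeι, Scheme.support_nilradical]
    trivial
  exact this

theorem isIso_residueFieldMap_of_isClosedImmersion {X Y : Scheme.{u}} (f : X ⟶ Y)
    [IsClosedImmersion f] (x : X) : IsIso (f.residueFieldMap x) := by
  rw [ConcreteCategory.isIso_iff_bijective]
  refine ⟨(f.residueFieldMap x).hom.injective, ?_⟩
  have hs : Function.Surjective (f.stalkMap x) := f.stalkMap_surjective x
  intro y
  obtain ⟨s, rfl⟩ := IsLocalRing.residue_surjective y
  obtain ⟨r, rfl⟩ := hs s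
  exact ⟨IsLocalRing.residue _ r, IsLocalRing.ResidueField.map_residue _ r⟩

theorem residueFieldsIso_comp {X Y Z : Scheme.{u}} (f : X ⟶ Y) (g : Y ⟶ Z)
    (hf : HTop.ResidueFieldsIso f) (hg : HTop.ResidueFieldsIso g) :
    HTop.ResidueFieldsIso (f ≫ g) := by
  intro x
  rw [Scheme.residueFieldMap_comp]
  exact IsIso.comp_isIso' (hg _) (hf x)

theorem isUnivHomeo_comp {X Y Z : Scheme.{u}} (f : X ⟶ Y) (g : Y ⟶ Z)
    (hf : FlatMor.IsUnivHomeo f) (hg : FlatMor.IsUnivHomeo g) : FlatMor.IsUnivHomeo (f ≫ g) := by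
  rw [isUnivHomeo_iff_scheme] at hf hg ⊢
  obtain ⟨_, h1, _⟩ := hf
  obtain ⟨_, h2, _⟩ := hg
  exact ⟨inferInstance, MorphismProperty.comp_mem _ f g h1 h2, inferInstance⟩

theorem isReduced_of_isSeminormalization {X' X : Scheme.{u}} (ν : X' ⟶ X)
    (hν : HTop.IsSeminormalization ν) : IsReduced X' := by
  let i := X'.nilradical.subschemeι
  have hi : FlatMor.IsUnivHomeo i := by
    rw [isUnivHomeo_iff_scheme]
    exact ⟨inferInstance, inferInstance, surjective_nilradical_subschemeι X'⟩
  have hi' : HTop.ResidueFieldsIso i := fun x => isIso_residueFieldMap_of_isClosedImmersion i x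
  obtain ⟨h, hh, -⟩ := hν.2 _ (i ≫ ν) (isUnivHomeo_comp i ν hi hν.1.1)
    (residueFieldsIso_comp i ν hi' hν.1.2)
  obtain ⟨t, -, ht⟩ := hν.2 X' ν hν.1.1 hν.1.2
  have e : h ≫ i = 𝟙 X' := by
    rw [ht (h ≫ i) (by change (h ≫ i) ≫ ν = ν; rw [Category.assoc, hh]),
      ht (𝟙 _) (Category.id_comp _)]
  have : IsSplitEpi i := ⟨⟨h, e⟩⟩
  have : IsIso i := isIso_of_mono_of_isSplitEpi i
  have := isReduced_nilradical_subscheme X'
  exact isReduced_of_isOpenImmersion (inv i)


theorem residueFieldsIso_of_surjective_comp {T' T₁ T : Scheme.{u}} (h : T' ⟶ T₁) (π : T₁ ⟶ T)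
    [Surjective h] (hc : HTop.ResidueFieldsIso (h ≫ π)) : HTop.ResidueFieldsIso π := by
  intro t₁
  obtain ⟨t', rfl⟩ := h.surjective t₁
  have h1 : IsIso ((h ≫ π).residueFieldMap t') := hc t'
  rw [Scheme.residueFieldMap_comp] at h1
  have hb := (ConcreteCategory.isIso_iff_bijective _).mp h1
  have h2 : IsIso (h.residueFieldMap t') := by
    rw [ConcreteCategory.isIso_iff_bijective]
    refine ⟨(h.residueFieldMap t').hom.injective, fun y => ?_⟩
    obtain ⟨z, hz⟩ := hb.2 y
    exact ⟨π.residueFieldMap (h t') z, hz⟩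
  exact @IsIso.of_isIso_comp_right _ _ _ _ _ (π.residueFieldMap (h t')) (h.residueFieldMap t') h2 h1

end Groth.Agent.Lib.Helper20.ImageUH
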