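import Mathlib

/-!
# Finite type over an Artinian local ring can be tested on the closed fibre (helper20, for helper78's S5340)
-/

set_option autoImplicit false
universe u
open CategoryTheory CategoryTheory.Limits AlgebraicGeometry TensorProduct

namespace Groth.Agent.Lib.Helper20.LftK2

theorem isNilpotent_maximalIdeal (A : Type u) [CommRing A] [IsLocalRing A] [IsArtinianRing A] :
    IsNilpotent (IsLocalRing.maximalIdeal A) := by
  have h := IsArtinianRing.isNilpotent_jacobson_bot (R := A)
  rwa [IsLocalRing.jacobson_eq_maximalIdeal _ bot_ne_top] at h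

/-- Nilpotent Nakayama: `M₀ ⊔ 𝔪 M = M` and `𝔪` nilpotent force `M₀ = M`. -/
theorem eq_top_of_sup_smul_eq_top {A M : Type u} [CommRing A] [AddCommGroup M] [Module A M]
    (I : Ideal A) (hI : IsNilpotent I) (M₀ : Submodule A M)
    (h : M₀ ⊔ I • (⊤ : Submodule A M) = ⊤) : M₀ = ⊤ := by
  have key : ∀ n : ℕ, M₀ ⊔ (I ^ n) • (⊤ : Submodule A M) = ⊤ := by
    intro n
    induction n with
    | zero => rw [pow_zero, Ideal.one_eq_top, Submodule.top_smul, sup_top_eq]
    | succ n ih =>
      rw [eq_top_iff]
      calc (⊤ : Submodule A M) = M₀ ⊔ I • (⊤ : Submodule A M) := h.symm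
        _ = M₀ ⊔ I • (M₀ ⊔ (I ^ n) • (⊤ : Submodule A M)) := by rw [ih]
        _ = M₀ ⊔ (I • M₀ ⊔ I • (I ^ n) • (⊤ : Submodule A M)) := by rw [Submodule.smul_sup]
        _ ≤ M₀ ⊔ (I ^ (n + 1)) • (⊤ : Submodule A M) := by
          rw [← Submodule.mul_smul, ← pow_succ']
          exact sup_le le_sup_left (sup_le (Submodule.smul_le_right.trans le_sup_left) le_sup_right)
  obtain ⟨n, hn⟩ := hI
  have := key n
  rwa [hn, Ideal.zero_eq_bot, Submodule.bot_smul, sup_bot_eq] at this

/-- Ring core. -/
theorem finiteType_of_residue {A B : Type u} [CommRing A] [IsLocalRing A] [IsArtinianRing A]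
    [CommRing B] [Algebra A B]
    (h : (Algebra.TensorProduct.includeRight :
      IsLocalRing.ResidueField A →ₐ[A] B ⊗[A] IsLocalRing.ResidueField A).toRingHom.FiniteType) :
    (algebraMap A B).FiniteType := by
  classical
  set k := IsLocalRing.ResidueField A
  let ιR : k →ₐ[A] B ⊗[A] k := Algebra.TensorProduct.includeRight
  letI algk : Algebra k (B ⊗[A] k) := ιR.toRingHom.toAlgebra
  have hft : Algebra.FiniteType k (B ⊗[A] k) := h
  obtain ⟨S, hS⟩ := hft.out
  let π : B →ₐ[A] B ⊗[A] k := Algebra.TensorProduct.includeLeft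
  have hπ : Function.Surjective π :=
    Algebra.TensorProduct.includeLeft_surjective (R := A) (T := k) A B
      IsLocalRing.residue_surjective
  let T : Finset B := S.image (Function.surjInv hπ)
  let B₀ : Subalgebra A B := Algebra.adjoin A (T : Set B)
  -- every element of `B ⊗ k` is the image of an element of `B₀`
  have hP : ∀ x : B ⊗[A] k, ∃ b₀ ∈ B₀, π b₀ = x := by
    intro x
    have hx : x ∈ Algebra.adjoin k (S : Set (B ⊗[A] k)) := by rw [hS]; trivial
    induction hx using Algebra.adjoin_induction with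
    | mem y hy =>
      refine ⟨Function.surjInv hπ y, Algebra.subset_adjoin ?_, Function.surjInv_eq hπ y⟩
      exact Finset.mem_coe.mpr (Finset.mem_image_of_mem _ hy)
    | algebraMap c =>
      obtain ⟨a, rfl⟩ := IsLocalRing.residue_surjective c
      refine ⟨algebraMap A B a, Subalgebra.algebraMap_mem _ _, ?_⟩
      show (algebraMap A B a) ⊗ₜ[A] (1 : k) = (1 : B) ⊗ₜ[A] (IsLocalRing.residue A a)
      rw [Algebra.algebraMap_eq_smul_one, TensorProduct.smul_tmul, Algebra.smul_def, mul_one]
      rfl
    | add y z _ _ hy hz =>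
      obtain ⟨b₁, hb₁, rfl⟩ := hy
      obtain ⟨b₂, hb₂, rfl⟩ := hz
      exact ⟨b₁ + b₂, Subalgebra.add_mem _ hb₁ hb₂, map_add _ _ _⟩
    | mul y z _ _ hy hz =>
      obtain ⟨b₁, hb₁, rfl⟩ := hy
      obtain ⟨b₂, hb₂, rfl⟩ := hz
      exact ⟨b₁ * b₂, Subalgebra.mul_mem _ hb₁ hb₂, map_mul _ _ _⟩
  -- kernel of `π`
  have hker : ∀ b : B, π b = 0 →
      b ∈ (IsLocalRing.maximalIdeal A).map (algebraMap A B) := by
    intro b hb
    have h1 : Algebra.TensorProduct.quotIdealMapEquivTensorQuot B (IsLocalRing.maximalIdeal A)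
        (Ideal.Quotient.mk _ b) = 0 := by
      rw [Algebra.TensorProduct.quotIdealMapEquivTensorQuot_mk]
      exact hb
    have h2 := (Algebra.TensorProduct.quotIdealMapEquivTensorQuot B
      (IsLocalRing.maximalIdeal A)).injective (h1.trans (map_zero _).symm)
    exact Ideal.Quotient.eq_zero_iff_mem.mp h2
  have hsup : Subalgebra.toSubmodule B₀ ⊔
      (IsLocalRing.maximalIdeal A) • (⊤ : Submodule A B) = ⊤ := by
    rw [eq_top_iff]
    intro b _
    obtain ⟨b₀, hb₀, hb⟩ := hP (π b)
    have h3 : b - b₀ ∈ (IsLocalRing.maximalIdeal A).map (algebraMap A B) := by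
      apply hker
      rw [map_sub, hb, sub_self]
    have h4 : b - b₀ ∈ (IsLocalRing.maximalIdeal A) • (⊤ : Submodule A B) := by
      rw [Ideal.smul_top_eq_map]
      exact h3
    have : b = b₀ + (b - b₀) := by ring
    rw [this]
    exact Submodule.add_mem_sup hb₀ h4
  have htop := eq_top_of_sup_smul_eq_top _ (isNilpotent_maximalIdeal A) _ hsup
  rw [Algebra.toSubmodule_eq_top] at htop
  rw [RingHom.finiteType_algebraMap]
  exact ⟨⟨T, htop⟩⟩

/-- **K2.** Over an Artinian local base, local finite type can be tested on the closed fibre. -/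
theorem locallyOfFiniteType_of_residue (A : Type u) [CommRing A] [IsArtinianRing A] [IsLocalRing A]
    {X : Scheme.{u}} (f : X ⟶ Spec (CommRingCat.of A))
    [LocallyOfFiniteType (pullback.snd f (Spec.map (CommRingCat.ofHom
      (algebraMap A (IsLocalRing.ResidueField A)))))] : LocallyOfFiniteType f := by
  rw [IsZariskiLocalAtSource.iff_of_openCover (P := @LocallyOfFiniteType)
    X.affineOpenCover.openCover]
  intro i
  set g : Spec (X.affineOpenCover.X i) ⟶ X := X.affineOpenCover.f i with hg
  show LocallyOfFiniteType (g ≫ f)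
  have h1 : LocallyOfFiniteType (pullback.snd (g ≫ f) (Spec.map (CommRingCat.ofHom
      (algebraMap A (IsLocalRing.ResidueField A))))) := by
    rw [← pullbackRightPullbackFstIso_inv_snd_snd f _ g]
    infer_instance
  set φ : CommRingCat.of A ⟶ X.affineOpenCover.X i := Spec.preimage (g ≫ f) with hφdef
  have hφ : Spec.map φ = g ≫ f := Spec.map_preimage _
  letI : Algebra A (X.affineOpenCover.X i) := φ.hom.toAlgebra
  have hφ' : Spec.map (CommRingCat.ofHom (algebraMap A (X.affineOpenCover.X i))) = g ≫ f := hφ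
  rw [← hφ'] at h1 ⊢
  have h2 : LocallyOfFiniteType ((pullbackSpecIso A (X.affineOpenCover.X i)
      (IsLocalRing.ResidueField A)).inv ≫ pullback.snd _ _) := inferInstance
  rw [pullbackSpecIso_inv_snd, HasRingHomProperty.Spec_iff (P := @LocallyOfFiniteType)] at h2
  rw [HasRingHomProperty.Spec_iff (P := @LocallyOfFiniteType)]
  exact finiteType_of_residue h2

end Groth.Agent.Lib.Helper20.LftK2
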