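import Groth.Agent.Lib.Helper20.Seminormal2
import Groth.Prelude.Def_Pi1
set_option autoImplicit false
universe u
namespace Groth.Agent.Lib.Helper20.Seminormal
open AlgebraicGeometry CategoryTheory Limits Opposite
open Groth.Agent.Lib.Helper20.UnivHomeo

/-- an integrally closed domain is seminormal (same argument as S15941) -/
theorem isSeminormalRing_of_isIntegrallyClosed (A : Type u) [CommRing A] [IsDomain A]
    [IsIntegrallyClosed A] : HTop.IsSeminormalRing A := by
  intro x y hxy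
  by_cases hx : x = 0
  · subst hx
    have hy : y = 0 := by
      have : y ^ 2 = 0 := by rw [← hxy]; simp
      exact pow_eq_zero_iff (two_ne_zero) |>.1 this
    subst hy
    refine ⟨0, by simp, ?_⟩
    rintro b ⟨hb, -⟩
    exact (pow_eq_zero_iff (two_ne_zero)).1 hb.symm
  · let K := FractionRing A
    have hxK : algebraMap A K x ≠ 0 := by
      rwa [Ne, IsFractionRing.to_map_eq_zero_iff]
    set a' : K := algebraMap A K y / algebraMap A K x with ha'
    have hsq : a' ^ 2 = algebraMap A K x := by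
      rw [ha', div_pow, ← map_pow, ← hxy, map_pow, pow_succ, mul_comm,
        mul_div_assoc, div_self (pow_ne_zero 2 hxK), mul_one]
    have hint : IsIntegral A a' := by
      refine ⟨Polynomial.X ^ 2 - Polynomial.C x, Polynomial.monic_X_pow_sub_C x two_ne_zero, ?_⟩
      simp [hsq]
    obtain ⟨a, ha⟩ := IsIntegrallyClosed.isIntegral_iff.1 hint
    have hinj : Function.Injective (algebraMap A K) := IsFractionRing.injective A K
    have h1 : x = a ^ 2 := by
      apply hinj
      rw [map_pow, ha, hsq]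
    have h2 : y = a ^ 3 := by
      apply hinj
      rw [map_pow, ha, pow_succ, hsq, ha', mul_div_cancel₀ _ hxK]
    refine ⟨a, ⟨h1, h2⟩, ?_⟩
    rintro b ⟨hb1, hb2⟩
    have : b * x = a * x := by
      rw [hb1]
      nth_rewrite 2 [← hb1]
      rw [h1]
      have : b * b ^ 2 = b ^ 3 := by ring
      rw [this, ← hb2, h2]; ring
    exact mul_right_cancel₀ hx this

theorem exists_local_root {X : Scheme.{u}} (hn : Pi1.IsNormalScheme X) (W : X.Opens)
    (x y : Γ(X, W)) (hxy : x ^ 3 = y ^ 2) (w : X) (hw : w ∈ W) :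
    ∃ (O : X.Opens) (_ : w ∈ O) (i : O ⟶ W) (α : Γ(X, O)),
      α ^ 2 = X.presheaf.map i.op x ∧ α ^ 3 = X.presheaf.map i.op y := by
  have := (hn w).1
  have := (hn w).2
  have hs := isSeminormalRing_of_isIntegrallyClosed (X.presheaf.stalk w)
  obtain ⟨a, ⟨h2, h3⟩, -⟩ := hs (X.presheaf.germ W w hw x) (X.presheaf.germ W w hw y)
    (by rw [← map_pow, ← map_pow, hxy])
  obtain ⟨O₀, hwO₀, s, hs'⟩ := X.presheaf.exists_germ_eq a
  obtain ⟨W₁, hw₁, i₁, j₁, e₁⟩ := X.presheaf.germ_eq w hwO₀ hw (s ^ 2) x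
    (by rw [map_pow, hs', ← h2])
  obtain ⟨W₂, hw₂, i₂, j₂, e₂⟩ := X.presheaf.germ_eq w hwO₀ hw (s ^ 3) y
    (by rw [map_pow, hs', ← h3])
  refine ⟨W₁ ⊓ W₂, ⟨hw₁, hw₂⟩, homOfLE (inf_le_left.trans j₁.le),
    X.presheaf.map (homOfLE (inf_le_left.trans i₁.le)).op s, ?_, ?_⟩
  · have := congrArg (X.presheaf.map (homOfLE (inf_le_left : W₁ ⊓ W₂ ≤ W₁)).op) e₁
    rw [← ConcreteCategory.comp_apply, ← ConcreteCategory.comp_apply, ← X.presheaf.map_comp,
      ← X.presheaf.map_comp, map_pow] at this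
    exact this
  · have := congrArg (X.presheaf.map (homOfLE (inf_le_right : W₁ ⊓ W₂ ≤ W₂)).op) e₂
    rw [← ConcreteCategory.comp_apply, ← ConcreteCategory.comp_apply, ← X.presheaf.map_comp,
      ← X.presheaf.map_comp, map_pow] at this
    exact this


theorem isReduced_of_isNormalScheme {X : Scheme.{u}} (hn : Pi1.IsNormalScheme X) : IsReduced X := by
  have : ∀ x : X, _root_.IsReduced (X.presheaf.stalk x) := fun x => by
    have := (hn x).1
    infer_instance
  exact isReduced_of_isReduced_stalk X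

theorem isSeminormalRing_sections {X : Scheme.{u}} (hn : Pi1.IsNormalScheme X) (W : X.Opens) :
    HTop.IsSeminormalRing Γ(X, W) := by
  have hred : IsReduced X := isReduced_of_isNormalScheme hn
  have huniq : ∀ (O : X.Opens) (a b x' y' : Γ(X, O)), a ^ 2 = x' → a ^ 3 = y' → b ^ 2 = x' →
      b ^ 3 = y' → a = b := by
    intro O a b x' y' ha2 ha3 hb2 hb3
    have hn : IsNilpotent (a - b) := by
      apply isNilpotent_sub_of_sq_cube
      · rw [ha2, hb2, sub_self]; exact IsNilpotent.zero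
      · rw [ha3, hb3, sub_self]; exact IsNilpotent.zero
    exact sub_eq_zero.mp hn.eq_zero
  intro x y hxy
  choose O hwO i α h2 h3 using fun w : W => exists_local_root hn W x y hxy w.1 w.2
  have hcover : W ≤ iSup O := by
    intro w hw
    exact TopologicalSpace.Opens.mem_iSup.mpr ⟨⟨w, hw⟩, hwO ⟨w, hw⟩⟩
  have hcompat : TopCat.Presheaf.IsCompatible X.presheaf O α := by
    intro w w'
    apply huniq (O w ⊓ O w') _ _
      (X.presheaf.map (homOfLE (inf_le_left.trans (i w).le) : O w ⊓ O w' ⟶ W).op x)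
      (X.presheaf.map (homOfLE (inf_le_left.trans (i w).le) : O w ⊓ O w' ⟶ W).op y)
    · rw [← map_pow, h2 w, ← ConcreteCategory.comp_apply, ← X.presheaf.map_comp]; rfl
    · rw [← map_pow, h3 w, ← ConcreteCategory.comp_apply, ← X.presheaf.map_comp]; rfl
    · rw [← map_pow, h2 w', ← ConcreteCategory.comp_apply, ← X.presheaf.map_comp]; rfl
    · rw [← map_pow, h3 w', ← ConcreteCategory.comp_apply, ← X.presheaf.map_comp]; rfl
  obtain ⟨a, ha, -⟩ : ∃! a : Γ(X, W), ∀ w, X.presheaf.map (i w).op a = α w :=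
    X.sheaf.existsUnique_gluing' O W i hcover α hcompat
  have hloc : ∀ s t : Γ(X, W),
      (∀ w, X.presheaf.map (i w).op s = X.presheaf.map (i w).op t) → s = t :=
    fun s t h => X.sheaf.eq_of_locally_eq' O W i hcover s t h
  have e2 : x = a ^ 2 := by
    apply hloc
    intro w
    rw [map_pow, ha w]
    exact (h2 w).symm
  have e3 : y = a ^ 3 := by
    apply hloc
    intro w
    rw [map_pow, ha w]
    exact (h3 w).symm
  refine ⟨a, ⟨e2, e3⟩, ?_⟩
  rintro b ⟨hb2, hb3⟩
  exact huniq W b a x y hb2.symm hb3.symm e2.symm e3.symm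


theorem exists_section_of_isNormalScheme {P V : Scheme.{u}} (ρ : P ⟶ V)
    (hρ : FlatMor.IsUnivHomeo ρ) (hr : HTop.ResidueFieldsIso ρ) (hn : Pi1.IsNormalScheme V) :
    ∃ σ : V ⟶ P, σ ≫ ρ = 𝟙 V :=
  exists_section_of_forall ρ hρ hr (fun U : V.affineOpens => U) (iSup_affineOpens_eq_top V)
    (fun U => isSeminormalRing_sections hn U)

/-- S15962 -/
theorem exists_normalization_factor {S Sn X' : Scheme.{u}} (π : Sn ⟶ S)
    (hn : Pi1.IsNormalScheme Sn) (ν : X' ⟶ S) (hν : HTop.IsSeminormalization ν) :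
    ∃ g : Sn ⟶ X', g ≫ ν = π := by
  have hρ : FlatMor.IsUnivHomeo (pullback.snd ν π) := MorphismProperty.pullback_snd _ _ hν.1.1
  have hr : HTop.ResidueFieldsIso (pullback.snd ν π) := residueFieldsIso_pullback_snd hν.1.2
  obtain ⟨σ, hσ⟩ := exists_section_of_isNormalScheme _ hρ hr hn
  refine ⟨σ ≫ pullback.fst ν π, ?_⟩
  rw [Category.assoc, pullback.condition, ← Category.assoc, hσ, Category.id_comp]

end Groth.Agent.Lib.Helper20.Seminormal
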