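import Groth.Agent.Lib.Helper69.NormUniv
import Groth.Agent.Lib.Helper20.Seminormal3
import Groth.Prelude.Def_Curv2

set_option autoImplicit false
set_option linter.unusedSectionVars false
set_option linter.style.haveILetI false
universe u
namespace Groth.Agent.Lib.Helper20.NormChar
open AlgebraicGeometry CategoryTheory CategoryTheory.Limits
open Groth.Agent.Lib.Helper69.NormField Groth.Agent.Lib.Helper69.NormUniv

/-- copy of helper69's `S9791.facts` -/
theorem facts {X : Scheme.{u}} [IsIntegral X] {L : Type u} [Field L] (φ : X.functionField →+* L)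
    (g : Spec (CommRingCat.of L) ⟶ X) (hg : g = gen φ) [QuasiCompact g] [QuasiSeparated g] :
    Pi1.IsNormalScheme g.normalization ∧
    g.toNormalization (IsLocalRing.closedPoint L) = genericPoint g.normalization ∧
    (∀ n : g.normalization, g.fromNormalization n = genericPoint X →
      n = genericPoint g.normalization) ∧
    Function.Injective (Scheme.stalkClosedPointTo g.toNormalization).hom ∧
    Set.range (Scheme.stalkClosedPointTo g.toNormalization).hom = {y : L | φ.IsIntegralElem y} := by
  subst hg
  exact ⟨isNormalScheme_normalization φ, toNormalization_closedPoint φ,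
    eq_genericPoint_of_fromNormalization_eq φ, stalkClosedPointTo_injective φ,
    range_stalkClosedPointTo φ⟩

/-- copy of helper69's `S9791.facts_id` -/
theorem facts_id (X : Scheme.{u}) [IsIntegral X]
    [QuasiCompact (X.fromSpecStalk (genericPoint X))]
    [QuasiSeparated (X.fromSpecStalk (genericPoint X))] :
    Pi1.IsNormalScheme (X.fromSpecStalk (genericPoint X)).normalization ∧
    (X.fromSpecStalk (genericPoint X)).toNormalization
      (IsLocalRing.closedPoint (X.presheaf.stalk (genericPoint X))) =
      genericPoint (X.fromSpecStalk (genericPoint X)).normalization ∧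
    (∀ n : (X.fromSpecStalk (genericPoint X)).normalization,
      (X.fromSpecStalk (genericPoint X)).fromNormalization n = genericPoint X →
      n = genericPoint (X.fromSpecStalk (genericPoint X)).normalization) ∧
    Function.Bijective
      (Scheme.stalkClosedPointTo (X.fromSpecStalk (genericPoint X)).toNormalization).hom := by
  have hg : (X.fromSpecStalk (genericPoint X) : Spec (CommRingCat.of X.functionField) ⟶ X) =
      gen (RingHom.id X.functionField) := by
    show _ = Spec.map (CommRingCat.ofHom (RingHom.id X.functionField)) ≫ _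
    have : CommRingCat.ofHom (RingHom.id X.functionField) = 𝟙 _ := rfl
    rw [this, Spec.map_id, Category.id_comp]
  obtain ⟨h1, h2, h3, h4, h5⟩ := facts (RingHom.id X.functionField)
    (X.fromSpecStalk (genericPoint X) : Spec (CommRingCat.of X.functionField) ⟶ X) hg
  refine ⟨h1, h2, h3, h4, ?_⟩
  intro y
  have : y ∈ Set.range (Scheme.stalkClosedPointTo
      (X.fromSpecStalk (genericPoint X) :
        Spec (CommRingCat.of X.functionField) ⟶ X).toNormalization).hom := by
    rw [h5]
    exact ⟨Polynomial.X - Polynomial.C y, Polynomial.monic_X_sub_C y, by simp⟩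
  exact this

theorem isIso_stalkMap_of_eq {X Y : Scheme.{u}} (f : X ⟶ Y) {x x' : X} (h : x = x')
    (hx : IsIso (f.stalkMap x)) : IsIso (f.stalkMap x') := by
  subst h; exact hx

section
variable (X : Scheme.{u}) [IsIntegral X] [QuasiCompact (X.fromSpecStalk (genericPoint X))]
  [QuasiSeparated (X.fromSpecStalk (genericPoint X))]

/-- the normalization morphism is an isomorphism on stalks at the generic point -/
theorem isIso_stalkMap_fromNormalization :
    IsIso ((X.fromSpecStalk (genericPoint X)).fromNormalization.stalkMap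
      (genericPoint (X.fromSpecStalk (genericPoint X)).normalization)) := by
  obtain ⟨-, h2, -, h4⟩ := facts_id X
  set fss := X.fromSpecStalk (genericPoint X) with hfss
  have hcomp : fss.toNormalization ≫ fss.fromNormalization = fss :=
    fss.toNormalization_fromNormalization
  have h5 := Scheme.stalkClosedPointTo_comp fss.toNormalization fss.fromNormalization
  have hbij : Function.Bijective
      (Scheme.stalkClosedPointTo (fss.toNormalization ≫ fss.fromNormalization)).hom := by
    rw [hcomp, hfss, Scheme.stalkClosedPointTo_fromSpecStalk]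
    exact ConcreteCategory.bijective_of_isIso _
  rw [h5] at hbij
  have hb : Function.Bijective (fss.fromNormalization.stalkMap
      (fss.toNormalization (IsLocalRing.closedPoint (X.presheaf.stalk (genericPoint X))))).hom := by
    have h7 : Function.Bijective (⇑(Scheme.stalkClosedPointTo fss.toNormalization).hom ∘
        ⇑(fss.fromNormalization.stalkMap (fss.toNormalization
          (IsLocalRing.closedPoint (X.presheaf.stalk (genericPoint X))))).hom) := hbij
    exact (Function.Bijective.of_comp_iff' h4 _).mp h7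
  have : IsIso (fss.fromNormalization.stalkMap
      (fss.toNormalization (IsLocalRing.closedPoint (X.presheaf.stalk (genericPoint X))))) :=
    (ConcreteCategory.isIso_iff_bijective _).mpr hb
  exact isIso_stalkMap_of_eq _ h2 this

end

theorem surjective_stalkMap_of_eq {X Y : Scheme.{u}} (f : X ⟶ Y) {x x' : X} (h : x = x')
    (hx : Function.Surjective (f.stalkMap x).hom) : Function.Surjective (f.stalkMap x').hom := by
  subst h; exact hx

section
variable (X : Scheme.{u}) [IsIntegral X] [QuasiCompact (X.fromSpecStalk (genericPoint X))]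
  [QuasiSeparated (X.fromSpecStalk (genericPoint X))]

theorem iso_of_birational {Y : Scheme.{u}} (f : Y ⟶ X) (hY : Pi1.IsNormalScheme Y)
    [IsIntegralHom f] [IrreducibleSpace Y]
    (hfib : f.base ⁻¹' {genericPoint X} = {genericPoint Y})
    (hst : IsIso (f.stalkMap (genericPoint Y))) :
    ∃ e : Y ≅ (X.fromSpecStalk (genericPoint X)).normalization,
      e.hom ≫ (X.fromSpecStalk (genericPoint X)).fromNormalization = f := by
  haveI : IsReduced Y := Groth.Agent.Lib.Helper20.Seminormal.isReduced_of_isNormalScheme hY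
  haveI : IsIntegral Y := isIntegral_of_irreducibleSpace_of_isReduced Y
  have hfη : f (genericPoint Y) = genericPoint X := by
    have : genericPoint Y ∈ f.base ⁻¹' {genericPoint X} := by rw [hfib]; rfl
    exact this
  have hmax : ∀ z₀ : Y, IsMaxPt z₀ → f z₀ = genericPoint X := by
    intro z₀ hz
    have := hz (genericPoint Y) (genericPoint_specializes z₀)
    rw [← this]; exact hfη
  obtain ⟨h, hh⟩ := hom_exists f hY hmax
  subst hh
  set ν := (X.fromSpecStalk (genericPoint X)).fromNormalization with hν
  haveI : IsIntegralHom h := MorphismProperty.of_postcomp (W := @IsIntegralHom) (W' := @IsSeparated) h ν inferInstance inferInstance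
  obtain ⟨hnorm, h2, h3, h4⟩ := facts_id X
  have hhη : h (genericPoint Y) = genericPoint (X.fromSpecStalk (genericPoint X)).normalization :=
    h3 _ hfη
  have hsurj0 : Function.Surjective (h.stalkMap (genericPoint Y)).hom := by
    have h5 : Function.Surjective ((h ≫ ν).stalkMap (genericPoint Y)).hom :=
      (ConcreteCategory.bijective_of_isIso _).2
    rw [Scheme.Hom.stalkMap_comp] at h5
    exact Function.Surjective.of_comp h5
  have hiso : IsIso h := by
    refine isIso_of_integral_birational hnorm h (Y.fromSpecStalk (genericPoint Y))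
      Scheme.fromSpecStalk_closedPoint ?_ ?_
    · rw [Scheme.Hom.comp_apply, Scheme.fromSpecStalk_closedPoint]; exact hhη
    · rw [Scheme.stalkClosedPointTo_comp, Scheme.stalkClosedPointTo_fromSpecStalk]
      have h6 := surjective_stalkMap_of_eq h
        (Scheme.fromSpecStalk_closedPoint (X := Y) (x := genericPoint Y)).symm hsurj0
      have h9 : ∀ {A B C : CommRingCat.{u}} (a : A ⟶ B) (b : B ⟶ C),
          Function.Surjective a.hom → Function.Surjective b.hom →
          Function.Surjective (a ≫ b).hom := fun a b ha hb => hb.comp ha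
      exact h9 _ _ h6 (ConcreteCategory.bijective_of_isIso _).2
  exact ⟨asIso h, rfl⟩

theorem birational_of_iso {Y : Scheme.{u}} (e : Y ≅ (X.fromSpecStalk (genericPoint X)).normalization) :
    Pi1.IsNormalScheme Y ∧
      IsIntegralHom (e.hom ≫ (X.fromSpecStalk (genericPoint X)).fromNormalization) ∧
      ∃ _ : IrreducibleSpace ↥Y,
        (e.hom ≫ (X.fromSpecStalk (genericPoint X)).fromNormalization).base ⁻¹' {genericPoint X} =
          {genericPoint Y} ∧
        IsIso ((e.hom ≫ (X.fromSpecStalk (genericPoint X)).fromNormalization).stalkMap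
          (genericPoint Y)) := by
  obtain ⟨hnorm, h2, h3, h4⟩ := facts_id X
  set ν := (X.fromSpecStalk (genericPoint X)).fromNormalization with hν
  haveI : Nonempty Y := ⟨e.inv (genericPoint _)⟩
  haveI : IsIntegral Y := isIntegral_of_isOpenImmersion e.hom
  have heη : e.hom (genericPoint Y) = genericPoint (X.fromSpecStalk (genericPoint X)).normalization :=
    genericPoint_eq_of_isOpenImmersion e.hom
  have hνη : ν (genericPoint (X.fromSpecStalk (genericPoint X)).normalization) = genericPoint X := by
    rw [← h2, ← Scheme.Hom.comp_apply, hν,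
      (X.fromSpecStalk (genericPoint X)).toNormalization_fromNormalization]
    exact Scheme.fromSpecStalk_closedPoint
  refine ⟨isNormalScheme_of_isOpenImmersion e.hom hnorm, inferInstance, inferInstance, ?_, ?_⟩
  · ext y
    simp only [Set.mem_preimage, Set.mem_singleton_iff]
    constructor
    · intro hy
      have := h3 (e.hom y) hy
      rw [← heη] at this
      exact e.hom.isOpenEmbedding.injective this
    · rintro rfl
      show ν (e.hom (genericPoint Y)) = _
      rw [heη, hνη]
  · rw [Scheme.Hom.stalkMap_comp]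
    haveI h7 := isIso_stalkMap_of_eq ν heη.symm (isIso_stalkMap_fromNormalization X)
    haveI h8 : IsIso (e.hom.stalkMap (genericPoint Y)) := inferInstance
    exact @IsIso.comp_isIso _ _ _ _ _ _ _ h7 h8

end

/-- local version of helper69's `isIntegrallyClosed_sections` -/
lemma isIntegrallyClosed_sections' {X : Scheme.{u}} {U : X.Opens}
    (hX : ∀ x ∈ U, IsIntegrallyClosed (X.presheaf.stalk x))
    (hU : IsAffineOpen U) [IsDomain Γ(X, U)] : IsIntegrallyClosed Γ(X, U) := by
  have hmem : ∀ y : PrimeSpectrum Γ(X, U), hU.fromSpec y ∈ U := fun y => by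
    rw [← SetLike.mem_coe, ← hU.range_fromSpec]; exact ⟨y, rfl⟩
  letI alg : ∀ (P : Ideal Γ(X, U)) [hP : P.IsMaximal],
      Algebra Γ(X, U) (X.presheaf.stalk (hU.fromSpec ⟨P, hP.isPrime⟩)) := fun P hP =>
    TopCat.Presheaf.algebra_section_stalk X.presheaf ⟨_, hmem ⟨P, hP.isPrime⟩⟩
  haveI loc : ∀ (P : Ideal Γ(X, U)) [hP : P.IsMaximal],
      IsLocalization.AtPrime (X.presheaf.stalk (hU.fromSpec ⟨P, hP.isPrime⟩)) P := fun P hP =>
    hU.isLocalization_stalk' ⟨P, hP.isPrime⟩ (hmem _)
  exact @IsIntegrallyClosed.of_isLocalization_maximal Γ(X, U) _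
    (fun P hP => X.presheaf.stalk (hU.fromSpec ⟨P, hP.isPrime⟩)) (fun P hP => inferInstance)
    (fun P hP => alg P) (fun P hP => loc P) _ (fun P hP => hX _ (hmem _))

section
variable (X : Scheme.{u}) [IsIntegral X] [QuasiCompact (X.fromSpecStalk (genericPoint X))]
  [QuasiSeparated (X.fromSpecStalk (genericPoint X))]

theorem isIso_app_fromNormalization {U : X.Opens} (hU : IsAffineOpen U) (hη : genericPoint X ∈ U)
    (hX : ∀ x ∈ U, IsIntegrallyClosed (X.presheaf.stalk x)) :
    IsIso ((X.fromSpecStalk (genericPoint X)).fromNormalization.app U) := by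
  obtain ⟨ψ, hψi, hψr, hψc⟩ := psi_data hU hη
  have hneU : Nonempty ↥U := ⟨⟨_, hη⟩⟩
  haveI : IsDomain Γ(X, U) := @IsIntegral.component_integral X _ U hneU
  letI a1 : Algebra Γ(X, U) X.functionField := (X.presheaf.germ U (genericPoint X) hη).hom.toAlgebra
  haveI hfrX : IsFractionRing Γ(X, U) X.functionField :=
    @functionField_isFractionRing_of_isAffineOpen X _ U hU hneU
  haveI : IsIntegrallyClosed Γ(X, U) := isIntegrallyClosed_sections' hX hU
  rw [ConcreteCategory.isIso_iff_bijective]
  have hc : ∀ a, ψ (((X.fromSpecStalk (genericPoint X)).fromNormalization.app U).hom a) =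
      algebraMap Γ(X, U) X.functionField a := fun a => congrArg (fun f => f a) hψc
  constructor
  · intro a b hab
    have := congrArg ψ hab
    rw [hc, hc] at this
    exact (IsFractionRing.injective Γ(X, U) X.functionField) this
  · intro b
    have hb : ψ b ∈ Set.range ψ := ⟨b, rfl⟩
    rw [hψr] at hb
    have hb' : IsIntegral Γ(X, U) (ψ b) := hb
    obtain ⟨a, ha⟩ := IsIntegrallyClosed.isIntegral_iff.mp hb'
    refine ⟨a, hψi ?_⟩
    rw [hc, ha]

theorem isIso_morphismRestrict_fromNormalization (V : X.Opens)
    (hX : ∀ x ∈ V, IsIntegrallyClosed (X.presheaf.stalk x)) :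
    IsIso ((X.fromSpecStalk (genericPoint X)).fromNormalization ∣_ V) := by
  show MorphismProperty.isomorphisms Scheme
    ((X.fromSpecStalk (genericPoint X)).fromNormalization ∣_ V)
  rw [IsZariskiLocalAtTarget.iff_of_iSup_eq_top (P := MorphismProperty.isomorphisms Scheme) _
    (iSup_affineOpens_eq_top V.toScheme)]
  rintro ⟨W, hW⟩
  show IsIso (((X.fromSpecStalk (genericPoint X)).fromNormalization ∣_ V) ∣_ W)
  rw [isIso_morphismRestrict_iff_isIso_app _ hW]
  by_cases hne : Nonempty ↥W
  swap
  · have hbot : W = ⊥ := by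
      ext x
      simp only [TopologicalSpace.Opens.coe_bot, Set.mem_empty_iff_false, iff_false]
      exact fun hx => hne ⟨⟨x, hx⟩⟩
    subst hbot
    rw [ConcreteCategory.isIso_iff_bijective]
    have h1 : Subsingleton Γ(V.toScheme, ⊥) := inferInstance
    have h2 : Subsingleton Γ(((X.fromSpecStalk (genericPoint X)).fromNormalization ⁻¹ᵁ V).toScheme,
        ((X.fromSpecStalk (genericPoint X)).fromNormalization ∣_ V) ⁻¹ᵁ ⊥) := by
      rw [Scheme.Hom.preimage_bot]; infer_instance
    exact ⟨Function.injective_of_subsingleton _, fun b => ⟨0, Subsingleton.elim _ _⟩⟩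
  · rw [morphismRestrict_app]
    have hW' : IsAffineOpen (V.ι ''ᵁ W) := hW.image_of_isOpenImmersion V.ι
    have hle : V.ι ''ᵁ W ≤ V := by
      rintro _ ⟨y, -, rfl⟩
      exact y.2
    have hη : genericPoint X ∈ V.ι ''ᵁ W := by
      obtain ⟨w⟩ := hne
      exact (genericPoint_specializes (V.ι w.1)).mem_open (V.ι ''ᵁ W).isOpen ⟨w.1, w.2, rfl⟩
    have h1 := isIso_app_fromNormalization X hW' hη (fun x hx => hX x (hle hx))
    exact @IsIso.comp_isIso _ _ _ _ _ _ _ h1 (Functor.map_isIso _ _)

end

theorem isIso_stalkMap_of_isIso_morphismRestrict {X Y : Scheme.{u}} (f : Y ⟶ X) (U : X.Opens)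
    [IsIso (f ∣_ U)] (y : Y) (hy : y ∈ f ⁻¹ᵁ U) : IsIso (f.stalkMap y) := by
  have h1 : IsIso ((f ∣_ U).stalkMap ⟨y, hy⟩) := inferInstance
  have h2 := morphismRestrictStalkMap f U ⟨y, hy⟩
  exact ((MorphismProperty.isomorphisms CommRingCat).arrow_mk_iso_iff h2).mp h1

theorem birational_of_denseOpen {X Y : Scheme.{u}} [IsIntegral X] (f : Y ⟶ X) (U : X.Opens)
    (hU : Dense (U : Set X)) (hfU : Dense ((f ⁻¹ᵁ U : Y.Opens) : Set Y)) [IsIso (f ∣_ U)] :
    ∃ _ : IrreducibleSpace ↥Y, f.base ⁻¹' {genericPoint X} = {genericPoint Y} ∧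
      IsIso (f.stalkMap (genericPoint Y)) := by
  haveI hneU : Nonempty ↥U.toScheme := by
    obtain ⟨x, hx⟩ := hU.nonempty_iff.mpr inferInstance
    exact ⟨⟨x, hx⟩⟩
  haveI : IsIntegral U.toScheme := isIntegral_of_isOpenImmersion U.ι
  haveI : IrreducibleSpace ↥(f ⁻¹ᵁ U).toScheme :=
    (f ∣_ U).homeomorph.irreducibleSpace_iff.mpr inferInstance
  have hirr : IsIrreducible ((f ⁻¹ᵁ U : Y.Opens) : Set Y) :=
    isIrreducible_iff_irreducibleSpace.mpr ‹_›
  have hirr2 := hirr.closure
  rw [hfU.closure_eq] at hirr2
  haveI hY : IrreducibleSpace ↥Y := (irreducibleSpace_def _).mpr hirr2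
  have h1 : (f ⁻¹ᵁ U).ι (genericPoint ↥(f ⁻¹ᵁ U).toScheme) = genericPoint Y :=
    genericPoint_eq_of_isOpenImmersion _
  have h2 : U.ι (genericPoint ↥U.toScheme) = genericPoint X :=
    genericPoint_eq_of_isOpenImmersion _
  have h3 : (f ∣_ U) (genericPoint ↥(f ⁻¹ᵁ U).toScheme) = genericPoint ↥U.toScheme :=
    genericPoint_eq_of_isOpenImmersion _
  have hfη : f (genericPoint Y) = genericPoint X := by
    rw [← h1, ← Scheme.Hom.comp_apply, ← morphismRestrict_ι, Scheme.Hom.comp_apply, h3, h2]
  have hmem : genericPoint Y ∈ f ⁻¹ᵁ U := by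
    rw [← h1]; exact (genericPoint ↥(f ⁻¹ᵁ U).toScheme).2
  refine ⟨hY, ?_, isIso_stalkMap_of_isIso_morphismRestrict f U _ hmem⟩
  ext y
  simp only [Set.mem_preimage, Set.mem_singleton_iff]
  constructor
  · intro hy
    have hyU : y ∈ f ⁻¹ᵁ U := by
      show f y ∈ U
      rw [hy, ← h2]; exact (genericPoint ↥U.toScheme).2
    have h4 : (f ∣_ U) ⟨y, hyU⟩ = genericPoint ↥U.toScheme := by
      apply U.ι.isOpenEmbedding.injective
      rw [h2, ← Scheme.Hom.comp_apply, morphismRestrict_ι, Scheme.Hom.comp_apply]
      exact hy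
    rw [← h3] at h4
    have h5 := (f ∣_ U).homeomorph.injective h4
    rw [← h1, ← h5]
    rfl
  · rintro rfl
    exact hfη

section
variable (X : Scheme.{u}) [IsIntegral X] [QuasiCompact (X.fromSpecStalk (genericPoint X))]
  [QuasiSeparated (X.fromSpecStalk (genericPoint X))]

theorem denseOpen_of_iso (V : X.Opens) (hVne : (V : Set X).Nonempty)
    (hX : ∀ x ∈ V, IsIntegrallyClosed (X.presheaf.stalk x)) {Y : Scheme.{u}}
    (e : Y ≅ (X.fromSpecStalk (genericPoint X)).normalization) :
    ∃ U : X.Opens, Dense (U : Set X) ∧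
      Dense (((e.hom ≫ (X.fromSpecStalk (genericPoint X)).fromNormalization) ⁻¹ᵁ U : Y.Opens) : Set Y) ∧
      IsIso ((e.hom ≫ (X.fromSpecStalk (genericPoint X)).fromNormalization) ∣_ U) := by
  obtain ⟨hY, hint, hirr, hfib, hst⟩ := birational_of_iso X e
  refine ⟨V, V.isOpen.dense hVne, ?_, ?_⟩
  · refine ((e.hom ≫ (X.fromSpecStalk (genericPoint X)).fromNormalization) ⁻¹ᵁ V).isOpen.dense
      ⟨genericPoint Y, ?_⟩
    have h1 : genericPoint Y ∈
        (e.hom ≫ (X.fromSpecStalk (genericPoint X)).fromNormalization).base ⁻¹' {genericPoint X} := by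
      rw [hfib]; rfl
    have h2 : (e.hom ≫ (X.fromSpecStalk (genericPoint X)).fromNormalization) (genericPoint Y) =
        genericPoint X := h1
    show (e.hom ≫ (X.fromSpecStalk (genericPoint X)).fromNormalization) (genericPoint Y) ∈ V
    rw [h2]
    obtain ⟨x, hx⟩ := hVne
    exact (genericPoint_specializes x).mem_open V.isOpen hx
  · rw [morphismRestrict_comp]
    have h1 := isIso_morphismRestrict_fromNormalization X V hX
    have h2 : IsIso (e.hom ∣_ (X.fromSpecStalk (genericPoint X)).fromNormalization ⁻¹ᵁ V) :=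
      inferInstance
    exact @IsIso.comp_isIso _ _ _ _ _ _ _ h2 h1

end

end Groth.Agent.Lib.Helper20.NormChar
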