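import Groth.Agent.Lib.Helper20.NormNormal

/-!
# Relative normalization in a normal scheme with locally finitely many irreducible components

Pieces for S9673: irreducible components of such a scheme are open and closed, and the
normalization splits accordingly (via Mathlib's `normalizationCoprodIso`).
-/

set_option autoImplicit false
universe u
open CategoryTheory CategoryTheory.Limits AlgebraicGeometry TopologicalSpace

namespace Groth.Agent.Lib.Helper20.NormComp

/-- a point of a scheme whose local ring is a domain lies on a unique irreducible component. -/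
theorem eq_of_mem_of_isDomain_stalk {Y : Scheme.{u}} (y : Y) [IsDomain (Y.presheaf.stalk y)]
    {Z₁ Z₂ : Set Y} (h₁ : Z₁ ∈ irreducibleComponents Y) (h₂ : Z₂ ∈ irreducibleComponents Y)
    (hy₁ : y ∈ Z₁) (hy₂ : y ∈ Z₂) : Z₁ = Z₂ := by
  set η₀ : Y := Y.fromSpecStalk y ⟨⊥, Ideal.isPrime_bot⟩ with hη₀
  have key : ∀ Z ∈ irreducibleComponents Y, y ∈ Z → Z = closure {η₀} := by
    intro Z hZ hyZ
    have hZirr : IsIrreducible Z := hZ.1
    have hZcl : IsClosed Z := isClosed_of_mem_irreducibleComponents Z hZ
    obtain ⟨η, hη⟩ := QuasiSober.sober hZirr hZcl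
    have hηy : η ⤳ y := by
      rw [specializes_iff_mem_closure, hη.def]; exact hyZ
    obtain ⟨p, hp⟩ : η ∈ Set.range (Y.fromSpecStalk y) := by
      rw [Scheme.range_fromSpecStalk]; exact hηy
    have h0p : (⟨⊥, Ideal.isPrime_bot⟩ : PrimeSpectrum (Y.presheaf.stalk y)) ⤳ p :=
      (PrimeSpectrum.le_iff_specializes _ _).mp bot_le
    have h1 : η₀ ⤳ η := hp ▸ h0p.map (Y.fromSpecStalk y).continuous
    have hsub : Z ⊆ closure {η₀} := by
      rw [← hη.def]
      exact closure_minimal (Set.singleton_subset_iff.mpr h1.mem_closure) isClosed_closure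
    exact hZ.eq_of_subset isIrreducible_singleton.closure hsub
  rw [key Z₁ h₁ hy₁, key Z₂ h₂ hy₂]

/-- in a scheme with domain stalks and locally finitely many irreducible components, the
irreducible components are open. -/
theorem isOpen_of_mem_irreducibleComponents {Y : Scheme.{u}}
    (hY : ∀ y : Y, IsDomain (Y.presheaf.stalk y))
    (hfin : LocallyFinite (fun Z : ↥(irreducibleComponents ↥Y) => (Z : Set ↥Y))) {Z : Set Y}
    (hZ : Z ∈ irreducibleComponents Y) : IsOpen Z := by
  have hcl : IsClosed (⋃ T : {T : irreducibleComponents Y // T.1 ≠ Z}, (T.1 : Set Y)) := by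
    apply LocallyFinite.isClosed_iUnion (hfin.comp_injective Subtype.val_injective)
    intro T
    exact isClosed_of_mem_irreducibleComponents _ T.1.2
  have heq : Z = (⋃ T : {T : irreducibleComponents Y // T.1 ≠ Z}, (T.1 : Set Y))ᶜ := by
    ext y
    simp only [Set.mem_compl_iff, Set.mem_iUnion, not_exists]
    constructor
    · intro hy T hyT
      haveI := hY y
      exact T.2 (eq_of_mem_of_isDomain_stalk y T.1.2 hZ hyT hy)
    · intro h
      by_contra hyZ
      have := h ⟨⟨irreducibleComponent y, irreducibleComponent_mem_irreducibleComponents y⟩,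
        fun e => hyZ (e ▸ mem_irreducibleComponent)⟩
      exact this mem_irreducibleComponent
  rw [heq]
  exact hcl.isOpen_compl

theorem quasiCompact_ι_of_isClosed {Y : Scheme.{u}} (Z : Y.Opens) (h : IsClosed (Z : Set Y)) :
    QuasiCompact Z.ι := by
  haveI : IsClosedImmersion Z.ι := .of_isPreimmersion _ (by simpa using h)
  infer_instance

section Split
variable {X Y : Scheme.{u}} (f : Y ⟶ X) [QuasiCompact f] [QuasiSeparated f]

/-- the canonical map from the normalization in an open-closed piece to the normalization. -/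
noncomputable def compMap (Z : Y.Opens) [QuasiCompact Z.ι] :
    (Z.ι ≫ f).normalization ⟶ f.normalization :=
  (Z.ι ≫ f).normalizationDesc (Z.ι ≫ f.toNormalization) f.fromNormalization (by simp)

lemma toNormalization_compMap (Z : Y.Opens) [QuasiCompact Z.ι] :
    (Z.ι ≫ f).toNormalization ≫ compMap f Z = Z.ι ≫ f.toNormalization :=
  (Z.ι ≫ f).toNormalization_normalizationDesc _ _ _

lemma compMap_fromNormalization (Z : Y.Opens) [QuasiCompact Z.ι] :
    compMap f Z ≫ f.fromNormalization = (Z.ι ≫ f).fromNormalization :=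
  (Z.ι ≫ f).normalizationDesc_comp _ _ _

theorem isOpenImmersion_compMap (Z Z' : Y.Opens) (h : IsCompl Z Z') [QuasiCompact Z.ι]
    [QuasiCompact Z'.ι] :
    IsOpenImmersion (compMap f Z) ∧
      Set.range (compMap f Z) = (Set.range (compMap f Z'))ᶜ := by
  obtain ⟨H⟩ := nonempty_isColimit_binaryCofanMk_of_isCompl Z.ι Z'.ι (by simpa using h)
  let e := Scheme.Hom.normalizationCoprodIso f H
  have h1 : compMap f Z = coprod.inl ≫ e.hom := by
    simp only [e, Scheme.Hom.normalizationCoprodIso, compMap]
    exact (coprod.inl_desc _ _).symm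
  have h2 : compMap f Z' = coprod.inr ≫ e.hom := by
    simp only [e, Scheme.Hom.normalizationCoprodIso, compMap]
    exact (coprod.inr_desc _ _).symm
  refine ⟨by rw [h1]; infer_instance, ?_⟩
  rw [h1, h2]
  have hc := isCompl_range_inl_inr (Z.ι ≫ f).normalization (Z'.ι ≫ f).normalization
  have h3 : ∀ {A : Scheme.{u}} (g : A ⟶ _), Set.range (g ≫ e.hom) = e.hom '' Set.range g := by
    intro A g
    rw [Scheme.Hom.comp_base, TopCat.coe_comp, Set.range_comp]
  have hb : Function.Bijective ⇑e.hom := e.hom.homeomorph.bijective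
  rw [h3, h3, ← hc.compl_eq, Set.image_compl_eq hb, compl_compl]

end Split

/-- an irreducible open subset of a scheme with domain stalks is an integral open subscheme. -/
theorem isIntegral_of_isIrreducible {Y : Scheme.{u}} (hY : ∀ y : Y, IsDomain (Y.presheaf.stalk y))
    (Z : Y.Opens) (hZ : IsIrreducible (Z : Set Y)) : IsIntegral Z.toScheme := by
  haveI : ∀ y : Y, _root_.IsReduced (Y.presheaf.stalk y) := fun y => by
    haveI := hY y; infer_instance
  haveI : IsReduced Y := isReduced_of_isReduced_stalk Y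
  haveI : IrreducibleSpace ↥Z.toScheme := Subtype.irreducibleSpace hZ
  exact isIntegral_of_irreducibleSpace_of_isReduced _

/-- stalks of an open subscheme of a normal scheme are integrally closed. -/
theorem isIntegrallyClosed_stalk_opens {Y : Scheme.{u}}
    (hY : ∀ y : Y, IsIntegrallyClosed (Y.presheaf.stalk y)) (Z : Y.Opens) (z : Z.toScheme) :
    IsIntegrallyClosed (Z.toScheme.presheaf.stalk z) := by
  haveI := hY (Z.ι z)
  exact IsIntegrallyClosed.of_equiv (asIso (Z.ι.stalkMap z)).commRingCatIsoToRingEquiv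


/-- the piece of the normalization corresponding to one irreducible component. -/
theorem exists_component_piece {X Y : Scheme.{u}} (f : Y ⟶ X) [QuasiCompact f] [QuasiSeparated f]
    (hY : Pi1.IsNormalScheme Y)
    (hfin : LocallyFinite (fun Z : ↥(irreducibleComponents ↥Y) => (Z : Set ↥Y)))
    (Z : Set Y) (hZ : Z ∈ irreducibleComponents Y) :
    ∃ R : Set f.normalization, IsOpen R ∧ IsClosed R ∧ IsIrreducible R ∧
      (∀ y ∈ Z, f.toNormalization y ∈ R) ∧ (∀ y, y ∉ Z → f.toNormalization y ∉ R) ∧
      R ⊆ closure (f.toNormalization '' Z) ∧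
      (∀ x' ∈ R, IsDomain (f.normalization.presheaf.stalk x') ∧
        IsIntegrallyClosed (f.normalization.presheaf.stalk x')) := by
  have hZo : IsOpen Z := isOpen_of_mem_irreducibleComponents (fun y => (hY y).1) hfin hZ
  have hZc : IsClosed Z := isClosed_of_mem_irreducibleComponents Z hZ
  let ZO : Y.Opens := ⟨Z, hZo⟩
  let ZO' : Y.Opens := ⟨Zᶜ, hZc.isOpen_compl⟩
  have hcompl : IsCompl ZO ZO' := by
    constructor
    · rw [disjoint_iff]; ext y; simp [ZO, ZO']
    · rw [codisjoint_iff]; ext y; simp [ZO, ZO']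
  haveI : QuasiCompact ZO.ι := quasiCompact_ι_of_isClosed ZO hZc
  haveI : QuasiCompact ZO'.ι := quasiCompact_ι_of_isClosed ZO' (by simpa [ZO'] using hZo.isClosed_compl)
  obtain ⟨hoi, hrange⟩ := isOpenImmersion_compMap f ZO ZO' hcompl
  obtain ⟨hoi', hrange'⟩ := isOpenImmersion_compMap f ZO' ZO hcompl.symm
  haveI : IsIntegral ZO.toScheme := isIntegral_of_isIrreducible (fun y => (hY y).1) ZO hZ.1
  have hNZ : ∀ z : ZO.toScheme, IsIntegrallyClosed (ZO.toScheme.presheaf.stalk z) :=
    isIntegrallyClosed_stalk_opens (fun y => (hY y).2) ZO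
  refine ⟨Set.range (compMap f ZO), (compMap f ZO).isOpenEmbedding.isOpen_range, ?_, ?_, ?_, ?_,
    ?_, ?_⟩
  · rw [hrange]
    exact (compMap f ZO').isOpenEmbedding.isOpen_range.isClosed_compl
  · rw [← Set.image_univ]
    exact (IrreducibleSpace.isIrreducible_univ _).image _ (compMap f ZO).continuous.continuousOn
  · intro y hy
    have := congr($(toNormalization_compMap f ZO) ⟨y, hy⟩)
    exact ⟨_, this⟩
  · intro y hy
    have := congr($(toNormalization_compMap f ZO') ⟨y, hy⟩)
    rw [hrange]
    exact fun h => h ⟨_, this⟩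
  · rintro _ ⟨n, rfl⟩
    have hn : n ∈ closure (Set.range (ZO.ι ≫ f).toNormalization) := by
      rw [(ZO.ι ≫ f).toNormalization.denseRange.closure_range]; trivial
    have h1 := image_closure_subset_closure_image (compMap f ZO).continuous ⟨n, hn, rfl⟩
    refine closure_mono ?_ h1
    rintro _ ⟨_, ⟨z, rfl⟩, rfl⟩
    have := congr($(toNormalization_compMap f ZO) z)
    exact ⟨z.1, z.2, this.symm⟩
  · rintro _ ⟨n, rfl⟩
    haveI : IsIntegrallyClosed ((ZO.ι ≫ f).normalization.presheaf.stalk n) :=
      Groth.Agent.Lib.Helper20.NormNormal.isIntegrallyClosed_stalk_normalization hNZ (ZO.ι ≫ f) n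
    let e := (asIso ((compMap f ZO).stalkMap n)).commRingCatIsoToRingEquiv
    exact ⟨e.toMulEquiv.isDomain _, IsIntegrallyClosed.of_equiv e.symm⟩

end Groth.Agent.Lib.Helper20.NormComp
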