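import Groth.Agent.Lib.Helper20.NormComp
import Groth.Agent.Lib.Helper58.SchemeIdem

/-!
# Descent of normality along `O_Y ≅ f_* O_X`

If `f : X ⟶ Y` is a closed map with `Γ(Y, V) ≅ Γ(X, f⁻¹V)` for all opens `V`, and `X` is normal
with locally finitely many irreducible components, then `Y` is normal.
-/

set_option autoImplicit false
universe u
open CategoryTheory CategoryTheory.Limits AlgebraicGeometry TopologicalSpace

namespace Groth.Agent.Lib.Helper20.NormComp

/-- If `f : X ⟶ Y` induces bijections `Γ(Y, V) ≅ Γ(X, f⁻¹V)` for all opens `V` and `X` is normal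
with locally finitely many irreducible components, then `Y` is normal at every point of the
image of `f`. -/
theorem isNormal_stalk_of_app_bijective {X Y : Scheme.{u}} (f : X ⟶ Y)
    (hX : Pi1.IsNormalScheme X)
    (hfin : LocallyFinite (fun Z : ↥(irreducibleComponents ↥X) => (Z : Set ↥X)))
    (hfib : ∀ V : Y.Opens, Function.Bijective (f.app V).hom) (x : X) :
    IsDomain (Y.presheaf.stalk (f x)) ∧ IsIntegrallyClosed (Y.presheaf.stalk (f x)) := by
  have hZ := irreducibleComponent_mem_irreducibleComponents x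
  have hZo : IsOpen (irreducibleComponent x) :=
    isOpen_of_mem_irreducibleComponents (fun y => (hX y).1) hfin hZ
  have hZc : IsClosed (irreducibleComponent x) := isClosed_of_mem_irreducibleComponents _ hZ
  obtain ⟨e, -, hDe⟩ := Groth.Agent.Lib.Helper58.SchemeIdem.exists_idem_basicOpen_eq
    (irreducibleComponent x) ⟨hZc, hZo⟩
  obtain ⟨e', he'⟩ := (hfib ⊤).2 e
  have hpre : f ⁻¹ᵁ Y.basicOpen e' = X.basicOpen e := by
    rw [Scheme.preimage_basicOpen]
    congr 1
  have hyV₀ : f x ∈ Y.basicOpen e' := by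
    have : x ∈ f ⁻¹ᵁ Y.basicOpen e' := by
      rw [hpre]
      show x ∈ (X.basicOpen e : Set X)
      rw [hDe]
      exact mem_irreducibleComponent
    exact this
  obtain ⟨_, ⟨V, hV, rfl⟩, hyV, hVV₀⟩ := Y.isBasis_affineOpens.exists_subset_of_mem_open
    hyV₀ (Y.basicOpen e').2
  let ZO : X.Opens := ⟨irreducibleComponent x, hZo⟩
  have hWZ : f ⁻¹ᵁ V ≤ ZO := by
    intro w hw
    have : w ∈ f ⁻¹ᵁ Y.basicOpen e' := hVV₀ hw
    rw [hpre] at this
    have h2 : w ∈ (X.basicOpen e : Set X) := this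
    rwa [hDe] at h2
  haveI : IsIntegral ZO.toScheme := isIntegral_of_isIrreducible (fun y => (hX y).1) ZO hZ.1
  have hNZ : ∀ z : ZO.toScheme, IsIntegrallyClosed (ZO.toScheme.presheaf.stalk z) :=
    isIntegrallyClosed_stalk_opens (fun y => (hX y).2) ZO
  have hx : x ∈ f ⁻¹ᵁ V := hyV
  let W' : ZO.toScheme.Opens := ZO.ι ⁻¹ᵁ (f ⁻¹ᵁ V)
  haveI : Nonempty (W' : ZO.toScheme.Opens) := ⟨⟨⟨x, mem_irreducibleComponent⟩, hx⟩⟩
  haveI hic : IsIntegrallyClosed Γ(ZO.toScheme, W') :=
    Groth.Agent.Lib.Helper20.NormNormal.isIntegrallyClosed_sections hNZ W'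
  haveI hdom : IsDomain Γ(ZO.toScheme, W') := inferInstance
  haveI : IsIso (ZO.ι.app (f ⁻¹ᵁ V)) := Scheme.Hom.isIso_app ZO.ι _ (by simpa using hWZ)
  let e1 : Γ(Y, V) ≃+* Γ(X, f ⁻¹ᵁ V) := RingEquiv.ofBijective (f.app V).hom (hfib V)
  let e2 : Γ(X, f ⁻¹ᵁ V) ≃+* Γ(ZO.toScheme, W') :=
    (asIso (ZO.ι.app (f ⁻¹ᵁ V))).commRingCatIsoToRingEquiv
  let e3 := e1.trans e2
  haveI : IsDomain Γ(Y, V) := e3.toMulEquiv.isDomain _
  haveI : IsIntegrallyClosed Γ(Y, V) := IsIntegrallyClosed.of_equiv e3.symm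
  letI := TopCat.Presheaf.algebra_section_stalk Y.presheaf (⟨f x, hyV⟩ : V)
  haveI := hV.isLocalization_stalk ⟨f x, hyV⟩
  exact ⟨IsLocalization.isDomain_of_le_nonZeroDivisors (Y.presheaf.stalk (f x))
      (M := (hV.primeIdealOf ⟨f x, hyV⟩).asIdeal.primeCompl)
      (Ideal.primeCompl_le_nonZeroDivisors _),
    isIntegrallyClosed_of_isLocalization (Y.presheaf.stalk (f x))
      (hV.primeIdealOf ⟨f x, hyV⟩).asIdeal.primeCompl (Ideal.primeCompl_le_nonZeroDivisors _)⟩

/-- If `f : X ⟶ Y` is a closed map inducing bijections `Γ(Y, V) ≅ Γ(X, f⁻¹V)` for all opens `V`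
and `X` is normal with locally finitely many irreducible components, then `Y` is normal. -/
theorem isNormalScheme_of_app_bijective {X Y : Scheme.{u}} (f : X ⟶ Y)
    (hX : Pi1.IsNormalScheme X)
    (hfin : LocallyFinite (fun Z : ↥(irreducibleComponents ↥X) => (Z : Set ↥X)))
    (hfib : ∀ V : Y.Opens, Function.Bijective (f.app V).hom) (hcl : IsClosedMap f) :
    Pi1.IsNormalScheme Y := by
  intro y
  by_cases hy : y ∈ Set.range f
  · obtain ⟨x, rfl⟩ := hy
    exact isNormal_stalk_of_app_bijective f hX hfin hfib x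
  · exfalso
    have hrc : IsClosed (Set.range f) := by
      rw [← Set.image_univ]; exact hcl _ isClosed_univ
    let V : Y.Opens := ⟨(Set.range f)ᶜ, hrc.isOpen_compl⟩
    have hpre : f ⁻¹ᵁ V = ⊥ := by
      ext w
      simp only [TopologicalSpace.Opens.coe_bot, Set.mem_empty_iff_false, iff_false]
      exact fun hw => hw ⟨w, rfl⟩
    haveI : Subsingleton Γ(X, f ⁻¹ᵁ V) := by rw [hpre]; infer_instance
    have h01 : (0 : Γ(Y, V)) = 1 := (hfib V).1 (Subsingleton.elim _ _)
    have := congrArg (Y.presheaf.germ V y hy).hom h01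
    rw [map_zero, map_one] at this
    exact zero_ne_one this

theorem locallyFinite_irreducibleComponents_of_noetherianSpace (α : Type*) [TopologicalSpace α]
    [NoetherianSpace α] :
    LocallyFinite (fun Z : ↥(irreducibleComponents α) => (Z : Set α)) := by
  haveI : Finite ↥(irreducibleComponents α) :=
    NoetherianSpace.finite_irreducibleComponents.to_subtype
  exact locallyFinite_of_finite _

end Groth.Agent.Lib.Helper20.NormComp
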