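import Mathlib
import Groth.Prelude.Def_Pi1

/-!
# The relative normalization in a normal integral scheme is normal

* `exists_germToFunctionField_eq`: an element of the function field of an integral scheme lying in
  all the local rings at points of a nonempty open `V` is a section over `V`.
* `isIntegrallyClosed_sections`: sections of a normal integral scheme over any nonempty open
  (not necessarily affine) form an integrally closed domain.
* `isIntegrallyClosed_stalk_normalization`, `isNormalScheme_normalization`: for `f : X ⟶ Y` qcqs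
  with `X` integral and normal, `f.normalization` is normal.
-/

set_option autoImplicit false
universe u
open CategoryTheory AlgebraicGeometry TopologicalSpace

namespace Groth.Agent.Lib.Helper20.NormNormal

/-- (G) An element of the function field of an integral scheme which lies in the local ring of
every point of a nonempty open `V` is (the germ of) a section over `V`. -/
theorem exists_germToFunctionField_eq {X : Scheme.{u}} [IsIntegral X] (V : X.Opens) [Nonempty V]
    (t : X.functionField)
    (h : ∀ x ∈ V, t ∈ Set.range (algebraMap (X.presheaf.stalk x) X.functionField)) :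
    ∃ s : Γ(X, V), X.germToFunctionField V s = t := by
  have h1 : ∀ x : V, ∃ (W : X.Opens) (_ : x.1 ∈ W) (_ : W ≤ V) (s : Γ(X, W))
      (hη : genericPoint X ∈ W), X.presheaf.germ W (genericPoint X) hη s = t := by
    intro x
    obtain ⟨tx, htx⟩ := h x.1 x.2
    obtain ⟨W, hxW, s, hs⟩ := X.presheaf.exists_germ_eq (x := x.1) tx
    have hxW' : x.1 ∈ W ⊓ V := ⟨hxW, x.2⟩
    have hη : genericPoint X ∈ W ⊓ V :=
      ((genericPoint_spec X).mem_open_set_iff (W ⊓ V).isOpen).mpr ⟨x.1, trivial, hxW'⟩
    refine ⟨W ⊓ V, hxW', inf_le_right, X.presheaf.map (homOfLE inf_le_left).op s, hη, ?_⟩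
    rw [X.presheaf.germ_res_apply (homOfLE inf_le_left) (genericPoint X) hη s]
    haveI : Nonempty W := ⟨⟨x.1, hxW⟩⟩
    have := Scheme.algebraMap_germ_eq_germToFunctionField (X := X) hxW s
    rw [hs, htx] at this
    exact this.symm
  choose W hxW hWV s hη hs using h1
  have hcover : V ≤ ⨆ x, W x := fun y hy => Opens.mem_iSup.mpr ⟨⟨y, hy⟩, hxW ⟨y, hy⟩⟩
  have hcompat : TopCat.Presheaf.IsCompatible X.presheaf W s := by
    intro x y
    have hη' : genericPoint X ∈ W x ⊓ W y := ⟨hη x, hη y⟩
    apply germ_injective_of_isIntegral X (genericPoint X) hη'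
    rw [X.presheaf.germ_res_apply, X.presheaf.germ_res_apply, hs, hs]
  obtain ⟨g, hg, -⟩ := X.sheaf.existsUnique_gluing' W V (fun x => homOfLE (hWV x)) hcover s hcompat
  refine ⟨g, ?_⟩
  obtain ⟨x⟩ := ‹Nonempty V›
  have h2 := hg x
  rw [← hs x, ← h2]
  exact (X.presheaf.germ_res_apply (homOfLE (hWV x)) (genericPoint X) (hη x) g).symm

/-- sections of a normal integral scheme over a nonempty open are integrally closed in the
function field. -/
theorem isIntegrallyClosedIn_sections {X : Scheme.{u}} [IsIntegral X]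
    (hN : ∀ x : X, IsIntegrallyClosed (X.presheaf.stalk x)) (V : X.Opens) [Nonempty V] :
    IsIntegrallyClosedIn Γ(X, V) X.functionField := by
  rw [isIntegrallyClosedIn_iff]
  refine ⟨X.germToFunctionField_injective V, ?_⟩
  intro t ht
  refine exists_germToFunctionField_eq V t ?_
  intro x hx
  haveI := hN x
  letI := TopCat.Presheaf.algebra_section_stalk X.presheaf (⟨x, hx⟩ : V)
  haveI : IsScalarTower Γ(X, V) (X.presheaf.stalk x) X.functionField :=
    functionField_isScalarTower X V ⟨x, hx⟩
  have ht' : IsIntegral (X.presheaf.stalk x) t := ht.tower_top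
  exact IsIntegrallyClosed.algebraMap_eq_of_integral ht'

/-- sections of a normal integral scheme over a nonempty open form an integrally closed domain. -/
theorem isIntegrallyClosed_sections {X : Scheme.{u}} [IsIntegral X]
    (hN : ∀ x : X, IsIntegrallyClosed (X.presheaf.stalk x)) (V : X.Opens) [Nonempty V] :
    IsIntegrallyClosed Γ(X, V) := by
  haveI := isIntegrallyClosedIn_sections hN V
  haveI : FaithfulSMul Γ(X, V) X.functionField :=
    (faithfulSMul_iff_algebraMap_injective _ _).mpr (X.germToFunctionField_injective V)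
  exact IsIntegrallyClosed.of_isIntegrallyClosedIn Γ(X, V) X.functionField

/-- (N) the relative normalization of `Y` in a normal integral scheme `X` is normal. -/
theorem isIntegrallyClosed_stalk_normalization {X Y : Scheme.{u}} [IsIntegral X]
    (hN : ∀ x : X, IsIntegrallyClosed (X.presheaf.stalk x)) (f : X ⟶ Y) [QuasiCompact f]
    [QuasiSeparated f] (z : f.normalization) :
    IsIntegrallyClosed (f.normalization.presheaf.stalk z) := by
  obtain ⟨_, ⟨U, hU, rfl⟩, hzU, -⟩ := Y.isBasis_affineOpens.exists_subset_of_mem_open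
    (Set.mem_univ (f.fromNormalization z)) isOpen_univ
  have hW : IsAffineOpen (f.fromNormalization ⁻¹ᵁ U) := hU.preimage f.fromNormalization
  have hz : z ∈ f.fromNormalization ⁻¹ᵁ U := hzU
  obtain ⟨x, hxW⟩ := f.toNormalization.denseRange.exists_mem_open
    (f.fromNormalization ⁻¹ᵁ U).2 ⟨z, hz⟩
  have hxU : x ∈ f ⁻¹ᵁ U := by
    have : (f.toNormalization ≫ f.fromNormalization) x ∈ U := hxW
    rwa [f.toNormalization_fromNormalization] at this
  haveI : IsDomain Γ(X, f ⁻¹ᵁ U) := @IsIntegral.component_integral X _ (f ⁻¹ᵁ U) ⟨⟨x, hxU⟩⟩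
  haveI : IsIntegrallyClosed Γ(X, f ⁻¹ᵁ U) :=
    @isIntegrallyClosed_sections X _ hN (f ⁻¹ᵁ U) ⟨⟨x, hxU⟩⟩
  letI := (f.app U).hom.toAlgebra
  haveI : IsIntegrallyClosed (integralClosure Γ(Y, U) Γ(X, f ⁻¹ᵁ U)) :=
    IsIntegrallyClosed.of_isIntegrallyClosed_of_isIntegrallyClosedIn
      (R := integralClosure Γ(Y, U) Γ(X, f ⁻¹ᵁ U)) (S := Γ(X, f ⁻¹ᵁ U))
  haveI : IsIntegrallyClosed Γ(f.normalization, f.fromNormalization ⁻¹ᵁ U) :=
    IsIntegrallyClosed.of_equiv (f.normalizationObjIso hU).commRingCatIsoToRingEquiv.symm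
  haveI : IsDomain Γ(f.normalization, f.fromNormalization ⁻¹ᵁ U) :=
    @IsIntegral.component_integral f.normalization _ (f.fromNormalization ⁻¹ᵁ U) ⟨⟨z, hz⟩⟩
  letI := TopCat.Presheaf.algebra_section_stalk f.normalization.presheaf
    (⟨z, hz⟩ : ↥(f.fromNormalization ⁻¹ᵁ U))
  haveI := hW.isLocalization_stalk ⟨z, hz⟩
  exact isIntegrallyClosed_of_isLocalization (f.normalization.presheaf.stalk z)
    (hW.primeIdealOf ⟨z, hz⟩).asIdeal.primeCompl (Ideal.primeCompl_le_nonZeroDivisors _)

/-- (N) the relative normalization of `Y` in a normal integral scheme `X` is normal. -/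
theorem isNormalScheme_normalization {X Y : Scheme.{u}} [IsIntegral X]
    (hN : ∀ x : X, IsIntegrallyClosed (X.presheaf.stalk x)) (f : X ⟶ Y) [QuasiCompact f]
    [QuasiSeparated f] : Pi1.IsNormalScheme f.normalization :=
  fun z => ⟨inferInstance, isIntegrallyClosed_stalk_normalization hN f z⟩

end Groth.Agent.Lib.Helper20.NormNormal
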