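import Groth.Agent.Lib.Helper20.NormNormal
import Groth.Agent.Lib.Helper20.NowhereDense5

/-!
# Birationality of the relative normalization in a normal integral scheme

For `f : X ⟶ Y` locally quasi-finite, locally of finite type, qcqs with `X` integral and normal,
`f.toNormalization` induces an isomorphism on function fields
(`isIso_stalkMap_toNormalization`).
-/

set_option autoImplicit false
universe u
open CategoryTheory AlgebraicGeometry TopologicalSpace

namespace Groth.Agent.Lib.Helper20.NormNormal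

/-- (*) the germ at the generic point of a section (over a small open) which is integral over the
base lies in the image of the function field of the relative normalization. -/
theorem germ_mem_range_stalkMap_toNormalization {X Y : Scheme.{u}} [IsIntegral X]
    (hN : ∀ x : X, IsIntegrallyClosed (X.presheaf.stalk x)) (f : X ⟶ Y) [QuasiCompact f]
    [QuasiSeparated f] {U : Y.Opens} (hU : IsAffineOpen U) {V₀ : X.Opens} (hle : V₀ ≤ f ⁻¹ᵁ U)
    (hηV₀ : genericPoint X ∈ V₀) (c : Γ(X, V₀)) (hc : (f.appLE U V₀ hle).hom.IsIntegralElem c) :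
    X.presheaf.germ V₀ (genericPoint X) hηV₀ c ∈
      Set.range (f.toNormalization.stalkMap (genericPoint X)).hom := by
  have hηV : genericPoint X ∈ f ⁻¹ᵁ U := hle hηV₀
  haveI : Nonempty (f ⁻¹ᵁ U : X.Opens) := ⟨⟨genericPoint X, hηV⟩⟩
  obtain ⟨p, hp, hpc⟩ := hc
  set t : X.functionField := X.presheaf.germ V₀ (genericPoint X) hηV₀ c with ht_def
  have hgerm : (X.presheaf.germ V₀ (genericPoint X) hηV₀).hom.comp (f.appLE U V₀ hle).hom =
      (X.germToFunctionField (f ⁻¹ᵁ U)).hom.comp (f.app U).hom := by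
    ext a
    simp only [RingHom.comp_apply, Scheme.Hom.appLE, CommRingCat.hom_comp]
    exact X.presheaf.germ_res_apply (homOfLE hle) (genericPoint X) hηV₀ _
  have h1 : Polynomial.eval₂ ((X.germToFunctionField (f ⁻¹ᵁ U)).hom.comp (f.app U).hom) t p = 0 := by
    rw [← hgerm, ht_def]
    have := Polynomial.hom_eval₂ p (f.appLE U V₀ hle).hom
      (X.presheaf.germ V₀ (genericPoint X) hηV₀).hom c
    rw [hpc, map_zero] at this
    exact this.symm
  have ht : IsIntegral Γ(X, f ⁻¹ᵁ U) t :=
    ⟨p.map (f.app U).hom, hp.map _, by rw [Polynomial.eval₂_map]; exact h1⟩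
  haveI := isIntegrallyClosedIn_sections hN (f ⁻¹ᵁ U)
  obtain ⟨b, hb⟩ := IsIntegrallyClosedIn.algebraMap_eq_of_integral ht
  letI := (f.app U).hom.toAlgebra
  have hbint : IsIntegral Γ(Y, U) b := by
    refine ⟨p, hp, ?_⟩
    apply X.germToFunctionField_injective (f ⁻¹ᵁ U)
    have := Polynomial.hom_eval₂ p (f.app U).hom (X.germToFunctionField (f ⁻¹ᵁ U)).hom b
    rw [map_zero]
    refine this.trans ?_
    rw [← h1]
    congr 1
  let b' : integralClosure Γ(Y, U) Γ(X, f ⁻¹ᵁ U) := ⟨b, hbint⟩
  let a' : Γ(f.normalization, f.fromNormalization ⁻¹ᵁ U) := (f.normalizationObjIso hU).inv b'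
  have hval := f.normalizationObjIso_hom_val hU
  have hle' : f ⁻¹ᵁ U ≤ f.toNormalization ⁻¹ᵁ (f.fromNormalization ⁻¹ᵁ U) := by
    simp [← Scheme.Hom.comp_preimage]
  have ha' : (f.toNormalization.appLE (f.fromNormalization ⁻¹ᵁ U) (f ⁻¹ᵁ U) hle').hom a' = b := by
    rw [← hval]
    simp [a', b']
  have hη' : f.toNormalization (genericPoint X) ∈ f.fromNormalization ⁻¹ᵁ U := hle' hηV
  refine ⟨f.normalization.presheaf.germ (f.fromNormalization ⁻¹ᵁ U) _ hη' a', ?_⟩
  have h2 := Scheme.Hom.germ_stalkMap_apply f.toNormalization (f.fromNormalization ⁻¹ᵁ U)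
    (genericPoint X) hη' a'
  refine h2.trans ?_
  rw [← hb, ← ha']
  exact (X.presheaf.germ_res_apply (homOfLE hle') (genericPoint X) hηV _).symm

/-- a dominant morphism of irreducible schemes maps the generic point to the generic point. -/
lemma apply_genericPoint_of_isDominant {X Y : Scheme.{u}} [IrreducibleSpace X] [IrreducibleSpace Y]
    (f : X ⟶ Y) [IsDominant f] : f (genericPoint X) = genericPoint Y := by
  refine ((genericPoint_spec Y).eq ?_).symm
  have h := (genericPoint_spec X).image f.continuous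
  rw [Set.image_univ, f.denseRange.closure_range] at h
  exact h

/-- the relative normalization in a normal integral scheme along a locally quasi-finite morphism
is birational. -/
theorem isIso_stalkMap_toNormalization {X Y : Scheme.{u}} [IsIntegral X]
    (hN : ∀ x : X, IsIntegrallyClosed (X.presheaf.stalk x)) (f : X ⟶ Y) [LocallyQuasiFinite f]
    [LocallyOfFiniteType f] [QuasiCompact f] [QuasiSeparated f] :
    IsIso (f.toNormalization.stalkMap (genericPoint X)) := by
  obtain ⟨_, ⟨U, hU, rfl⟩, hηU, -⟩ := Y.isBasis_affineOpens.exists_subset_of_mem_open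
    (Set.mem_univ (f (genericPoint X))) isOpen_univ
  obtain ⟨_, ⟨V₀, hV₀, rfl⟩, hηV₀, hle⟩ := X.isBasis_affineOpens.exists_subset_of_mem_open
    (show genericPoint X ∈ f ⁻¹ᵁ U from hηU) (f ⁻¹ᵁ U).2
  have hle : V₀ ≤ f ⁻¹ᵁ U := hle
  haveI : Nonempty (V₀ : X.Opens) := ⟨⟨genericPoint X, hηV₀⟩⟩
  haveI : IsDomain Γ(X, V₀) := inferInstance
  have hqf : (f.appLE U V₀ hle).hom.QuasiFinite :=
    HasRingHomProperty.appLE (P := @LocallyQuasiFinite) f inferInstance ⟨U, hU⟩ ⟨V₀, hV₀⟩ hle
  have hft : (f.appLE U V₀ hle).hom.FiniteType :=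
    HasRingHomProperty.appLE (P := @LocallyOfFiniteType) f inferInstance ⟨U, hU⟩ ⟨V₀, hV₀⟩ hle
  algebraize [(f.appLE U V₀ hle).hom]
  haveI : (⊥ : Ideal Γ(X, V₀)).IsPrime := Ideal.isPrime_bot
  obtain ⟨S', hfg, r, hr0, hbij⟩ :=
    Algebra.QuasiFiniteAt.exists_fg_and_exists_notMem_and_awayMap_bijective (R := Γ(Y, U))
      (⊥ : Ideal Γ(X, V₀))
  have hS'int : ∀ c ∈ S', (f.appLE U V₀ hle).hom.IsIntegralElem c :=
    fun c hc => IsIntegral.of_mem_of_fg S' hfg c hc
  have hstar := Groth.Agent.Lib.Helper20.NowhereDense.pow_mul_mem_of_awayMap_surjective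
    S'.val.toRingHom r hbij.2
  have hmem : ∀ c ∈ S', X.presheaf.germ V₀ (genericPoint X) hηV₀ c ∈
      Set.range (f.toNormalization.stalkMap (genericPoint X)).hom :=
    fun c hc => germ_mem_range_stalkMap_toNormalization hN f hU hle hηV₀ c (hS'int c hc)
  have hη' : f.toNormalization (genericPoint X) = genericPoint f.normalization :=
    apply_genericPoint_of_isDominant f.toNormalization
  have hK' : IsField (f.normalization.presheaf.stalk (f.toNormalization (genericPoint X))) := by
    rw [hη']
    exact Field.toIsField f.normalization.functionField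
  rw [ConcreteCategory.isIso_iff_bijective]
  letI := hK'.toField
  constructor
  · exact RingHom.injective (f.toNormalization.stalkMap (genericPoint X)).hom
  · intro t
    haveI := functionField_isFractionRing_of_isAffineOpen X V₀ hV₀
    obtain ⟨c₁, c₂, hc₂, rfl⟩ := IsFractionRing.div_surjective (A := Γ(X, V₀)) t
    obtain ⟨n, d₁, hd₁⟩ := hstar c₁
    obtain ⟨m, d₂, hd₂⟩ := hstar c₂
    obtain ⟨α, hα⟩ := hmem d₁ d₁.2
    obtain ⟨β, hβ⟩ := hmem d₂ d₂.2
    obtain ⟨ρ, hρ⟩ := hmem r r.2
    have hg : ∀ c : Γ(X, V₀), algebraMap Γ(X, V₀) X.functionField c =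
        X.presheaf.germ V₀ (genericPoint X) hηV₀ c := fun c => rfl
    have hinj : Function.Injective (algebraMap Γ(X, V₀) X.functionField) :=
      IsFractionRing.injective _ _
    have e1 : algebraMap Γ(X, V₀) X.functionField d₁.1 =
        algebraMap Γ(X, V₀) X.functionField r.1 ^ n * algebraMap Γ(X, V₀) X.functionField c₁ := by
      rw [← map_pow, ← map_mul]
      exact congrArg _ hd₁
    have e2 : algebraMap Γ(X, V₀) X.functionField d₂.1 =
        algebraMap Γ(X, V₀) X.functionField r.1 ^ m * algebraMap Γ(X, V₀) X.functionField c₂ := by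
      rw [← map_pow, ← map_mul]
      exact congrArg _ hd₂
    have hr' : algebraMap Γ(X, V₀) X.functionField r.1 ≠ 0 := by
      intro h0
      apply hr0
      rw [Ideal.mem_bot]
      exact hinj (h0.trans (map_zero _).symm)
    have hc₂' : algebraMap Γ(X, V₀) X.functionField c₂ ≠ 0 := by
      intro h0
      have := hinj (h0.trans (map_zero _).symm)
      exact (nonZeroDivisors.ne_zero hc₂) this
    refine ⟨(α * ρ ^ m) / (β * ρ ^ n), ?_⟩
    rw [map_div₀, map_mul, map_mul, map_pow, map_pow, hα, hβ, hρ, ← hg, ← hg, ← hg, e1, e2]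
    field_simp

end Groth.Agent.Lib.Helper20.NormNormal
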