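import Groth.Agent.Lib.Helper87.NormScheme
import Groth.Agent.Lib.Helper20.UnivHomeo

set_option autoImplicit false
set_option linter.unusedSectionVars false
universe u
namespace Groth.Agent.Lib.Helper20.PInsepNorm
open AlgebraicGeometry CategoryTheory Limits

/-- a ring map such that every element of the target has a `q^n`-th power in the range
(`q` prime and zero in the target, or `q = 1`) is universally injective on spectra -/
theorem universallyInjective_of_pow_mem_range {A' B : Type u} [CommRing A'] [CommRing B]
    (φ : A' →+* B) (q : ℕ) (hq : q = 1 ∨ (q.Prime ∧ (q : B) = 0))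
    (h : ∀ b : B, ∃ n : ℕ, b ^ q ^ n ∈ φ.range) :
    UniversallyInjective (Spec.map (CommRingCat.ofHom φ)) := by
  have h01 := (tfae_universallyInjective (Spec.map (CommRingCat.ofHom φ))).out 0 1
  rw [h01]
  intro Ω _ g₁ g₂ hg
  change g₁ ≫ Spec.map (CommRingCat.ofHom φ) = g₂ ≫ Spec.map (CommRingCat.ofHom φ) at hg
  obtain ⟨β₁, rfl⟩ : ∃ β, Spec.map β = g₁ := ⟨Spec.preimage g₁, Spec.map_preimage g₁⟩
  obtain ⟨β₂, rfl⟩ : ∃ β, Spec.map β = g₂ := ⟨Spec.preimage g₂, Spec.map_preimage g₂⟩
  rw [← Spec.map_comp, ← Spec.map_comp] at hg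
  have hβ := Spec.map_injective hg
  congr 1
  ext b
  obtain ⟨n, a, ha⟩ := h b
  have e : β₁.hom b ^ q ^ n = β₂.hom b ^ q ^ n := by
    rw [← map_pow, ← map_pow, ← ha]
    exact congrArg (fun γ => γ.hom a) hβ
  rcases hq with rfl | ⟨hp, h0⟩
  · simpa using e
  · have h0' : (q : Ω) = 0 := by
      have := congrArg β₁.hom h0
      simpa using this
    haveI : Fact q.Prime := ⟨hp⟩
    haveI : CharP Ω q := (CharP.charP_iff_prime_eq_zero hp).2 h0'
    exact iterateFrobenius_inj Ω q n e

theorem universallyInjective_integralClosure_of_pow_mem {A K L' : Type u} [CommRing A]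
    [IsDomain A] [Field K] [Algebra A K] [IsFractionRing A K] [CommRing L'] [Algebra A L']
    (ι : K →ₐ[A] L') (hι : Function.Injective ι) (q : ℕ) [hqK : ExpChar K q]
    (hpow : ∀ x : L', ∃ (n : ℕ) (k : K), ι k = x ^ q ^ n)
    (h : ∀ (p : Ideal A) [p.IsPrime], CAlg2.IsGeomUnibranch (Localization.AtPrime p)) :
    UniversallyInjective (Spec.map (CommRingCat.ofHom (algebraMap A (integralClosure A L')))) := by
  let φ : integralClosure A K →ₐ[A] integralClosure A L' := ι.mapIntegralClosure
  have hcomp : algebraMap A (integralClosure A L') =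
      φ.toRingHom.comp (algebraMap A (integralClosure A K)) := by
    ext a
    exact congrArg Subtype.val (φ.commutes a).symm
  have h1 : UniversallyInjective (Spec.map (CommRingCat.ofHom
      (algebraMap A (integralClosure A K)))) :=
    Groth.Agent.Lib.Helper87.NormScheme.universallyInjective_integralClosure h
  have hq : q = 1 ∨ (q.Prime ∧ (q : integralClosure A L') = 0) := by
    cases hqK with
    | zero => exact Or.inl rfl
    | prime hp =>
      refine Or.inr ⟨hp, ?_⟩
      apply Subtype.ext
      have : ι (q : K) = (q : L') := map_natCast ι q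
      rw [CharP.cast_eq_zero K q, map_zero] at this
      simpa using this.symm
  have h2 : UniversallyInjective (Spec.map (CommRingCat.ofHom φ.toRingHom)) := by
    apply universallyInjective_of_pow_mem_range φ.toRingHom q hq
    intro b
    obtain ⟨n, k, hk⟩ := hpow b.1
    have hkint : IsIntegral A k := by
      rw [← isIntegral_algHom_iff ι hι, hk]
      exact b.2.pow _
    refine ⟨n, ⟨k, hkint⟩, ?_⟩
    apply Subtype.ext
    change ι k = _
    rw [hk]
    simp
  rw [hcomp, CommRingCat.ofHom_comp, Spec.map_comp]
  exact MorphismProperty.comp_mem _ _ _ h2 h1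

end Groth.Agent.Lib.Helper20.PInsepNorm
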