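import Groth.Agent.Lib.Helper20.PInsepNorm

set_option autoImplicit false
set_option linter.unusedSectionVars false
universe u
namespace Groth.Agent.Lib.Helper20.PInsepNorm
open AlgebraicGeometry CategoryTheory Limits

section Scheme
variable (Y : Scheme.{u}) [IsIntegral Y] (L : Type u) [Field L] [Algebra Y.functionField L]

/-- the morphism `Spec L → Y` -/
noncomputable abbrev gL : Spec (CommRingCat.of L) ⟶ Y :=
  Spec.map (CommRingCat.ofHom (algebraMap Y.functionField L)) ≫ Y.fromSpecStalk (genericPoint Y)

theorem gL_preimage_eq_top (U : Y.Opens) [hne : Nonempty U] : (gL Y L) ⁻¹ᵁ U = ⊤ := by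
  have h := Groth.Agent.Lib.Helper87.NormScheme.preimage_eq_top Y U
  change (Spec.map _) ⁻¹ᵁ ((Y.fromSpecStalk (genericPoint Y)) ⁻¹ᵁ U) = ⊤
  rw [h]
  rfl

/-- the comparison map from `L` to the sections over the preimage -/
noncomputable def ψL (U : Y.Opens) :
    CommRingCat.of L ⟶ Γ(Spec (CommRingCat.of L), (gL Y L) ⁻¹ᵁ U) :=
  (Scheme.ΓSpecIso (CommRingCat.of L)).inv ≫
    (Spec (CommRingCat.of L)).presheaf.map (homOfLE le_top).op

instance isIso_ψL (U : Y.Opens) [Nonempty U] : IsIso (ψL Y L U) := by
  have h : IsIso ((Spec (CommRingCat.of L)).presheaf.map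
      (homOfLE (le_top : (gL Y L) ⁻¹ᵁ U ≤ ⊤)).op) := by
    have h2 : (homOfLE (le_top : (gL Y L) ⁻¹ᵁ U ≤ ⊤)) =
        eqToHom (gL_preimage_eq_top Y L U) := Subsingleton.elim _ _
    rw [h2]
    infer_instance
  unfold ψL
  infer_instance

theorem gL_app_eq (U : Y.Opens) [hne : Nonempty U] :
    (gL Y L).app U = Y.germToFunctionField U ≫
      CommRingCat.ofHom (algebraMap Y.functionField L) ≫ ψL Y L U := by
  rw [Scheme.Hom.comp_app, Groth.Agent.Lib.Helper87.NormScheme.app_eq Y U]
  unfold Groth.Agent.Lib.Helper87.NormScheme.ψ ψL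
  simp only [Category.assoc]
  congr 1
  rw [Scheme.Hom.naturality, ← Category.assoc, ← Category.assoc]
  congr 1
  exact (Scheme.ΓSpecIso_inv_naturality _).symm

theorem universallyInjective_app [IsPurelyInseparable Y.functionField L]
    (hY : ∀ y : Y, CAlg2.IsGeomUnibranch (Y.presheaf.stalk y)) (U : Y.affineOpens) :
    UniversallyInjective (Spec.map ((gL Y L).normalizationDiagramMap.app (.op U.1))) := by
  by_cases hne : Nonempty U.1
  · letI := ((gL Y L).app U.1).hom.toAlgebra
    haveI := functionField_isFractionRing_of_isAffineOpen Y U.1 U.2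
    haveI : IsDomain Γ(Y, U.1) := inferInstance
    let e0 : L ≃+* Γ(Spec (CommRingCat.of L), (gL Y L) ⁻¹ᵁ U.1) :=
      (asIso (ψL Y L U.1)).commRingCatIsoToRingEquiv
    haveI : Nontrivial Γ(Spec (CommRingCat.of L), (gL Y L) ⁻¹ᵁ U.1) := e0.injective.nontrivial
    let ι : Y.functionField →ₐ[Γ(Y, U.1)] Γ(Spec (CommRingCat.of L), (gL Y L) ⁻¹ᵁ U.1) :=
      { toRingHom := e0.toRingHom.comp (algebraMap Y.functionField L)
        commutes' := fun a => by
          have h := congrArg (fun g => g.hom a) (gL_app_eq Y L U.1)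
          exact h.symm }
    have hι : Function.Injective ι := ι.toRingHom.injective
    obtain ⟨q, hq⟩ := ExpChar.exists Y.functionField
    have hpow : ∀ x : Γ(Spec (CommRingCat.of L), (gL Y L) ⁻¹ᵁ U.1),
        ∃ (n : ℕ) (k : Y.functionField), ι k = x ^ q ^ n := by
      intro x
      obtain ⟨y, rfl⟩ := e0.surjective x
      obtain ⟨n, k, hk⟩ := IsPurelyInseparable.pow_mem Y.functionField q y
      refine ⟨n, k, ?_⟩
      change e0 (algebraMap Y.functionField L k) = _
      rw [hk, map_pow]
    exact universallyInjective_integralClosure_of_pow_mem ι hι q hpow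
      (fun p _ => Groth.Agent.Lib.Helper87.NormScheme.isGeomUnibranch_localization_of_stalk Y hY U.2 p)
  · letI := ((gL Y L).app U.1).hom.toAlgebra
    have hbot : U.1 = ⊥ := by
      rw [not_nonempty_iff] at hne
      ext z
      simp only [TopologicalSpace.Opens.coe_bot, Set.mem_empty_iff_false, iff_false]
      exact fun hz => hne.false ⟨z, hz⟩
    haveI : Subsingleton Γ(Y, U.1) := by
      rw [hbot]
      infer_instance
    haveI : Subsingleton (integralClosure Γ(Y, U.1)
        Γ(Spec (CommRingCat.of L), (gL Y L) ⁻¹ᵁ U.1)) := by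
      refine ⟨fun a b => ?_⟩
      have h1 : (1 : Γ(Y, U.1)) = 0 := Subsingleton.elim _ _
      have h2 : (1 : integralClosure Γ(Y, U.1)
        Γ(Spec (CommRingCat.of L), (gL Y L) ⁻¹ᵁ U.1)) = 0 := by
        rw [← map_one (algebraMap Γ(Y, U.1) _), h1, map_zero]
      rw [← mul_one a, ← mul_one b, h2, mul_zero, mul_zero]
    haveI : IsEmpty (Spec ((gL Y L).normalizationDiagram.obj (.op U.1))) := by
      show IsEmpty (PrimeSpectrum (integralClosure Γ(Y, U.1)
        Γ(Spec (CommRingCat.of L), (gL Y L) ⁻¹ᵁ U.1)))
      infer_instance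
    infer_instance

variable [QuasiCompact (gL Y L)] [QuasiSeparated (gL Y L)]

set_option backward.isDefEq.respectTransparency false in
theorem universallyInjective_fromNormalization [IsPurelyInseparable Y.functionField L]
    (hY : ∀ y : Y, CAlg2.IsGeomUnibranch (Y.presheaf.stalk y)) :
    UniversallyInjective (gL Y L).fromNormalization := by
  rw [IsZariskiLocalAtTarget.iff_of_iSup_eq_top (P := @UniversallyInjective) _
    (iSup_affineOpens_eq_top _)]
  intro U
  let e := IsOpenImmersion.isoOfRangeEq
      ((gL Y L).fromNormalization ⁻¹ᵁ U).ι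
      ((gL Y L).normalizationOpenCover.f U)
      (by simpa using congr($((gL Y L).fromNormalization_preimage U).1))
  rw [← MorphismProperty.cancel_left_of_respectsIso @UniversallyInjective e.inv,
    ← MorphismProperty.cancel_right_of_respectsIso @UniversallyInjective _ U.2.isoSpec.hom]
  convert! universallyInjective_app Y L hY U
  rw [← cancel_mono U.2.fromSpec]
  simp [IsAffineOpen.isoSpec_hom, e, Scheme.Hom.ι_fromNormalization]

theorem surjective_fromNormalization : Surjective (gL Y L).fromNormalization := by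
  refine ⟨fun x => ?_⟩
  have hcl : IsClosed (Set.range (gL Y L).fromNormalization) :=
    (gL Y L).fromNormalization.isClosedMap.isClosed_range
  have hη : genericPoint Y ∈ Set.range (gL Y L).fromNormalization := by
    obtain ⟨z⟩ : Nonempty (Spec (CommRingCat.of L)) := inferInstance
    refine ⟨(gL Y L).toNormalization z, ?_⟩
    rw [← Scheme.Hom.comp_apply, Scheme.Hom.toNormalization_fromNormalization,
      Scheme.Hom.comp_apply]
    have hz : (Spec.map (CommRingCat.ofHom (algebraMap Y.functionField L))) z =
        IsLocalRing.closedPoint (Y.presheaf.stalk (genericPoint Y)) :=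
      @Subsingleton.elim (PrimeSpectrum Y.functionField) inferInstance _ _
    rw [hz, Scheme.fromSpecStalk_closedPoint]
  have h2 : closure {genericPoint Y} ⊆ Set.range (gL Y L).fromNormalization :=
    hcl.closure_subset_iff.mpr (Set.singleton_subset_iff.mpr hη)
  apply h2
  rw [show closure {genericPoint Y} = Set.univ from genericPoint_spec Y]
  trivial

/-- S13836 -/
theorem isUnivHomeo_fromNormalization [IsPurelyInseparable Y.functionField L]
    (hY : ∀ y : Y, CAlg2.IsGeomUnibranch (Y.presheaf.stalk y)) :
    FlatMor.IsUnivHomeo (gL Y L).fromNormalization := by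
  rw [Groth.Agent.Lib.Helper20.UnivHomeo.isUnivHomeo_iff_scheme]
  exact ⟨inferInstance, universallyInjective_fromNormalization Y L hY,
    surjective_fromNormalization Y L⟩

end Scheme

end Groth.Agent.Lib.Helper20.PInsepNorm
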