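import Groth.Agent.Lib.Helper20.UnivHomeoExt
set_option autoImplicit false
universe u
namespace Groth.Agent.Lib.Helper20.UnivHomeo
open AlgebraicGeometry CategoryTheory Limits TensorProduct

section Perfect

variable {A B : Type u} [CommRing A] [CommRing B] [Algebra A B]

theorem eq_zero_of_isNilpotent_of_pow_injective {R : Type*} [CommRing R] (p : ℕ) (hp : 2 ≤ p)
    (hinj : Function.Injective fun s : R => s ^ p) {a : R} (ha : IsNilpotent a) : a = 0 := by
  obtain ⟨n, hn⟩ := ha
  induction n using Nat.strong_induction_on generalizing a with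
  | _ n ih =>
    by_cases h1 : n ≤ 1
    · interval_cases n
      · have : (1 : R) = 0 := by simpa using hn
        rw [← mul_one a, this, mul_zero]
      · simpa using hn
    · push Not at h1
      -- a ^ p has nilpotency index ≤ ⌈n / p⌉ < n
      have h2 : (a ^ p) ^ ((n + 1) / 2) = 0 := by
        rw [← pow_mul]
        apply pow_eq_zero_of_le _ hn
        calc n ≤ 2 * ((n + 1) / 2) := by omega
          _ ≤ p * ((n + 1) / 2) := Nat.mul_le_mul_right _ hp
      have h3 : a ^ p = 0 := ih ((n + 1) / 2) (by omega) h2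
      apply hinj
      simp only
      rw [h3, zero_pow (by omega)]

theorem bijective_of_uh_of_perfect (p : ℕ) (hp : p.Prime) (hA0 : (p : A) = 0)
    (hA : Function.Bijective fun s : A => s ^ p) (hB : Function.Bijective fun s : B => s ^ p)
    (hUH : UH A B) : Function.Bijective (algebraMap A B) := by
  have hmem : ∀ b : B, b ^ p ∈ (algebraMap A B).range → b ∈ (algebraMap A B).range := by
    rintro b ⟨a', ha'⟩
    obtain ⟨a, rfl⟩ := hA.2 a'
    refine ⟨a, hB.1 ?_⟩
    simp only
    rw [← ha', map_pow]
  constructor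
  · rw [injective_iff_map_eq_zero]
    intro a ha
    exact eq_zero_of_isNilpotent_of_pow_injective p hp.two_le hA.1 (hUH.ker_nil a ha)
  · by_contra hns
    rcases global_general hUH hns with ⟨b, h1, h2, h3⟩ | ⟨ℓ, b, hℓ, h1, h2, h3⟩
    · apply h1
      apply hmem
      rcases Nat.even_or_odd' p with ⟨k, hk | hk⟩
      · rw [hk, pow_mul]
        exact Subring.pow_mem _ h2 k
      · have hk1 : 1 ≤ k := by
          have := hp.two_le
          omega
        have : p = 2 * (k - 1) + 3 := by omega
        rw [this, pow_add, pow_mul]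
        exact Subring.mul_mem _ (Subring.pow_mem _ h2 _) h3
    · apply h1
      by_cases hℓp : ℓ = p
      · subst hℓp
        exact hmem b h3
      · have hcop : Nat.Coprime ℓ p := (Nat.coprime_primes hℓ hp).mpr hℓp
        have hunit : IsUnit ((ℓ : ℤ) : A) := by
          have := Int.isCoprime_iff_gcd_eq_one.mpr (show Int.gcd (ℓ : ℤ) (p : ℤ) = 1 from by
            simpa using hcop)
          obtain ⟨x, y, hxy⟩ := this
          have h := congrArg (fun z : ℤ => (z : A)) hxy
          simp only [Int.cast_add, Int.cast_mul, Int.cast_natCast, Int.cast_one, hA0, mul_zero,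
            add_zero] at h
          exact IsUnit.of_mul_eq_one _ (by rw [mul_comm]; simpa using h)
        obtain ⟨c, hc⟩ := hunit.exists_left_inv
        obtain ⟨a, ha⟩ := h2
        refine ⟨c * a, ?_⟩
        rw [map_mul, ha, ← mul_assoc]
        have : algebraMap A B c * (ℓ : B) = 1 := by
          have := congrArg (algebraMap A B) hc
          simpa using this
        rw [this, one_mul]

end Perfect

section SchemeLevel

instance : (FlatMor.IsUnivHomeo.{u}).IsStableUnderBaseChange := by
  unfold FlatMor.IsUnivHomeo; infer_instance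

instance : (FlatMor.IsUnivHomeo.{u}).RespectsIso := by
  unfold FlatMor.IsUnivHomeo; infer_instance

theorem isUnivHomeo_SpecMap_app {X Y : Scheme.{u}} (f : X ⟶ Y) (hf : FlatMor.IsUnivHomeo f)
    (W : Y.Opens) (hW : IsAffineOpen W) : FlatMor.IsUnivHomeo (Spec.map (f.app W)) := by
  have haff : IsAffineHom f := by
    have := ((isUnivHomeo_iff_scheme f).mp hf).1
    infer_instance
  have hW' : IsAffineOpen (f ⁻¹ᵁ W) := hW.preimage f
  have h1 : FlatMor.IsUnivHomeo (f ∣_ W) :=
    MorphismProperty.of_isPullback (isPullback_morphismRestrict f W).flip hf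
  have i1 : IsIso (W.toSpecΓ) := by rw [← hW.isoSpec_hom]; infer_instance
  have i2 : IsIso ((f ⁻¹ᵁ W).toSpecΓ) := by rw [← hW'.isoSpec_hom]; infer_instance
  have h2 : FlatMor.IsUnivHomeo (f ∣_ W ≫ W.toSpecΓ) :=
    (MorphismProperty.cancel_right_of_respectsIso _ _ _).mpr h1
  rw [← Scheme.Opens.toSpecΓ_naturality] at h2
  exact (MorphismProperty.cancel_left_of_respectsIso _ _ _).mp h2

end SchemeLevel

section Cancel

theorem isUnivHomeo_of_comp {X Y Z : Scheme.{u}} (g : Z ⟶ Y) (f : Y ⟶ X)
    (hg : FlatMor.IsUnivHomeo g) (hgf : FlatMor.IsUnivHomeo (g ≫ f)) : FlatMor.IsUnivHomeo f := by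
  intro Y'' X'' i₁ i₂ f' H
  have s : IsPullback (pullback.snd g i₁) (pullback.fst g i₁) i₁ g :=
    (IsPullback.of_hasPullback g i₁).flip
  have hsnd : IsHomeomorph (pullback.snd g i₁) := hg _ _ _ s
  have hcomp : IsHomeomorph (pullback.snd g i₁ ≫ f') := hgf _ _ _ (s.paste_horiz H)
  change IsHomeomorph f'
  let e := hsnd.homeomorph
  have : (f' : Y'' → X'') = (pullback.snd g i₁ ≫ f') ∘ e.symm := by
    funext y
    simp only [Function.comp_apply, Scheme.Hom.comp_apply]
    congr 1
    exact (e.apply_symm_apply y).symm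
  rw [this]
  exact hcomp.comp e.symm.isHomeomorph

variable {A B C : Type u} [CommRing A] [CommRing B] [CommRing C] [Algebra A B] [Algebra B C]
  [Algebra A C] [IsScalarTower A B C]

theorem UH.cancel_right (h₁ : UH B C) (h₂ : UH A C) : UH A B := by
  rw [← isUnivHomeo_iff] at h₁ h₂ ⊢
  have e : Spec.map (CommRingCat.ofHom (algebraMap A C)) =
      Spec.map (CommRingCat.ofHom (algebraMap B C)) ≫ Spec.map (CommRingCat.ofHom (algebraMap A B)) := by
    rw [← Spec.map_comp, ← CommRingCat.ofHom_comp, ← IsScalarTower.algebraMap_eq]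
  rw [e] at h₂
  exact isUnivHomeo_of_comp _ _ h₁ h₂

end Cancel

section PerfClosure

variable {A A' : Type u} [CommRing A] [CommRing A'] [Algebra A A']

theorem uh_of_isPRadical (p : ℕ) (hp : p.Prime) (h0 : (p : A') = 0)
    (hpow : ∀ x : A', ∃ (n : ℕ) (y : A), algebraMap A A' y = x ^ p ^ n)
    (hker : ∀ a : A, algebraMap A A' a = 0 → IsNilpotent a) : UH A A' := by
  refine ⟨⟨fun x => ?_⟩, hker, ?_⟩
  · obtain ⟨n, y, hy⟩ := hpow x
    refine ⟨Polynomial.X ^ (p ^ n) - Polynomial.C y,
      Polynomial.monic_X_pow_sub_C y (pow_ne_zero _ hp.ne_zero), ?_⟩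
    simp [hy]
  · rw [isRadicial_iff_radicialClosure, eq_top_iff]
    intro x _
    have key : ∀ (n : ℕ) (x : A'), x ^ p ^ n ∈ radicialClosure A A' → x ∈ radicialClosure A A' := by
      intro n
      induction n with
      | zero => intro x hx; simpa using hx
      | succ n ih =>
        intro x hx
        rw [pow_succ', pow_mul] at hx
        have hxp := ih _ hx
        apply mem_radicialClosure_of_prime p hp _ hxp
        rw [h0, zero_mul]
        exact Subalgebra.zero_mem _
    obtain ⟨n, y, hy⟩ := hpow x
    apply key n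
    rw [← hy]
    exact Subalgebra.algebraMap_mem _ y

end PerfClosure

section Main

variable {A B A' B' : Type u} [CommRing A] [CommRing B] [CommRing A'] [CommRing B']
  [Algebra A B] [Algebra A A'] [Algebra B B'] [Algebra A' B'] [Algebra A B']
  [IsScalarTower A B B'] [IsScalarTower A A' B']

theorem uh_iff_bijective_perfection (p : ℕ) (hp : p.Prime) (hA'0 : (p : A') = 0)
    (hA' : Function.Bijective fun s : A' => s ^ p) (hB' : Function.Bijective fun s : B' => s ^ p)
    (hi : UH A A') (hj : UH B B') : UH A B ↔ Function.Bijective (algebraMap A' B') := by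
  constructor
  · intro h
    have h1 : UH A B' := h.trans hj
    have h2 : UH A' B' := UH.cancel hi h1
    exact bijective_of_uh_of_perfect p hp hA'0 hA' hB' h2
  · intro h
    have h1 : UH A' B' := uh_of_surjective h.2 (fun a ha => by
      rw [h.1 (ha.trans (map_zero _).symm)]; exact IsNilpotent.zero)
    have h2 : UH A B' := hi.trans h1
    exact UH.cancel_right hj h2

end Main

end Groth.Agent.Lib.Helper20.UnivHomeo
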