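import Groth.Agent.Lib.Helper20.Descend3
import Groth.Agent.Lib.Helper20.UnivHomeoPerf
import Groth.Agent.Lib.Helper63.PerfTopology

set_option autoImplicit false
set_option linter.unusedSectionVars false
universe u
namespace Groth.Agent.Lib.Helper20.PerfAff
open AlgebraicGeometry CategoryTheory Limits FrobSch
open Groth.Agent.Lib.Helper20.Descend

theorem sub_pow_prime_pow {R : Type*} [CommRing R] (p : ℕ) [Fact p.Prime] (h : (p : R) = 0)
    (x y : R) (m : ℕ) : (x - y) ^ p ^ m = x ^ p ^ m - y ^ p ^ m := by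
  rcases subsingleton_or_nontrivial R with hR | hR
  · exact Subsingleton.elim _ _
  · haveI : CharP R p := (CharP.charP_iff_prime_eq_zero Fact.out).2 h
    exact sub_pow_char_pow x y m

theorem exists_pow_prime_pow_eq_zero {R : Type*} [CommRing R] (p : ℕ) [Fact p.Prime] (c : R)
    (hc : IsNilpotent c) : ∃ m : ℕ, c ^ p ^ m = 0 := by
  obtain ⟨k, hk⟩ := hc
  refine ⟨k, pow_eq_zero_of_le ?_ hk⟩
  exact (Nat.lt_pow_self (Fact.out : p.Prime).one_lt).le

theorem isNilpotent_of_app_eq_zero {P W : Scheme.{u}} (π : P ⟶ W) [Surjective π] (S : W.Opens)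
    (hS : IsCompact (S : Set W)) (a : Γ(W, S)) (ha : π.app S a = 0) : IsNilpotent a := by
  rw [Scheme.isNilpotent_iff_basicOpen_eq_bot_of_isCompact hS]
  have h1 : π ⁻¹ᵁ (W.basicOpen a) = ⊥ := by
    rw [Scheme.preimage_basicOpen, ha, Scheme.basicOpen_zero]
  rw [eq_bot_iff]
  intro w hw
  obtain ⟨x, rfl⟩ := π.surjective w
  have : x ∈ π ⁻¹ᵁ (W.basicOpen a) := hw
  rw [h1] at this
  exact this

theorem app_map_eq {X Y : Scheme.{u}} (π : Y ⟶ X) {U W : X.Opens} (hUW : U ≤ W) (a : Γ(X, W))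
    (hle : π ⁻¹ᵁ U ≤ π ⁻¹ᵁ W) :
    π.app U (X.presheaf.map (homOfLE hUW).op a) =
      Y.presheaf.map (homOfLE hle).op (π.app W a) := map_app_eq π hUW a

section Glue
variable {P W : Scheme.{u}} (π : P ⟶ W) [Surjective π] (p : ℕ) [Fact p.Prime] [IsCharP W p]
  [QuasiSeparatedSpace W]

/-- the property: every section of `P` over `π⁻¹S` has a `p^n`-th power coming from `W` -/
def PowLifts (S : W.Opens) : Prop :=
  ∀ b : Γ(P, π ⁻¹ᵁ S), ∃ (n : ℕ) (a : Γ(W, S)), π.app S a = b ^ p ^ n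

theorem powLifts_of_isCompact (haff : ∀ U : W.affineOpens, PowLifts π p U.1) (S : W.Opens)
    (hS : IsCompact (S : Set W)) : PowLifts π p S := by
  refine compact_open_induction_on (P := PowLifts π p) S hS ?_ ?_
  · intro b
    refine ⟨0, 0, ?_⟩
    have : Subsingleton Γ(P, π ⁻¹ᵁ (⊥ : W.Opens)) :=
      CommRingCat.subsingleton_of_isTerminal (P.sheaf.isTerminalOfEqEmpty rfl)
    exact Subsingleton.elim _ _
  · intro S hS U hPS b
    have hl1 : π ⁻¹ᵁ S ≤ π ⁻¹ᵁ (S ⊔ U.1) := fun _ h => Or.inl h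
    have hl2 : π ⁻¹ᵁ U.1 ≤ π ⁻¹ᵁ (S ⊔ U.1) := fun _ h => Or.inr h
    have hl3 : π ⁻¹ᵁ (S ⊓ U.1) ≤ π ⁻¹ᵁ S := fun _ h => h.1
    have hl4 : π ⁻¹ᵁ (S ⊓ U.1) ≤ π ⁻¹ᵁ U.1 := fun _ h => h.2
    obtain ⟨n₁, a₁, h₁⟩ := hPS (P.presheaf.map (homOfLE hl1).op b)
    obtain ⟨n₂, a₂, h₂⟩ := haff U (P.presheaf.map (homOfLE hl2).op b)
    have hcSU : IsCompact ((S ⊓ U.1 : W.Opens) : Set W) :=
      QuasiSeparatedSpace.inter_isCompact _ _ S.2 hS U.1.2 U.2.isCompact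
    -- restriction of `b` to the intersection
    set b' : Γ(P, π ⁻¹ᵁ (S ⊓ U.1)) := P.presheaf.map (homOfLE (hl3.trans hl1)).op b with hb'
    have e1 : π.app (S ⊓ U.1) (W.presheaf.map (homOfLE inf_le_left).op a₁) = b' ^ p ^ n₁ := by
      rw [app_map_eq π inf_le_left a₁ hl3, h₁, map_pow, map_map_eq]
    have e2 : π.app (S ⊓ U.1) (W.presheaf.map (homOfLE inf_le_right).op a₂) = b' ^ p ^ n₂ := by
      rw [app_map_eq π inf_le_right a₂ hl4, h₂, map_pow, map_map_eq]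
    have hp0 : (p : Γ(W, S ⊓ U.1)) = 0 := natCast_eq_zero_app W p _
    have hnil : IsNilpotent ((W.presheaf.map (homOfLE inf_le_left).op a₁) ^ p ^ n₂ -
        (W.presheaf.map (homOfLE inf_le_right).op a₂) ^ p ^ n₁) := by
      apply isNilpotent_of_app_eq_zero π _ hcSU
      rw [map_sub, map_pow, map_pow, e1, e2, ← pow_mul, ← pow_mul, mul_comm, sub_self]
    obtain ⟨m, hm⟩ := exists_pow_prime_pow_eq_zero p _ hnil
    rw [sub_pow_prime_pow p hp0, sub_eq_zero] at hm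
    let y₁ : Γ(W, S) := (a₁ ^ p ^ n₂) ^ p ^ m
    let y₂ : Γ(W, U.1) := (a₂ ^ p ^ n₁) ^ p ^ m
    have hy : W.presheaf.map (homOfLE inf_le_left).op y₁ =
        W.presheaf.map (homOfLE inf_le_right).op y₂ := by
      simp only [y₁, y₂, map_pow]
      exact hm
    let a : Γ(W, S ⊔ U.1) := (W.sheaf.objSupIsoProdEqLocus S U.1).inv ⟨⟨y₁, y₂⟩, hy⟩
    have ha1 : W.presheaf.map (homOfLE le_sup_left).op a = y₁ :=
      W.sheaf.objSupIsoProdEqLocus_inv_fst S U.1 _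
    have ha2 : W.presheaf.map (homOfLE le_sup_right).op a = y₂ :=
      W.sheaf.objSupIsoProdEqLocus_inv_snd S U.1 _
    refine ⟨n₁ + n₂ + m, a, ?_⟩
    apply P.sheaf.eq_of_locally_eq₂ (homOfLE hl1) (homOfLE hl2)
    · intro x hx
      exact hx
    · change P.presheaf.map (homOfLE hl1).op (π.app (S ⊔ U.1) a) =
        P.presheaf.map (homOfLE hl1).op (b ^ p ^ (n₁ + n₂ + m))
      rw [← app_map_eq π le_sup_left a hl1, ha1]
      simp only [y₁, map_pow, h₁]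
      rw [← pow_mul, ← pow_mul, ← pow_add, ← pow_add, add_assoc]
    · change P.presheaf.map (homOfLE hl2).op (π.app (S ⊔ U.1) a) =
        P.presheaf.map (homOfLE hl2).op (b ^ p ^ (n₁ + n₂ + m))
      rw [← app_map_eq π le_sup_right a hl2, ha2]
      simp only [y₂, map_pow, h₂]
      rw [← pow_mul, ← pow_mul, ← pow_add, ← pow_add, ← add_assoc, add_comm n₂ n₁]

end Glue

theorem app_eq_map_appLE {X Y : Scheme.{u}} (π : Y ⟶ X) (W U : X.Opens) (hUW : U ≤ W)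
    (V' : Y.Opens) (hV' : π ⁻¹ᵁ U ≤ V') (hV'W : V' ≤ π ⁻¹ᵁ W) (t'' : Γ(X, W)) :
    π.app U (X.presheaf.map (homOfLE hUW).op t'') =
      Y.presheaf.map (homOfLE hV').op (π.appLE W V' hV'W t'') := by
  rw [← CommRingCat.comp_apply, ← CommRingCat.comp_apply, Scheme.Hom.appLE_map,
    Scheme.Hom.app_eq_appLE, Scheme.Hom.map_appLE]

theorem app_topIso_hom {X Y : Scheme.{u}} (π : Y ⟶ X) (U : X.Opens) (t' : Γ(U, ⊤)) :
    π.app U (U.topIso.hom t') = (π ⁻¹ᵁ U).topIso.hom ((π ∣_ U).appTop t') := by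
  have hUW : U ≤ U.ι ''ᵁ ⊤ := by rw [U.ι_image_top]
  have hV' : π ⁻¹ᵁ U ≤ (π ⁻¹ᵁ U).ι ''ᵁ ((π ∣_ U) ⁻¹ᵁ ⊤) := by
    change π ⁻¹ᵁ U ≤ (π ⁻¹ᵁ U).ι ''ᵁ ⊤
    rw [(π ⁻¹ᵁ U).ι_image_top]
  have h2 := congrArg (fun φ => φ.hom t') (morphismRestrict_app' π U ⊤)
  have h3 := app_eq_map_appLE π (U.ι ''ᵁ ⊤) U hUW _ hV'
    (image_morphismRestrict_preimage π U ⊤).le t'
  exact h3.trans (congrArg ((π ⁻¹ᵁ U).topIso.hom) h2.symm)

theorem add_pow_prime_pow {R : Type*} [CommRing R] (p : ℕ) [Fact p.Prime] (h : (p : R) = 0)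
    (x y : R) (m : ℕ) : (x + y) ^ p ^ m = x ^ p ^ m + y ^ p ^ m := by
  rcases subsingleton_or_nontrivial R with hR | hR
  · exact Subsingleton.elim _ _
  · haveI : CharP R p := (CharP.charP_iff_prime_eq_zero Fact.out).2 h
    exact add_pow_char_pow x y p m

theorem neg_pow_prime_pow {R : Type*} [CommRing R] (p : ℕ) [Fact p.Prime] (h : (p : R) = 0)
    (x : R) (m : ℕ) : (-x) ^ p ^ m = -(x ^ p ^ m) := by
  rcases subsingleton_or_nontrivial R with hR | hR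
  · exact Subsingleton.elim _ _
  · haveI : CharP R p := (CharP.charP_iff_prime_eq_zero Fact.out).2 h
    have := sub_pow_char_pow (0 : R) x m (p := p)
    rw [zero_sub, zero_pow (pow_ne_zero _ (Fact.out : p.Prime).ne_zero), zero_sub] at this
    exact this

/-- elements having a `p^n`-th power in the image of `φ` form a subring -/
def powSubring {A B : Type*} [CommRing A] [CommRing B] (φ : A →+* B) (p : ℕ) [Fact p.Prime]
    (h : (p : B) = 0) : Subring B where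
  carrier := {c | ∃ (n : ℕ) (a : A), φ a = c ^ p ^ n}
  mul_mem' := by
    rintro c d ⟨n, a, ha⟩ ⟨n', a', ha'⟩
    refine ⟨n + n', a ^ p ^ n' * a' ^ p ^ n, ?_⟩
    rw [map_mul, map_pow, map_pow, ha, ha', mul_pow, ← pow_mul, ← pow_mul, ← pow_add, ← pow_add,
      add_comm n' n]
  one_mem' := ⟨0, 1, by simp⟩
  add_mem' := by
    rintro c d ⟨n, a, ha⟩ ⟨n', a', ha'⟩
    refine ⟨n + n', a ^ p ^ n' + a' ^ p ^ n, ?_⟩
    rw [map_add, map_pow, map_pow, ha, ha', add_pow_prime_pow p h, ← pow_mul, ← pow_mul,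
      ← pow_add, ← pow_add, add_comm n' n]
  zero_mem' := ⟨0, 0, by simp⟩
  neg_mem' := by
    rintro c ⟨n, a, ha⟩
    exact ⟨n, -a, by rw [map_neg, ha, neg_pow_prime_pow p h]⟩

theorem mem_powSubring {A B : Type*} [CommRing A] [CommRing B] (φ : A →+* B) (p : ℕ)
    [Fact p.Prime] (h : (p : B) = 0) (c : B) :
    c ∈ powSubring φ p h ↔ ∃ (n : ℕ) (a : A), φ a = c ^ p ^ n := Iff.rfl

section PerfAffine
variable {P W : Scheme.{u}} (p : ℕ) [Fact p.Prime] [IsCharP P p] [IsCharP W p]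
  (π : P ⟶ W) (hπ : IsPerfection π p)
include hπ

theorem exists_pow_eq_of_isAffine [IsAffine W] (c : Γ(P, ⊤)) :
    ∃ (n : ℕ) (a : Γ(W, ⊤)), π.appTop a = c ^ p ^ n := by
  have h0 : (p : Γ(P, ⊤)) = 0 := IsCharP.natCast_eq_zero
  have htop := Groth.Agent.Lib.Helper63.Perf.subring_eq_top_of_isPerfection p π hπ
    (powSubring π.appTop.hom p h0) (fun a => ⟨0, a, by simp⟩) (fun s hs => by
      obtain ⟨n, a, ha⟩ := hs
      exact ⟨n + 1, a, by rw [ha, ← pow_mul, pow_succ, mul_comm]⟩)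
  have : c ∈ powSubring π.appTop.hom p h0 := htop ▸ Subring.mem_top c
  exact this

end PerfAffine

end Groth.Agent.Lib.Helper20.PerfAff
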