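import Groth.Agent.Lib.Helper20.PerfAff

set_option autoImplicit false
set_option linter.unusedSectionVars false
universe u
namespace Groth.Agent.Lib.Helper20.PerfAff
open AlgebraicGeometry CategoryTheory Limits FrobSch
open Groth.Agent.Lib.Helper20.Descend Groth.Agent.Lib.Helper20.UnivHomeo

section Perf
variable {P W : Scheme.{u}} (p : ℕ) [Fact p.Prime] [IsCharP P p] [IsCharP W p]
  (π : P ⟶ W) (hπ : IsPerfection π p)
include hπ

theorem powLifts_affine (U : W.affineOpens) : PowLifts π p U.1 := by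
  intro b
  have hc : IsCharP ((π ⁻¹ᵁ U.1 : P.Opens) : Scheme.{u}) p := IsCharP.of_hom (Scheme.Opens.ι _) p
  have hc' : IsCharP ((U.1 : W.Opens) : Scheme.{u}) p := IsCharP.of_hom (Scheme.Opens.ι _) p
  have haff : IsAffine (U.1 : Scheme.{u}) := U.2
  have hU : IsPerfection (π ∣_ U.1) p :=
    Groth.Agent.Lib.Helper63.Perf.isPerfection_restrict p π hπ U.1.ι (π ⁻¹ᵁ U.1).ι
      (by rw [Scheme.Opens.range_ι, Scheme.Opens.range_ι]; rfl) (π ∣_ U.1)
      (morphismRestrict_ι π U.1)
  obtain ⟨n, a', ha'⟩ := exists_pow_eq_of_isAffine p (π ∣_ U.1) hU ((π ⁻¹ᵁ U.1).topIso.inv b)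
  refine ⟨n, U.1.topIso.hom a', ?_⟩
  rw [app_topIso_hom, ha', map_pow]
  congr 1
  exact Iso.inv_hom_id_apply (C := CommRingCat) _ _

theorem powLifts_top [CompactSpace W] [QuasiSeparatedSpace W] : PowLifts π p (⊤ : W.Opens) := by
  have := Groth.Agent.Lib.Helper63.Perf.surjective_of_isPerfection p π hπ
  exact powLifts_of_isCompact π p (powLifts_affine p π hπ) ⊤ CompactSpace.isCompact_univ

theorem isHomeomorph_of_isPerfection : IsHomeomorph π := by
  have h1 := Groth.Agent.Lib.Helper63.Perf.isIntegralHom_of_isPerfection p π hπ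
  have h2 := Groth.Agent.Lib.Helper63.Perf.universallyInjective_of_isPerfection p π hπ
  have h3 := Groth.Agent.Lib.Helper63.Perf.surjective_of_isPerfection p π hπ
  have : FlatMor.IsUnivHomeo π := (isUnivHomeo_iff_scheme π).mpr ⟨h1, h2, h3⟩
  exact this (𝟙 _) (𝟙 _) π IsPullback.of_id_snd

/-- the base of an affine perfection is affine -/
theorem isAffine_of_isAffine_perfection [IsAffine P] : IsAffine W := by
  have hsurj := Groth.Agent.Lib.Helper63.Perf.surjective_of_isPerfection p π hπ
  have hh := isHomeomorph_of_isPerfection p π hπ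
  have hcW : CompactSpace W := by
    have := hh.homeomorph π
    exact (hh.homeomorph π).compactSpace
  have hqW : QuasiSeparatedSpace W := (quasiSeparatedSpace_congr (hh.homeomorph π)).mp inferInstance
  letI : Algebra Γ(W, ⊤) Γ(P, ⊤) := π.appTop.hom.toAlgebra
  have hUH : UH Γ(W, ⊤) Γ(P, ⊤) := by
    refine uh_of_isPRadical p Fact.out IsCharP.natCast_eq_zero ?_ ?_
    · intro x
      exact powLifts_top p π hπ x
    · intro a ha
      exact isNilpotent_of_app_eq_zero π ⊤ CompactSpace.isCompact_univ a ha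
  have h1 : FlatMor.IsUnivHomeo (Spec.map (CommRingCat.ofHom (algebraMap Γ(W, ⊤) Γ(P, ⊤)))) :=
    (isUnivHomeo_iff _ _).mpr hUH
  have h2 : IsHomeomorph (Spec.map π.appTop) := h1 (𝟙 _) (𝟙 _) _ IsPullback.of_id_snd
  have hnat : π ≫ W.toSpecΓ = P.toSpecΓ ≫ Spec.map π.appTop := Scheme.toSpecΓ_naturality π
  have h3 : IsHomeomorph (P.toSpecΓ ≫ Spec.map π.appTop) := by
    have : IsHomeomorph P.toSpecΓ := (TopCat.isIso_iff_isHomeomorph _).mp inferInstance
    rw [Scheme.Hom.comp_base, TopCat.coe_comp]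
    exact h2.comp this
  have h4 : IsHomeomorph W.toSpecΓ := by
    rw [← hnat, Scheme.Hom.comp_base, TopCat.coe_comp] at h3
    have e : (W.toSpecΓ : W → _) = (W.toSpecΓ ∘ π) ∘ (hh.homeomorph π).symm := by
      funext w
      change W.toSpecΓ w = W.toSpecΓ (π ((hh.homeomorph π).symm w))
      congr 1
      exact ((hh.homeomorph π).apply_symm_apply w).symm
    rw [e]
    exact h3.comp (hh.homeomorph π).symm.isHomeomorph
  have : IsAffineHom W.toSpecΓ :=
    isAffineHom_of_isInducing _ h4.isInducing h4.isClosedEmbedding.isClosed_range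
  exact isAffine_of_isAffineHom W.toSpecΓ

end Perf

end Groth.Agent.Lib.Helper20.PerfAff
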