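import Mathlib
import Groth.Agent.Lib.Helper82.EffCartier
import Groth.Agent.Lib.Helper82.EffCartierCompl
import Groth.Agent.Lib.Helper41.SchDense

set_option autoImplicit false
universe u
open AlgebraicGeometry CategoryTheory Limits

namespace Groth.Agent.Lib.Helper20.QDom

theorem comap_eq_top_of_forall_notMem {X T : Scheme.{u}} (I : X.IdealSheafData) (f : T ⟶ X)
    (h : ∀ t : T, f t ∉ I.support) : I.comap f = ⊤ := by
  rw [← Scheme.IdealSheafData.support_eq_bot_iff, Scheme.IdealSheafData.support_comap]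
  ext x
  simp only [TopologicalSpace.Closeds.coe_preimage, Set.mem_preimage, SetLike.mem_coe,
    TopologicalSpace.Closeds.coe_bot, Set.mem_empty_iff_false, iff_false]
  exact h x

/-- restriction of a schematically dominant quasi-compact morphism to an open containing... -/
theorem isSchemeTheoreticallyDominant_lift {U V : Scheme.{u}} (j : U ⟶ V)
    [IsSchemeTheoreticallyDominant j] [QuasiCompact j] (V₀ : V.Opens) (j₀ : U ⟶ V₀)
    (h : j₀ ≫ V₀.ι = j) : IsSchemeTheoreticallyDominant j₀ := by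
  have sq : CommSq (𝟙 U) j₀ j V₀.ι := ⟨by rw [Category.id_comp, h]⟩
  exact IsSchemeTheoreticallyDominant.of_isPullback (IsPullback.of_horiz_isIso_mono sq)

/-- extension lemma -/
theorem exists_lift_of_closed_graph {S Xt V T T' : Scheme.{u}} (pX : Xt ⟶ S) (pV : V ⟶ S)
    [IsSeparated pV] (W : Xt.Opens) (ψ : (W : Scheme.{u}) ⟶ V) (hψ : W.ι ≫ pX = ψ ≫ pV)
    (hcl : IsClosed (Set.range (fun x => pullback.lift W.ι ψ hψ x)))
    (g : T ⟶ V) (h₀ : T ⟶ Xt) (hc : h₀ ≫ pX = g ≫ pV)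
    (ι : T' ⟶ T) [IsSchemeTheoreticallyDominant ι] [IsDominant ι]
    (h' : T' ⟶ W) (h1 : h' ≫ W.ι = ι ≫ h₀) (h2 : h' ≫ ψ = ι ≫ g) :
    ∃ h : T ⟶ W, h ≫ W.ι = h₀ ∧ h ≫ ψ = g := by
  set z : T ⟶ pullback pX pV := pullback.lift h₀ g hc with hz
  have hιz : ι ≫ z = h' ≫ pullback.lift W.ι ψ hψ := by
    apply pullback.hom_ext
    · rw [Category.assoc, Category.assoc, hz, pullback.lift_fst, pullback.lift_fst, h1]
    · rw [Category.assoc, Category.assoc, hz, pullback.lift_snd, pullback.lift_snd, h2]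
  have hpre : IsClosed ((fun t => z t) ⁻¹' (Set.range (fun x => pullback.lift W.ι ψ hψ x))) :=
    hcl.preimage z.continuous
  have hsub : Set.range (fun t => ι t) ⊆
      (fun t => z t) ⁻¹' (Set.range (fun x => pullback.lift W.ι ψ hψ x)) := by
    rintro _ ⟨t, rfl⟩
    refine ⟨h' t, ?_⟩
    show (h' ≫ pullback.lift W.ι ψ hψ) t = (ι ≫ z) t
    rw [hιz]
  have hdense : Dense (Set.range (fun t => ι t)) := ι.denseRange
  have huniv : (fun t => z t) ⁻¹' (Set.range (fun x => pullback.lift W.ι ψ hψ x)) = Set.univ := by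
    rw [← Set.univ_subset_iff, ← hdense.closure_eq]
    exact hpre.closure_subset_iff.2 hsub
  have hrange : Set.range h₀ ⊆ Set.range W.ι := by
    rintro _ ⟨t, rfl⟩
    have ht : z t ∈ Set.range (fun x => pullback.lift W.ι ψ hψ x) := by
      have : t ∈ (fun t => z t) ⁻¹' (Set.range (fun x => pullback.lift W.ι ψ hψ x)) := by
        rw [huniv]; trivial
      exact this
    obtain ⟨w, hw⟩ := ht
    refine ⟨w, ?_⟩
    have := congrArg (fun y => (pullback.fst pX pV) y) hw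
    simp only [← Scheme.Hom.comp_apply] at this
    rw [pullback.lift_fst, hz, pullback.lift_fst] at this
    exact this
  refine ⟨IsOpenImmersion.lift W.ι h₀ hrange, IsOpenImmersion.lift_fac _ _ _, ?_⟩
  apply Groth.Agent.Lib.Helper41.ext_of_isSchemeTheoreticallyDominant_of_isSeparated pV ?_ ι ?_
  · rw [Category.assoc, ← hψ, IsOpenImmersion.lift_fac_assoc, hc]
  · have : ι ≫ IsOpenImmersion.lift W.ι h₀ hrange = h' := by
      rw [← cancel_mono W.ι, Category.assoc, IsOpenImmersion.lift_fac, h1]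
    rw [← Category.assoc, this, h2]

/-- quasi-compactness of the lift of `U` to the blow-up. -/
theorem quasiCompact_lift {U X Xt : Scheme.{u}} [QuasiSeparatedSpace X] [CompactSpace U]
    (jX : U ⟶ X) [IsOpenImmersion jX] (𝓘 : X.IdealSheafData)
    (hdisj : Disjoint (𝓘.support : Set X) (jX.opensRange : Set X))
    (b : Xt ⟶ X) (hb : BlowUp.IsBlowUp b 𝓘) (k : U ⟶ Xt) (hk : k ≫ b = jX) :
    QuasiCompact k := by
  set X₀ : X.Opens := 𝓘.support.compl with hX₀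
  have hR : jX.opensRange ≤ X₀ := by
    intro x hx
    show x ∉ 𝓘.support
    intro hx'
    exact Set.disjoint_left.1 hdisj hx' hx
  haveI hiso : IsIso (b ∣_ X₀) := Groth.Agent.Lib.Helper82.isIso_morphismRestrict_of_isBlowUp 𝓘 b hb
  haveI : QuasiSeparatedSpace ↥(X₀ : Scheme.{u}) := quasiSeparatedSpace_of_quasiSeparated X₀.ι
  haveI : QuasiSeparatedSpace ↥((b ⁻¹ᵁ X₀ : Xt.Opens) : Scheme.{u}) :=
    quasiSeparatedSpace_of_quasiSeparated (b ∣_ X₀)
  haveI : QuasiSeparatedSpace ↥((b ⁻¹ᵁ jX.opensRange : Xt.Opens) : Scheme.{u}) :=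
    quasiSeparatedSpace_of_quasiSeparated (Xt.homOfLE (b.preimage_mono hR))
  haveI : QuasiCompact jX := inferInstance
  haveI : QuasiCompact jX.opensRange.ι := by
    have : jX.opensRange.ι = jX.isoOpensRange.inv ≫ jX := by
      rw [Iso.eq_inv_comp]; exact jX.isoOpensRange_hom_ι  
    rw [this]; infer_instance
  haveI : QuasiCompact (b ⁻¹ᵁ jX.opensRange).ι :=
    MorphismProperty.of_isPullback (isPullback_morphismRestrict b jX.opensRange) ‹_›
  have hrange : Set.range k ⊆ Set.range (b ⁻¹ᵁ jX.opensRange).ι := by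
    rintro _ ⟨x, rfl⟩
    rw [Scheme.Opens.range_ι]
    show b (k x) ∈ jX.opensRange
    rw [← Scheme.Hom.comp_apply, hk]
    exact ⟨x, rfl⟩
  have hfac : k = IsOpenImmersion.lift (b ⁻¹ᵁ jX.opensRange).ι k hrange ≫
      (b ⁻¹ᵁ jX.opensRange).ι := (IsOpenImmersion.lift_fac _ _ _).symm
  rw [hfac]
  infer_instance

theorem isBlowUp_of_quasiDomination {S U X Y Xt : Scheme.{u}} [QuasiSeparatedSpace S]
    (gX : X ⟶ S) (gY : Y ⟶ S) [IsSeparated gX] [IsSeparated gY]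
    (jX : U ⟶ X) [IsOpenImmersion jX] [CompactSpace U]
    (V : Y.Opens)
    (jV : U ⟶ (V : Scheme.{u})) [IsSchemeTheoreticallyDominant jV]
    (φ : (V : Scheme.{u}) ⟶ X) (hφU : jV ≫ φ = jX) (hφ : V.ι ≫ gY = φ ≫ gX)
    (𝓘 : X.IdealSheafData) (hdisj : Disjoint (𝓘.support : Set X) (jX.opensRange : Set X))
    (b : Xt ⟶ X) (hb : BlowUp.IsBlowUp b 𝓘)
    (W : Xt.Opens) (u : U ⟶ (W : Scheme.{u})) (hu : u ≫ W.ι ≫ b = jX)
    [IsSchemeTheoreticallyDominant (u ≫ W.ι)]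
    (ψ : (W : Scheme.{u}) ⟶ (V : Scheme.{u})) (hψU : u ≫ ψ = jV)
    (hψ : W.ι ≫ b ≫ gX = ψ ≫ V.ι ≫ gY)
    (hψcl : IsClosed (Set.range (fun x => pullback.lift W.ι ψ hψ x))) :
    ψ ≫ φ = W.ι ≫ b ∧ BlowUp.IsBlowUp ψ (𝓘.comap φ) := by
  haveI hXqs : QuasiSeparatedSpace X := quasiSeparatedSpace_of_quasiSeparated gX
  haveI hYqs : QuasiSeparatedSpace Y := quasiSeparatedSpace_of_quasiSeparated gY
  haveI hVqs : QuasiSeparatedSpace ↥(V : Scheme.{u}) := quasiSeparatedSpace_of_quasiSeparated V.ι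
  have hjX : ∀ x : U, jX x ∉ 𝓘.support := fun x hx =>
    Set.disjoint_left.1 hdisj hx ⟨x, rfl⟩
  -- Step 1: quasi-compactness and schematic density of `u`
  haveI : QuasiCompact (u ≫ W.ι) :=
    quasiCompact_lift jX 𝓘 hdisj b hb (u ≫ W.ι) (by rw [Category.assoc]; exact hu)
  haveI hu_dom : IsSchemeTheoreticallyDominant u :=
    isSchemeTheoreticallyDominant_lift (u ≫ W.ι) W u rfl
  -- Step 0
  have h0 : ψ ≫ φ = W.ι ≫ b := by
    apply Groth.Agent.Lib.Helper41.ext_of_isSchemeTheoreticallyDominant_of_isSeparated gX ?_ u ?_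
    · rw [Category.assoc, ← hφ, Category.assoc, hψ]
    · rw [← Category.assoc, hψU, hφU, hu]
  refine ⟨h0, ?_, ?_⟩
  · rw [← Scheme.IdealSheafData.comap_comp, h0, Scheme.IdealSheafData.comap_comp]
    exact Groth.Agent.Lib.Helper82.isEffCartierIdeal_comap_of_flat W.ι _ hb.1
  -- the open V°
  set X₀ : X.Opens := 𝓘.support.compl with hX₀
  set V₀ : (V : Scheme.{u}).Opens := φ ⁻¹ᵁ X₀ with hV₀
  haveI hV₀qs : QuasiSeparatedSpace ↥(V₀ : Scheme.{u}) := quasiSeparatedSpace_of_quasiSeparated V₀.ι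
  have hE₀ : BlowUp.IsEffCartierIdeal (𝓘.comap (V₀.ι ≫ φ)) := by
    rw [comap_eq_top_of_forall_notMem]
    · exact Groth.Agent.Lib.Helper82.isEffCartierIdeal_top _
    · intro t
      have : (V₀.ι t) ∈ V₀ := t.2
      exact this
  obtain ⟨h₀₀, hh₀₀, -⟩ := hb.2 _ (V₀.ι ≫ φ) hE₀
  have hjVr : Set.range jV ⊆ Set.range V₀.ι := by
    rintro _ ⟨x, rfl⟩
    rw [Scheme.Opens.range_ι]
    show φ (jV x) ∉ 𝓘.support
    rw [← Scheme.Hom.comp_apply, hφU]
    exact hjX x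
  set jV₀ : U ⟶ V₀ := IsOpenImmersion.lift V₀.ι jV hjVr with hjV₀
  have hjV₀fac : jV₀ ≫ V₀.ι = jV := IsOpenImmersion.lift_fac _ _ _
  haveI : QuasiCompact jV := inferInstance
  haveI : IsSchemeTheoreticallyDominant jV₀ := isSchemeTheoreticallyDominant_lift jV V₀ jV₀ hjV₀fac
  haveI : QuasiCompact jV₀ := inferInstance
  haveI : IsDominant jV₀ := inferInstance
  haveI : IsSeparated (V.ι ≫ gY) := inferInstance
  have hEU : BlowUp.IsEffCartierIdeal (𝓘.comap jX) := by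
    rw [comap_eq_top_of_forall_notMem _ _ hjX]
    exact Groth.Agent.Lib.Helper82.isEffCartierIdeal_top _
  obtain ⟨h₁, hh₁, hh₁'⟩ : ∃ h : (V₀ : Scheme.{u}) ⟶ W, h ≫ W.ι = h₀₀ ∧ h ≫ ψ = V₀.ι := by
    refine exists_lift_of_closed_graph (b ≫ gX) (V.ι ≫ gY) W ψ hψ hψcl V₀.ι h₀₀ ?_ jV₀ u ?_ ?_
    · rw [← Category.assoc, hh₀₀, Category.assoc, ← hφ]
    · obtain ⟨_, _, huniq⟩ := hb.2 _ jX hEU
      refine (huniq (u ≫ W.ι) (by show (u ≫ W.ι) ≫ b = jX; rw [Category.assoc]; exact hu)).trans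
        (huniq (jV₀ ≫ h₀₀) ?_).symm
      show (jV₀ ≫ h₀₀) ≫ b = jX
      rw [Category.assoc, hh₀₀, ← Category.assoc, hjV₀fac, hφU]
    · rw [hψU, hjV₀fac]
  -- universal property
  intro T g hK
  have hK' : BlowUp.IsEffCartierIdeal (𝓘.comap (g ≫ φ)) := by
    rw [Scheme.IdealSheafData.comap_comp]; exact hK
  obtain ⟨h₀, hh₀, huniq₀⟩ := hb.2 T (g ≫ φ) hK'
  set K : T.IdealSheafData := 𝓘.comap (g ≫ φ) with hKdef
  set T₀ : T.Opens := K.support.compl with hT₀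
  haveI : IsSchemeTheoreticallyDominant T₀.ι :=
    Groth.Agent.Lib.Helper82.isSchemeTheoreticallyDominant_ι_compl_support K hK'
  haveI : IsAffineHom T₀.ι := Groth.Agent.Lib.Helper82.isAffineHom_ι_compl_support K hK'
  haveI : QuasiCompact T₀.ι := inferInstance
  haveI : IsDominant T₀.ι := inferInstance
  have hgr : Set.range (T₀.ι ≫ g) ⊆ Set.range V₀.ι := by
    rintro _ ⟨t, rfl⟩
    rw [Scheme.Opens.range_ι]
    show φ ((T₀.ι ≫ g) t) ∉ 𝓘.support
    have ht : (T₀.ι t) ∉ K.support := t.2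
    rw [hKdef, Scheme.IdealSheafData.support_comap] at ht
    exact ht
  set g₀ : (T₀ : Scheme.{u}) ⟶ V₀ := IsOpenImmersion.lift V₀.ι (T₀.ι ≫ g) hgr with hg₀
  have hg₀fac : g₀ ≫ V₀.ι = T₀.ι ≫ g := IsOpenImmersion.lift_fac _ _ _
  have hET₀ : BlowUp.IsEffCartierIdeal (𝓘.comap (T₀.ι ≫ g ≫ φ)) := by
    rw [Scheme.IdealSheafData.comap_comp]
    exact Groth.Agent.Lib.Helper82.isEffCartierIdeal_comap_of_flat T₀.ι _ hK'
  obtain ⟨h, hh, hh'⟩ : ∃ h : T ⟶ W, h ≫ W.ι = h₀ ∧ h ≫ ψ = g := by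
    refine exists_lift_of_closed_graph (b ≫ gX) (V.ι ≫ gY) W ψ hψ hψcl g h₀ ?_ T₀.ι (g₀ ≫ h₁) ?_ ?_
    · rw [← Category.assoc, hh₀, Category.assoc, ← hφ]
    · obtain ⟨_, _, huniq⟩ := hb.2 _ (T₀.ι ≫ g ≫ φ) hET₀
      refine (huniq ((g₀ ≫ h₁) ≫ W.ι) ?_).trans (huniq (T₀.ι ≫ h₀) ?_).symm
      · show ((g₀ ≫ h₁) ≫ W.ι) ≫ b = T₀.ι ≫ g ≫ φ
        rw [Category.assoc, Category.assoc, ← Category.assoc h₁, hh₁, hh₀₀, ← Category.assoc,
          hg₀fac, Category.assoc]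
      · show (T₀.ι ≫ h₀) ≫ b = T₀.ι ≫ g ≫ φ
        rw [Category.assoc, hh₀]
    · rw [Category.assoc, hh₁', hg₀fac]
  refine ⟨h, hh', ?_⟩
  intro h' hh''
  rw [← cancel_mono W.ι]
  refine (huniq₀ (h' ≫ W.ι) ?_).trans (huniq₀ (h ≫ W.ι) ?_).symm
  · show (h' ≫ W.ι) ≫ b = g ≫ φ
    rw [Category.assoc, ← h0, ← Category.assoc, hh'']
  · show (h ≫ W.ι) ≫ b = g ≫ φ
    rw [Category.assoc, ← h0, ← Category.assoc, hh']

theorem isClosed_range_lift {S X Y Xt : Scheme.{u}} (gX : X ⟶ S) (gY : Y ⟶ S) (V : Y.Opens)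
    (φ : (V : Scheme.{u}) ⟶ X) (hφ : V.ι ≫ gY = φ ≫ gX)
    (hφcl : IsClosed (Set.range (fun x => pullback.lift V.ι φ hφ x)))
    (b : Xt ⟶ X) (W : Xt.Opens) (ψ : (W : Scheme.{u}) ⟶ (V : Scheme.{u}))
    (hψ : W.ι ≫ b ≫ gX = ψ ≫ V.ι ≫ gY)
    (hψcl : IsClosed (Set.range (fun x => pullback.lift W.ι ψ hψ x)))
    (h0 : ψ ≫ φ = W.ι ≫ b) :
    IsClosed (Set.range (fun x => pullback.lift (f := b ≫ gX) (g := gY) W.ι (ψ ≫ V.ι)
        (hψ.trans (Category.assoc ψ V.ι gY).symm) x)) := by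
  set lψ := pullback.lift W.ι ψ hψ with hlψ
  set lψ' := pullback.lift (f := b ≫ gX) (g := gY) W.ι (ψ ≫ V.ι)
    (hψ.trans (Category.assoc ψ V.ι gY).symm) with hlψ'
  set lφ := pullback.lift V.ι φ hφ with hlφ
  let m : pullback (b ≫ gX) (V.ι ≫ gY) ⟶ pullback (b ≫ gX) gY :=
    pullback.map (b ≫ gX) (V.ι ≫ gY) (b ≫ gX) gY (𝟙 Xt) V.ι (𝟙 S) (by simp) (by simp)
  have hm : lψ ≫ m = lψ' := by
    apply pullback.hom_ext
    · dsimp only [m, pullback.map]
      rw [Category.assoc, pullback.lift_fst, hlψ', pullback.lift_fst, ← Category.assoc, hlψ,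
        pullback.lift_fst, Category.comp_id]
    · dsimp only [m, pullback.map]
      rw [Category.assoc, pullback.lift_snd, hlψ', pullback.lift_snd, ← Category.assoc, hlψ,
        pullback.lift_snd]
  have hrm : Set.range m = (pullback.snd (b ≫ gX) gY) ⁻¹' (Set.range V.ι) := by
    rw [Scheme.Pullback.range_map]; simp
  let n : pullback (b ≫ gX) gY ⟶ pullback gY gX :=
    pullback.lift (pullback.snd _ _) (pullback.fst _ _ ≫ b)
      (by rw [Category.assoc, pullback.condition])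
  have hn : lψ' ≫ n = ψ ≫ lφ := by
    apply pullback.hom_ext
    · dsimp only [n]
      rw [Category.assoc, pullback.lift_fst, hlψ', pullback.lift_snd, Category.assoc, hlφ,
        pullback.lift_fst]
    · dsimp only [n]
      rw [Category.assoc, pullback.lift_snd, hlψ', ← Category.assoc, pullback.lift_fst,
        Category.assoc, hlφ, pullback.lift_snd, h0]
  have hsub : closure (Set.range (fun x => lψ' x)) ⊆ Set.range m := by
    intro z hz
    have h1 : n z ∈ closure ((fun y => n y) '' Set.range (fun x => lψ' x)) :=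
      image_closure_subset_closure_image n.continuous ⟨z, hz, rfl⟩
    have h2 : (fun y => n y) '' Set.range (fun x => lψ' x) ⊆ Set.range (fun x => lφ x) := by
      rintro _ ⟨_, ⟨w, rfl⟩, rfl⟩
      exact ⟨ψ w, by show (ψ ≫ lφ) w = (lψ' ≫ n) w; rw [hn]⟩
    have h3 := closure_minimal h2 hφcl h1
    obtain ⟨v, hv⟩ := h3
    rw [hrm]
    refine ⟨v, ?_⟩
    have := congrArg (fun y => (pullback.fst gY gX) y) hv
    simp only [← Scheme.Hom.comp_apply] at this
    rw [pullback.lift_fst, pullback.lift_fst] at this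
    exact this
  have himg : Set.range (fun x => lψ' x) = (fun y => m y) '' Set.range (fun x => lψ x) := by
    rw [← hm]; ext z; constructor
    · rintro ⟨w, rfl⟩; exact ⟨lψ w, ⟨w, rfl⟩, rfl⟩
    · rintro ⟨_, ⟨w, rfl⟩, rfl⟩; exact ⟨w, rfl⟩
  have hemb : Topology.IsOpenEmbedding (fun y => m y) := m.isOpenEmbedding
  rw [← closure_subset_iff_isClosed]
  intro z hz
  obtain ⟨p, rfl⟩ := hsub hz
  rw [himg]
  refine ⟨p, ?_, rfl⟩
  have := hemb.isInducing.closure_eq_preimage_closure_image (Set.range (fun x => lψ x))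
  rw [hψcl.closure_eq] at this
  rw [this]
  show m p ∈ closure _
  rw [← himg]; exact hz

end Groth.Agent.Lib.Helper20.QDom
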