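import Groth.Prelude.Def_MoreMor
import Mathlib

/-! Helper lemmas on quasi-affine / ind-quasi-affine schemes and morphisms (helper20).
Used by S1397, S1399, S1400. -/

set_option autoImplicit false
universe u
open AlgebraicGeometry CategoryTheory Limits TopologicalSpace

namespace Groth.Agent.Lib.Helper20.QuasiAffine


/-- generalization of Mathlib's `IsQuasiAffine.of_forall_exists_mem_basicOpen` -/
theorem isQuasiAffine_of_forall_exists (X : Scheme.{u}) [CompactSpace X]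
    (H : ∀ x : X, ∃ r : Γ(X, ⊤), (X.basicOpen r).toScheme.IsQuasiAffine ∧ x ∈ X.basicOpen r) :
    X.IsQuasiAffine := by
  suffices IsOpenImmersion X.toSpecΓ by constructor
  have : QuasiSeparatedSpace X := by
    choose r hr hxr using H
    refine .of_isOpenCover (U := (X.basicOpen <| r ·))
      (eq_top_iff.mpr fun _ _ ↦ Opens.mem_iSup.mpr ⟨_, hxr _⟩)
      (fun _ ↦ isRetrocompact_basicOpen _) (fun x ↦ ?_)
    have := hr x
    have : QuasiSeparatedSpace (X.basicOpen (r x)).toScheme := inferInstance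
    exact (isQuasiSeparated_iff_quasiSeparatedSpace _ (X.basicOpen (r x)).2).mpr this
  refine IsZariskiLocalAtTarget.of_forall_source_exists_preimage _ fun x ↦ ?_
  obtain ⟨r, hr, hxr⟩ := H x
  refine ⟨PrimeSpectrum.basicOpen r, (X.toSpecΓ_preimage_basicOpen r).ge hxr, ?_⟩
  suffices IsOpenImmersion ((X.basicOpen r).ι ≫ X.toSpecΓ) by
    convert! this <;> rw [Scheme.toSpecΓ_preimage_basicOpen]
  rw [← Scheme.Opens.toSpecΓ_SpecMap_presheaf_map_top]
  have := isLocalization_basicOpen_of_qcqs isCompact_univ isQuasiSeparated_univ r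
  have hoi : IsOpenImmersion (X.basicOpen r).toSpecΓ := by
    delta Scheme.Opens.toSpecΓ
    infer_instance
  exact MorphismProperty.comp_mem _ (X.basicOpen r).toSpecΓ _ hoi (.of_isLocalization r)

theorem isQuasiAffine_of_le {X : Scheme.{u}} (O : X.Opens) (hO : MoreMor.IsIndQuasiAffine O.toScheme)
    {Q : Scheme.{u}} (j : Q ⟶ X) [IsOpenImmersion j] [CompactSpace Q] (hj : Set.range j ⊆ (O : Set X)) :
    Q.IsQuasiAffine := by
  have hr : Set.range j ⊆ Set.range O.ι := by rw [Scheme.Opens.range_ι]; exact hj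
  let j' : Q ⟶ O.toScheme := IsOpenImmersion.lift O.ι j hr
  have hfac : j' ≫ O.ι = j := IsOpenImmersion.lift_fac _ _ _
  have : IsOpenImmersion (j' ≫ O.ι) := by rw [hfac]; infer_instance
  have : IsOpenImmersion j' := IsOpenImmersion.of_comp j' O.ι
  have hc : IsCompact (j'.opensRange : Set O.toScheme) := by
    rw [Scheme.Hom.coe_opensRange]
    exact isCompact_range j'.continuous
  have := hO j'.opensRange hc
  exact Scheme.IsQuasiAffine.of_isImmersion j'.isoOpensRange.hom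


theorem exists_isCompact_opens_superset (X : Scheme.{u}) (K : Set X) (hK : IsCompact K) :
    ∃ P : X.Opens, IsCompact (P : Set X) ∧ K ⊆ P := by
  have h1 : ∀ x : X, ∃ V : X.Opens, IsAffineOpen V ∧ x ∈ V := by
    intro x
    obtain ⟨_, ⟨V, hV, rfl⟩, hxV, -⟩ := X.isBasis_affineOpens.exists_subset_of_mem_open
      (Set.mem_univ x) isOpen_univ
    exact ⟨V, hV, hxV⟩
  choose V hV hxV using h1
  obtain ⟨t, ht⟩ := hK.elim_finite_subcover (fun x : X => ((V x : X.Opens) : Set X))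
    (fun x => (V x).2) (fun x _ => Set.mem_iUnion.2 ⟨x, hxV x⟩)
  refine ⟨⨆ x ∈ t, V x, ?_, ?_⟩
  · simp only [Opens.coe_iSup]
    exact t.isCompact_biUnion fun x _ => (hV x).isCompact
  · simpa only [Opens.coe_iSup] using ht


theorem s1399 {X Y Z : Scheme.{u}} (f : X ⟶ Y) (g : Y ⟶ Z) (h : MoreMor.IsIndQuasiAffineHom (f ≫ g)) :
    MoreMor.IsIndQuasiAffineHom f := by
  intro V hV U hU
  have : IsAffine V.toScheme := hV
  have hcomp : CompactSpace U.toScheme := isCompact_iff_compactSpace.mp hU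
  let hh : U.toScheme ⟶ V.toScheme := U.ι ≫ (f ∣_ V)
  let j : U.toScheme ⟶ X := U.ι ≫ (f ⁻¹ᵁ V).ι
  have hjf : j ≫ f = hh ≫ V.ι := by
    simp only [j, hh, Category.assoc, morphismRestrict_ι]
  apply isQuasiAffine_of_forall_exists
  intro x
  obtain ⟨_, ⟨W, hW, rfl⟩, hxW, -⟩ := Z.isBasis_affineOpens.exists_subset_of_mem_open
    (Set.mem_univ ((hh ≫ V.ι ≫ g) x)) isOpen_univ
  let O' : V.toScheme.Opens := (V.ι ≫ g) ⁻¹ᵁ W
  have hx' : hh x ∈ O' := by
    show (V.ι ≫ g) (hh x) ∈ W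
    rw [← Scheme.Hom.comp_apply]
    exact hxW
  obtain ⟨_, ⟨_, ⟨r, rfl⟩, rfl⟩, hxr, hrO⟩ :=
    (isBasis_basicOpen V.toScheme).exists_subset_of_mem_open hx' O'.2
  refine ⟨hh.appTop r, ?_, ?_⟩
  · rw [← Scheme.preimage_basicOpen_top]
    have hQc : CompactSpace (hh ⁻¹ᵁ (V.toScheme.basicOpen r)).toScheme := by
      apply isCompact_iff_compactSpace.mp
      rw [Scheme.preimage_basicOpen_top]
      exact AlgebraicGeometry.isCompact_basicOpen U.toScheme (U := ⊤) isCompact_univ _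
    refine isQuasiAffine_of_le ((f ≫ g) ⁻¹ᵁ W) (h W hW) ((hh ⁻¹ᵁ (V.toScheme.basicOpen r)).ι ≫ j) ?_
    rintro _ ⟨q, rfl⟩
    show (f ≫ g) (((hh ⁻¹ᵁ (V.toScheme.basicOpen r)).ι ≫ j) q) ∈ W
    rw [← Scheme.Hom.comp_apply, Category.assoc, ← Category.assoc j, hjf, Category.assoc,
      Scheme.Hom.comp_apply, Scheme.Hom.comp_apply]
    exact hrO q.2
  · rw [← Scheme.preimage_basicOpen_top]
    exact hxr


theorem s1397 {X Y Z : Scheme.{u}} (f : X ⟶ Y) (g : Y ⟶ Z) (hf : MoreMor.IsIndQuasiAffineHom f)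
    (hg : MoreMor.IsIndQuasiAffineHom g) : MoreMor.IsIndQuasiAffineHom (f ≫ g) := by
  intro W hW U hU
  have hcomp : CompactSpace U.toScheme := isCompact_iff_compactSpace.mp hU
  let j : U.toScheme ⟶ X := U.ι ≫ ((f ≫ g) ⁻¹ᵁ W).ι
  -- lift j ≫ f through (g ⁻¹ᵁ W).ι
  have hb : Set.range (j ≫ f) ⊆ Set.range (g ⁻¹ᵁ W).ι := by
    rw [Scheme.Opens.range_ι]
    rintro _ ⟨u, rfl⟩
    show g ((j ≫ f) u) ∈ W
    have h0 : ((f ≫ g) ⁻¹ᵁ W).ι (U.ι u) ∈ (f ≫ g) ⁻¹ᵁ W := (U.ι u).2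
    have h1 : (f ≫ g) (((f ≫ g) ⁻¹ᵁ W).ι (U.ι u)) ∈ W := h0
    rw [Scheme.Hom.comp_apply] at h1
    rw [Scheme.Hom.comp_apply, Scheme.Hom.comp_apply]
    exact h1
  let b : U.toScheme ⟶ (g ⁻¹ᵁ W).toScheme := IsOpenImmersion.lift (g ⁻¹ᵁ W).ι (j ≫ f) hb
  have hbfac : b ≫ (g ⁻¹ᵁ W).ι = j ≫ f := IsOpenImmersion.lift_fac _ _ _
  obtain ⟨P, hP, hKP⟩ := exists_isCompact_opens_superset _ (Set.range b) (isCompact_range b.continuous)
  have hPqa : P.toScheme.IsQuasiAffine := hg W hW P hP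
  have hc : Set.range b ⊆ Set.range P.ι := by rw [Scheme.Opens.range_ι]; exact hKP
  let c : U.toScheme ⟶ P.toScheme := IsOpenImmersion.lift P.ι b hc
  have hcfac : c ≫ P.ι = b := IsOpenImmersion.lift_fac _ _ _
  have hjf : j ≫ f = c ≫ P.ι ≫ (g ⁻¹ᵁ W).ι := by rw [← Category.assoc, hcfac, hbfac]
  apply isQuasiAffine_of_forall_exists
  intro x
  obtain ⟨_, ⟨_, ⟨r, hr, rfl⟩, rfl⟩, hxr, -⟩ := (Scheme.IsQuasiAffine.isBasis_basicOpen
    P.toScheme).exists_subset_of_mem_open (Set.mem_univ (c x)) isOpen_univ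
  refine ⟨c.appTop r, ?_, ?_⟩
  · rw [← Scheme.preimage_basicOpen_top]
    have hQc : CompactSpace (c ⁻¹ᵁ (P.toScheme.basicOpen r)).toScheme := by
      apply isCompact_iff_compactSpace.mp
      rw [Scheme.preimage_basicOpen_top]
      exact AlgebraicGeometry.isCompact_basicOpen U.toScheme (U := ⊤) isCompact_univ _
    let V₀ : Y.Opens := (P.ι ≫ (g ⁻¹ᵁ W).ι) ''ᵁ (P.toScheme.basicOpen r)
    have hV₀ : IsAffineOpen V₀ := hr.image_of_isOpenImmersion _
    refine isQuasiAffine_of_le (f ⁻¹ᵁ V₀) (hf V₀ hV₀) ((c ⁻¹ᵁ (P.toScheme.basicOpen r)).ι ≫ j) ?_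
    rintro _ ⟨q, rfl⟩
    show f (((c ⁻¹ᵁ (P.toScheme.basicOpen r)).ι ≫ j) q) ∈ V₀
    rw [← Scheme.Hom.comp_apply, Category.assoc, hjf, ← Category.assoc, ← Category.assoc,
      Category.assoc _ P.ι, Scheme.Hom.comp_apply]
    exact ⟨_, q.2, rfl⟩
  · rw [← Scheme.preimage_basicOpen_top]
    exact hxr


theorem s1400 {X S X' S' : Scheme.{u}} (f : X ⟶ S) (f' : X' ⟶ S') (g' : X' ⟶ X) (g : S' ⟶ S)
    (hc : IsPullback g' f' f g) (hf : MoreMor.IsIndQuasiAffineHom f) :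
    MoreMor.IsIndQuasiAffineHom f' := by
  intro V' hV' U hU
  have : IsAffine V'.toScheme := hV'
  have hcomp : CompactSpace U.toScheme := isCompact_iff_compactSpace.mp hU
  let hh : U.toScheme ⟶ V'.toScheme := U.ι ≫ (f' ∣_ V')
  let j : U.toScheme ⟶ X' := U.ι ≫ (f' ⁻¹ᵁ V').ι
  have hjf : j ≫ f' = hh ≫ V'.ι := by
    simp only [j, hh, Category.assoc, morphismRestrict_ι]
  apply isQuasiAffine_of_forall_exists
  intro x
  obtain ⟨_, ⟨W₀, hW, rfl⟩, hxW, -⟩ := S.isBasis_affineOpens.exists_subset_of_mem_open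
    (Set.mem_univ ((hh ≫ V'.ι ≫ g) x)) isOpen_univ
  let W : S.Opens := W₀
  have hWa : IsAffineOpen W := hW
  let O' : V'.toScheme.Opens := (V'.ι ≫ g) ⁻¹ᵁ W
  have hx' : hh x ∈ O' := by
    show (V'.ι ≫ g) (hh x) ∈ W
    rw [← Scheme.Hom.comp_apply]
    exact hxW
  obtain ⟨_, ⟨_, ⟨r, rfl⟩, rfl⟩, hxr, hrO⟩ :=
    (isBasis_basicOpen V'.toScheme).exists_subset_of_mem_open hx' O'.2
  refine ⟨hh.appTop r, ?_, ?_⟩
  · rw [← Scheme.preimage_basicOpen_top]
    set Q := hh ⁻¹ᵁ (V'.toScheme.basicOpen r) with hQ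
    have hQc : CompactSpace Q.toScheme := by
      apply isCompact_iff_compactSpace.mp
      rw [hQ, Scheme.preimage_basicOpen_top]
      exact AlgebraicGeometry.isCompact_basicOpen U.toScheme (U := ⊤) isCompact_univ _
    let D : S'.Opens := V'.ι ''ᵁ (V'.toScheme.basicOpen r)
    have hD : IsAffineOpen D :=
      ((isAffineOpen_top V'.toScheme).basicOpen r).image_of_isOpenImmersion V'.ι
    have hDW : D ≤ g ⁻¹ᵁ W := by
      rintro _ ⟨y, hy, rfl⟩
      have := hrO hy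
      exact this
    let UY : X'.Opens := g' ⁻¹ᵁ (f ⁻¹ᵁ W) ⊓ f' ⁻¹ᵁ D
    have hpb := Scheme.Hom.isPullback_resLE hc (US := W) (UT := D) (UX := f ⁻¹ᵁ W) hDW le_rfl
      (UY := UY) rfl
    have : IsAffine D.toScheme := hD
    have : IsAffine W.toScheme := hWa
    have haff : IsAffineHom (g'.resLE (f ⁻¹ᵁ W) UY (by simp [UY])) :=
      MorphismProperty.of_isPullback hpb.flip inferInstance
    set a := g'.resLE (f ⁻¹ᵁ W) UY (by simp [UY]) with ha
    let jQ : Q.toScheme ⟶ X' := Q.ι ≫ j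
    have hjQ : Set.range jQ ⊆ Set.range UY.ι := by
      rw [Scheme.Opens.range_ι]
      rintro _ ⟨q, rfl⟩
      have h1 : f' (jQ q) ∈ D := by
        show f' ((Q.ι ≫ j) q) ∈ D
        rw [← Scheme.Hom.comp_apply, Category.assoc, hjf, ← Category.assoc, Scheme.Hom.comp_apply]
        exact ⟨_, q.2, rfl⟩
      refine ⟨?_, h1⟩
      show f (g' (jQ q)) ∈ W
      rw [← Scheme.Hom.comp_apply, hc.w, Scheme.Hom.comp_apply]
      exact hDW h1
    let jQ' : Q.toScheme ⟶ UY.toScheme := IsOpenImmersion.lift UY.ι jQ hjQ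
    have hfac : jQ' ≫ UY.ι = jQ := IsOpenImmersion.lift_fac _ _ _
    have : IsOpenImmersion (jQ' ≫ UY.ι) := by rw [hfac]; infer_instance
    have hoi : IsOpenImmersion jQ' := IsOpenImmersion.of_comp jQ' UY.ι
    obtain ⟨P, hP, hKP⟩ := exists_isCompact_opens_superset _ (Set.range (jQ' ≫ a))
      (isCompact_range (jQ' ≫ a).continuous)
    have hPqa : P.toScheme.IsQuasiAffine := hf W hW P hP
    have haff' : IsAffineHom a := haff
    have : IsAffineHom (a ∣_ P) := IsZariskiLocalAtTarget.restrict haff' P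
    have hP'qa : (a ⁻¹ᵁ P).toScheme.IsQuasiAffine := Scheme.IsQuasiAffine.of_isAffineHom (a ∣_ P)
    have hjQ'' : Set.range jQ' ⊆ Set.range (a ⁻¹ᵁ P).ι := by
      rw [Scheme.Opens.range_ι]
      rintro _ ⟨q, rfl⟩
      show a (jQ' q) ∈ P
      rw [← Scheme.Hom.comp_apply]
      exact hKP ⟨q, rfl⟩
    let jQ'' : Q.toScheme ⟶ (a ⁻¹ᵁ P).toScheme := IsOpenImmersion.lift (a ⁻¹ᵁ P).ι jQ' hjQ''
    have hfac' : jQ'' ≫ (a ⁻¹ᵁ P).ι = jQ' := IsOpenImmersion.lift_fac _ _ _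
    have : IsOpenImmersion (jQ'' ≫ (a ⁻¹ᵁ P).ι) := by rw [hfac']; exact hoi
    have hoi' : IsOpenImmersion jQ'' := IsOpenImmersion.of_comp jQ'' (a ⁻¹ᵁ P).ι
    exact Scheme.IsQuasiAffine.of_isImmersion jQ''
  · rw [← Scheme.preimage_basicOpen_top]
    exact hxr


end Groth.Agent.Lib.Helper20.QuasiAffine
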