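import Groth.Agent.Lib.Helper20.UnivHomeo
set_option autoImplicit false
universe u
namespace Groth.Agent.Lib.Helper20.ResDeg
open AlgebraicGeometry CategoryTheory Limits

/-- core: the residue field at a point of `Spec`-like data is spanned by the images of module
generators -/
theorem finrank_le_card_of_span {K L A B : Type*} [Field K] [Field L] [Algebra K L]
    [CommRing A] [CommRing B] [Algebra A B] (evA : A →+* K) (evB : B →+* L)
    (hcomm : ∀ a : A, algebraMap K L (evA a) = evB (algebraMap A B a))
    (G : Finset B) (hG : Submodule.span A (G : Set B) = ⊤)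
    (hfrac : ∀ y : L, ∃ b s : B, evB s ≠ 0 ∧ y * evB s = evB b) :
    FiniteDimensional K L ∧ Module.finrank K L ≤ G.card := by
  classical
  set E : Submodule K L := Submodule.span K ((G.image evB : Finset L) : Set L) with hE
  have hmem : ∀ b : B, evB b ∈ E := by
    intro b
    have hb : b ∈ Submodule.span A (G : Set B) := hG ▸ Submodule.mem_top
    induction hb using Submodule.span_induction with
    | mem g hg => exact Submodule.subset_span (by simpa using ⟨g, hg, rfl⟩)
    | zero => rw [map_zero]; exact zero_mem _
    | add x y _ _ hx hy => rw [map_add]; exact add_mem hx hy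
    | smul a x _ hx =>
      rw [Algebra.smul_def, map_mul, ← hcomm, ← Algebra.smul_def]
      exact Submodule.smul_mem _ _ hx
  -- the subalgebra generated by the image
  let S : Subalgebra K L := Algebra.adjoin K (Set.range evB)
  have hS : Subalgebra.toSubmodule S ≤ E := by
    rw [Algebra.adjoin_eq_span, Submodule.span_le]
    have : (Submonoid.closure (Set.range evB) : Set L) = Set.range evB := by
      have h1 : Set.range evB = (MonoidHom.mrange (evB : B →* L) : Set L) := by
        ext; simp
      rw [h1, Submonoid.closure_eq]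
    rw [this]
    rintro _ ⟨b, rfl⟩
    exact hmem b
  have hEfin : Module.Finite K E := Module.Finite.span_finset K _
  have hSfin : Module.Finite K S := by
    have : Module.Finite K (Subalgebra.toSubmodule S) :=
      Module.Finite.of_injective (Submodule.inclusion hS) (Submodule.inclusion_injective hS)
    exact this
  have hStop : S = ⊤ := by
    rw [eq_top_iff]
    intro y _
    obtain ⟨b, s, hs, hy⟩ := hfrac y
    have hbS : evB b ∈ S := Algebra.subset_adjoin ⟨b, rfl⟩
    have hsS : evB s ∈ S := Algebra.subset_adjoin ⟨s, rfl⟩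
    have halg : IsAlgebraic K (evB s) := by
      have : IsIntegral K (⟨evB s, hsS⟩ : S) := IsIntegral.of_finite K _
      have h2 := this.map S.val
      exact h2.isAlgebraic
    have hinv : (evB s)⁻¹ ∈ S := S.inv_mem_of_algebraic (x := ⟨evB s, hsS⟩) halg
    have : y = evB b * (evB s)⁻¹ := by
      rw [← hy, mul_assoc, mul_inv_cancel₀ hs, mul_one]
    rw [this]
    exact mul_mem hbS hinv
  have hEtop : E = ⊤ := by
    rw [eq_top_iff]
    intro y _
    have : y ∈ S := hStop ▸ Algebra.mem_top
    exact hS this
  have hfd : FiniteDimensional K L := by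
    have : Module.Finite K (⊤ : Submodule K L) := hEtop ▸ hEfin
    exact Module.Finite.of_surjective (⊤ : Submodule K L).subtype
      (fun y => ⟨⟨y, Submodule.mem_top⟩, rfl⟩)
  refine ⟨hfd, ?_⟩
  calc Module.finrank K L = Module.finrank K (⊤ : Submodule K L) := (finrank_top K L).symm
    _ = Module.finrank K E := by rw [hEtop]
    _ ≤ (G.image evB).card := finrank_span_finset_le_card _
    _ ≤ G.card := Finset.card_image_le


theorem exists_evaluation_frac {X : Scheme.{u}} {U : X.Opens} (hU : IsAffineOpen U) (x : X)
    (hx : x ∈ U) (y : X.residueField x) :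
    ∃ b s : Γ(X, U), (X.evaluation U x hx).hom s ≠ 0 ∧
      y * (X.evaluation U x hx).hom s = (X.evaluation U x hx).hom b := by
  obtain ⟨z, rfl⟩ := X.residue_surjective x y
  let _ := X.presheaf.algebra_section_stalk ⟨x, hx⟩
  have hloc := hU.isLocalization_stalk ⟨x, hx⟩
  obtain ⟨⟨b, s⟩, hbs⟩ := IsLocalization.surj (hU.primeIdealOf ⟨x, hx⟩).asIdeal.primeCompl z
  have hunit : IsUnit (algebraMap Γ(X, U) (X.presheaf.stalk x) s) :=
    IsLocalization.map_units (X.presheaf.stalk x) s
  refine ⟨b, s, ?_, ?_⟩
  · have : IsUnit ((X.residue x).hom (algebraMap Γ(X, U) (X.presheaf.stalk x) s)) :=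
      hunit.map (X.residue x).hom
    exact this.ne_zero
  · have := congrArg (X.residue x).hom hbs
    rw [map_mul] at this
    exact this


theorem finrank_le_of_affine {T' T : Scheme.{u}} (p : T' ⟶ T) [IsAffineHom p] {V : T.Opens}
    (hV : IsAffineOpen V) (G : Finset Γ(T', p ⁻¹ᵁ V))
    (hG : @Submodule.span Γ(T, V) Γ(T', p ⁻¹ᵁ V) _ _ (p.app V).hom.toAlgebra.toModule
      (G : Set _) = ⊤)
    (t' : T') (ht' : p t' ∈ V) :
    @FiniteDimensional (T.residueField (p t')) (T'.residueField t') _ _
        (p.residueFieldMap t').hom.toAlgebra.toModule ∧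
      @Module.finrank (T.residueField (p t')) (T'.residueField t') _ _
        (p.residueFieldMap t').hom.toAlgebra.toModule ≤ G.card := by
  letI := (p.app V).hom.toAlgebra
  letI := (p.residueFieldMap t').hom.toAlgebra
  exact finrank_le_card_of_span (T.evaluation V (p t') ht').hom
    (T'.evaluation (p ⁻¹ᵁ V) t' ht').hom
    (fun a => Scheme.evaluation_naturality_apply p t' ht' a) G hG
    (exists_evaluation_frac (hV.preimage p) t' ht')

/-- uniform bound on residue degrees of a finite morphism to a quasi-compact scheme -/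
theorem exists_bound_finrank {T' T : Scheme.{u}} (p : T' ⟶ T) [IsFinite p] [CompactSpace T] :
    ∃ N : ℕ, ∀ t' : T',
      @FiniteDimensional (T.residueField (p t')) (T'.residueField t') _ _
        (p.residueFieldMap t').hom.toAlgebra.toModule ∧
      @Module.finrank (T.residueField (p t')) (T'.residueField t') _ _
        (p.residueFieldMap t').hom.toAlgebra.toModule ≤ N := by
  classical
  have hcov : (Set.univ : Set T) ⊆ ⋃ V : T.affineOpens, ((V : T.Opens) : Set T) := by
    intro x _
    have : x ∈ (⨆ V : T.affineOpens, (V : T.Opens)) := by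
      rw [iSup_affineOpens_eq_top]; trivial
    simpa [TopologicalSpace.Opens.mem_iSup] using this
  obtain ⟨t, ht⟩ := isCompact_univ.elim_finite_subcover
    (fun V : T.affineOpens => ((V : T.Opens) : Set T)) (fun V => V.1.isOpen) hcov
  have hfin : ∀ V : T.affineOpens, ∃ G : Finset Γ(T', p ⁻¹ᵁ V.1),
      @Submodule.span Γ(T, V.1) Γ(T', p ⁻¹ᵁ V.1) _ _ (p.app V.1).hom.toAlgebra.toModule
        (G : Set _) = ⊤ := by
    intro V
    have h := IsFinite.finite_app p V.1 V.2
    letI := (p.app V.1).hom.toAlgebra
    have h' : Module.Finite Γ(T, V.1) Γ(T', p ⁻¹ᵁ V.1) := h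
    exact h'.fg_top
  choose G hG using hfin
  refine ⟨t.sup fun V => (G V).card, fun t' => ?_⟩
  obtain ⟨V, hVt, hV⟩ : ∃ V ∈ t, p t' ∈ (V : T.Opens) := by
    have := ht (Set.mem_univ (p t'))
    simpa using this
  obtain ⟨h1, h2⟩ := finrank_le_of_affine p V.2 (G V) (hG V) t' hV
  exact ⟨h1, h2.trans (Finset.le_sup (f := fun V => (G V).card) hVt)⟩

end Groth.Agent.Lib.Helper20.ResDeg
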