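import Mathlib
import Groth.Prelude.Def_CInt
import Groth.Agent.Lib.Helper72.SchDense
import Groth.Agent.Lib.Helper72.SchDominant

/-!
# F1: morphisms to a separated scheme agreeing on a schematically dense open are equal
-/

set_option autoImplicit false

universe u

open CategoryTheory CategoryTheory.Limits AlgebraicGeometry TopologicalSpace

namespace Groth.Agent.Lib.Helper20.SDF1

/-- A schematically dense open immersion is scheme-theoretically dominant (no quasi-compactness
needed: Mathlib's `ker` is always contained in the honest kernels). -/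
theorem dominant_of_isSchematicallyDense {X : Scheme.{u}} (V : X.Opens)
    (hV : CInt.IsSchematicallyDense V) : IsSchemeTheoreticallyDominant V.ι := by
  rw [isSchemeTheoreticallyDominant_iff]
  apply Scheme.IdealSheafData.ext
  funext W
  rw [Scheme.IdealSheafData.ideal_bot, Pi.bot_apply, eq_bot_iff]
  refine (Scheme.Hom.ideal_ker_le V.ι W).trans ?_
  rw [le_bot_iff, ← RingHom.injective_iff_ker_eq_bot]
  exact (Groth.Agent.Lib.Helper72.SchDense.isSchematicallyDense_iff_ι_app_injective V).1 hV W.1

set_option backward.isDefEq.respectTransparency false in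
theorem F1 {T Y S : Scheme.{u}} (pY : Y ⟶ S) [IsSeparated pY] (a b : T ⟶ Y)
    (hab : a ≫ pY = b ≫ pY) (D : T.Opens) (hD : CInt.IsSchematicallyDense D)
    (h : D.ι ≫ a = D.ι ≫ b) : a = b := by
  have hdom : IsSchemeTheoreticallyDominant D.ι := dominant_of_isSchematicallyDense D hD
  let X' : Over S := Over.mk (a ≫ pY)
  let Y' : Over S := Over.mk pY
  let U' : Over S := Over.mk (D.ι ≫ a ≫ pY)
  let f' : X' ⟶ Y' := Over.homMk a
  let g' : X' ⟶ Y' := Over.homMk b hab.symm
  let ι' : U' ⟶ X' := Over.homMk D.ι
  have : IsSeparated Y'.hom := ‹_›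
  have hι : ι' ≫ f' = ι' ≫ g' := by ext1; exact h
  have hcl : IsClosedImmersion (equalizer.ι f' g').left := inferInstance
  obtain ⟨g, hg⟩ := Groth.Agent.Lib.Helper72.SchDominant.exists_lift_of_dominant D.ι (𝟙 T)
    (equalizer.ι f' g').left (equalizer.lift ι' hι).left (by
      rw [← Over.comp_left, equalizer.lift_ι]; simp [ι'])
  have hc : (equalizer.ι f' g').left ≫ a = (equalizer.ι f' g').left ≫ b :=
    congr($(equalizer.condition f' g').left)
  calc a = (g ≫ (equalizer.ι f' g').left) ≫ a := by rw [hg, Category.id_comp]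
    _ = (g ≫ (equalizer.ι f' g').left) ≫ b := by rw [Category.assoc, hc, Category.assoc]
    _ = b := by rw [hg, Category.id_comp]

end Groth.Agent.Lib.Helper20.SDF1
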