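import Groth.Agent.Lib.Helper20.ImageUH2
set_option autoImplicit false
universe u
namespace Groth.Agent.Lib.Helper20.Seminormal
open AlgebraicGeometry CategoryTheory Limits
open Groth.Agent.Lib.Helper20.UnivHomeo
open Groth.Agent.Lib.Helper20.AwnScheme
open Groth.Agent.Lib.Helper20.ImageUH

section LocSN

variable {W W' : Type u} [CommRing W] [CommRing W'] [Algebra W W'] (M : Submonoid W)
  [IsLocalization M W']

include M in
theorem isSeminormalRing_of_isLocalization (hW : HTop.IsSeminormalRing W) :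
    HTop.IsSeminormalRing W' := by
  have hWred : IsReduced W := Groth.Agent.S7423.isReduced_of_isSeminormalRing hW
  have hred : IsReduced W' := isReduced_localizationPreserves M W' hWred
  set ι := algebraMap W W' with hι
  intro x y hxy
  have hex : ∃ a' : W', x = a' ^ 2 ∧ y = a' ^ 3 := by
    obtain ⟨s, u₁, v₁, hu₁, hv₁⟩ := exists_common_den M x y
    have hxu : x * ι s ^ 2 = ι (u₁ * s) := by
      rw [map_mul, ← hu₁]; ring
    have hyv : y * ι s ^ 3 = ι (v₁ * s ^ 2) := by
      rw [map_mul, map_pow, ← hv₁]; ring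
    have heq : ι ((u₁ * s) ^ 3) = ι ((v₁ * s ^ 2) ^ 2) := by
      rw [map_pow, map_pow, ← hxu, ← hyv, mul_pow, mul_pow, hxy]; ring
    obtain ⟨t, ht⟩ := (IsLocalization.eq_iff_exists M W').mp heq
    obtain ⟨a, ⟨ha2, ha3⟩, -⟩ := hW ((t : W) ^ 2 * (u₁ * s)) ((t : W) ^ 3 * (v₁ * s ^ 2)) (by
      have : ((t : W) ^ 2 * (u₁ * s)) ^ 3 = (t : W) ^ 5 * (t * (u₁ * s) ^ 3) := by ring
      rw [this, ht]; ring)
    have hτ : IsUnit (ι t * ι s) := by
      have := IsLocalization.map_units W' (t * s)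
      simpa [Submonoid.coe_mul, map_mul] using this
    have hmk : IsLocalization.mk' W' a (t * s) * (ι t * ι s) = ι a := by
      have := IsLocalization.mk'_spec W' a (t * s)
      simpa [Submonoid.coe_mul, map_mul] using this
    refine ⟨IsLocalization.mk' W' a (t * s), ?_, ?_⟩
    · apply (hτ.pow 2).mul_left_injective
      simp only
      rw [← mul_pow, hmk, ← map_pow, ← ha2]
      rw [show x * (ι t * ι s) ^ 2 = ι t ^ 2 * (x * ι s ^ 2) by ring, hxu]
      simp only [map_mul, map_pow]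
    · apply (hτ.pow 3).mul_left_injective
      simp only
      rw [← mul_pow, hmk, ← map_pow, ← ha3]
      rw [show y * (ι t * ι s) ^ 3 = ι t ^ 3 * (y * ι s ^ 3) by ring, hyv]
      simp only [map_mul, map_pow]
  obtain ⟨a', h2, h3⟩ := hex
  refine ⟨a', ⟨h2, h3⟩, ?_⟩
  rintro a'' ⟨h2', h3'⟩
  have hn : IsNilpotent (a'' - a') := by
    apply isNilpotent_sub_of_sq_cube
    · rw [← h2, ← h2', sub_self]; exact IsNilpotent.zero
    · rw [← h3, ← h3', sub_self]; exact IsNilpotent.zero
  exact sub_eq_zero.mp hn.eq_zero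

end LocSN

/-- Lemma R -/
theorem bijective_of_uh_resTriv_of_isSeminormalRing {A C : Type u} [CommRing A] [CommRing C]
    [Algebra A C] (hA : HTop.IsSeminormalRing A) (hC : UH A C) (hRT : ResTriv A C) [IsReduced C] :
    Function.Bijective (algebraMap A C) := by
  have hAred : IsReduced A := Groth.Agent.S7423.isReduced_of_isSeminormalRing hA
  have hinj : Function.Injective (algebraMap A C) := by
    rw [injective_iff_map_eq_zero]
    intro a ha
    exact (hC.ker_nil a ha).eq_zero
  refine ⟨hinj, ?_⟩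
  by_contra hns
  obtain ⟨c, hc, ⟨x, hx⟩, ⟨y, hy⟩⟩ := global_resTriv hC hRT hns
  have hxy : x ^ 3 = y ^ 2 := by
    apply hinj
    rw [map_pow, map_pow, hx, hy]; ring
  obtain ⟨a, ⟨h2, h3⟩, -⟩ := hA x y hxy
  have hn : IsNilpotent (algebraMap A C a - c) := by
    apply isNilpotent_sub_of_sq_cube
    · rw [← map_pow, ← h2, hx, sub_self]; exact IsNilpotent.zero
    · rw [← map_pow, ← h3, hy, sub_self]; exact IsNilpotent.zero
  exact hc ⟨a, sub_eq_zero.mp hn.eq_zero⟩


theorem residueFieldsIso_SpecMap_app {X Y : Scheme.{u}} (π : Y ⟶ X) (hπ : FlatMor.IsUnivHomeo π)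
    (hr : HTop.ResidueFieldsIso π) (U : X.AffineZariskiSite) :
    HTop.ResidueFieldsIso (Spec.map (π.app U.toOpens)) := by
  have hU' := isAffineOpen_preimage π hπ U
  have hU : IsAffineOpen U.toOpens := U.2
  have sq : hU'.fromSpec ≫ π = Spec.map (π.app U.toOpens) ≫ hU.fromSpec := by
    rw [Scheme.Hom.app_eq_appLE]
    exact (IsAffineOpen.SpecMap_appLE_fromSpec π hU hU' le_rfl).symm
  intro y
  have h1 : IsIso ((hU'.fromSpec ≫ π).residueFieldMap y) := by
    rw [Scheme.residueFieldMap_comp]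
    exact IsIso.comp_isIso' (hr _) inferInstance
  rw [Scheme.Hom.residueFieldMap_congr sq, Scheme.residueFieldMap_comp] at h1
  have h2 := @IsIso.of_isIso_comp_left _ _ _ _ _ _ _ inferInstance h1
  have h3 : IsIso (hU.fromSpec.residueFieldMap ((Spec.map (π.app U.toOpens)) y)) := inferInstance
  exact @IsIso.of_isIso_comp_left _ _ _ _ _ _ _ h3 h2


theorem resTriv_app {X Y : Scheme.{u}} (π : Y ⟶ X) (hπ : FlatMor.IsUnivHomeo π)
    (hr : HTop.ResidueFieldsIso π) (U : X.AffineZariskiSite) :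
    letI := (π.app U.toOpens).hom.toAlgebra
    ResTriv Γ(X, U.toOpens) Γ(Y, π ⁻¹ᵁ U.toOpens) := by
  letI := (π.app U.toOpens).hom.toAlgebra
  have h := residueFieldsIso_SpecMap_app π hπ hr U
  refine (forall_surjective_residueFieldMap_iff (A := Γ(X, U.toOpens))
    (B := Γ(Y, π ⁻¹ᵁ U.toOpens))).mp fun x => ?_
  have := h x
  exact ((ConcreteCategory.isIso_iff_bijective _).mp this).2

theorem isIso_of_uh_rfi_of_forall {X Y : Scheme.{u}} (π : Y ⟶ X) (hπ : FlatMor.IsUnivHomeo π)
    (hr : HTop.ResidueFieldsIso π) [IsReduced Y] {ι : Type*} (U : ι → X.affineOpens)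
    (hsup : ⨆ i, (U i : X.Opens) = ⊤) (hU : ∀ i, HTop.IsSeminormalRing Γ(X, U i)) : IsIso π := by
  have haff : IsAffineHom π := isAffineHom_of_uh π hπ
  change MorphismProperty.isomorphisms Scheme π
  rw [IsZariskiLocalAtTarget.iff_of_iSup_eq_top (P := MorphismProperty.isomorphisms Scheme) _ hsup]
  intro i
  change IsIso (π ∣_ (U i : X.Opens))
  rw [isIso_morphismRestrict_iff_isIso_app π (U i).2]
  let V : X.AffineZariskiSite := ⟨(U i : X.Opens), (U i).2⟩
  letI := (π.app V.toOpens).hom.toAlgebra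
  have huh := uh_app π hπ V
  have hrt := resTriv_app π hπ hr V
  have hbij : Function.Bijective (π.app V.toOpens).hom :=
    bijective_of_uh_resTriv_of_isSeminormalRing (hU i) huh hrt
  exact (ConcreteCategory.isIso_iff_bijective (π.app V.toOpens)).mpr hbij

theorem isIso_of_uh_rfi_of_isSeminormal {X Y : Scheme.{u}} (π : Y ⟶ X) (hπ : FlatMor.IsUnivHomeo π)
    (hr : HTop.ResidueFieldsIso π) (hX : HTop.IsSeminormal X) [IsReduced Y] : IsIso π := by
  choose U hxU hU using hX
  have hsup : ⨆ x, (U x : X.Opens) = ⊤ := by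
    rw [eq_top_iff]
    intro x _
    exact TopologicalSpace.Opens.mem_iSup.mpr ⟨x, hxU x⟩
  exact isIso_of_uh_rfi_of_forall π hπ hr U hsup hU

theorem isIso_of_isSeminormalization {X' X : Scheme.{u}} (ν : X' ⟶ X)
    (hν : HTop.IsSeminormalization ν) (hX : HTop.IsSeminormal X) : IsIso ν := by
  have := isReduced_of_isSeminormalization ν hν
  exact isIso_of_uh_rfi_of_isSeminormal ν hν.1.1 hν.1.2 hX

end Groth.Agent.Lib.Helper20.Seminormal
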