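import Groth.Agent.Lib.Helper20.Seminormal
set_option autoImplicit false
universe u
namespace Groth.Agent.Lib.Helper20.Seminormal
open AlgebraicGeometry CategoryTheory Limits
open Groth.Agent.Lib.Helper20.UnivHomeo
open AlgebraicGeometry.Scheme.Pullback

/-- for a ring (in `CommRingCat`) which is a field, the map to the residue field at a point of its
spectrum is an isomorphism -/
theorem isIso_algebraMap_residueField_of_isField (R : CommRingCat.{u}) (hR : IsField R)
    (p : Spec R) : IsIso (CommRingCat.ofHom (algebraMap R p.asIdeal.ResidueField)) := by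
  letI := hR.toField
  have hmax : p.asIdeal.IsMaximal := by
    have : p.asIdeal = ⊥ := Ideal.eq_bot_of_prime p.asIdeal
    rw [this]; exact Ideal.bot_isMaximal
  rw [ConcreteCategory.isIso_iff_bijective]
  exact ⟨(algebraMap R p.asIdeal.ResidueField).injective,
    Ideal.algebraMap_residueField_surjective p.asIdeal⟩

variable {X Y S : Scheme.{u}} {f : X ⟶ S} {g : Y ⟶ S}

theorem isIso_tensorInr (hf : HTop.ResidueFieldsIso f) (T : Triplet f g) : IsIso T.tensorInr := by
  have : IsIso ((S.residueFieldCongr T.hx).inv ≫ f.residueFieldMap T.x) :=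
    IsIso.comp_isIso' inferInstance (hf T.x)
  exact pushout_inr_iso_of_left_iso _ _

theorem isField_tensor (hf : HTop.ResidueFieldsIso f) (T : Triplet f g) : IsField T.tensor := by
  have := isIso_tensorInr hf T
  exact MulEquiv.isField (Field.toIsField (Y.residueField T.y))
    (asIso T.tensorInr).commRingCatIsoToRingEquiv.symm.toMulEquiv


theorem isIso_ofPointTensor_SpecTensorTo (hf : HTop.ResidueFieldsIso f) (T : Triplet f g)
    (p : Spec T.tensor) : IsIso (ofPointTensor (T.SpecTensorTo p)) := by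
  set t' := T.SpecTensorTo p with ht'
  let c := (Triplet.tensorCongr (T.ofPoint_SpecTensorTo p).symm).hom
  let o := ofPointTensor t'
  let r := Scheme.Hom.residueFieldMap T.SpecTensorTo p
  have E := Triplet.Spec_ofPointTensor_SpecTensorTo T p
  rw [← Scheme.Spec.map_residueFieldIso_inv_eq_fromSpecResidueField, ← Spec.map_comp,
    ← Spec.map_comp, ← Spec.map_comp] at E
  have E' : c ≫ o ≫ r = CommRingCat.ofHom (algebraMap T.tensor p.asIdeal.ResidueField) ≫
      (Scheme.Spec.residueFieldIso T.tensor p).inv := by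
    have := Spec.map_injective E
    simpa [Category.assoc] using this
  have h1 : IsIso (CommRingCat.ofHom (algebraMap T.tensor p.asIdeal.ResidueField)) :=
    isIso_algebraMap_residueField_of_isField T.tensor (isField_tensor hf T) p
  have h2 : IsIso (c ≫ o ≫ r) := by rw [E']; infer_instance
  have h3 : IsIso (o ≫ r) := IsIso.of_isIso_comp_left c (o ≫ r)
  have hr : IsIso r := by
    rw [ConcreteCategory.isIso_iff_bijective]
    refine ⟨r.hom.injective, fun y => ?_⟩
    obtain ⟨z, hz⟩ := ((ConcreteCategory.isIso_iff_bijective _).mp h3).2 y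
    exact ⟨o z, hz⟩
  exact IsIso.of_isIso_comp_right o r


theorem isIso_ofPointTensor (hf : HTop.ResidueFieldsIso f) (t : ↑(pullback f g)) :
    IsIso (ofPointTensor t) := by
  have h := isIso_ofPointTensor_SpecTensorTo hf (Triplet.ofPoint t) (SpecOfPoint t)
  have e := SpecTensorTo_SpecOfPoint t
  exact Eq.mp (congrArg (fun t' => IsIso (ofPointTensor (f := f) (g := g) t')) e) h

theorem residueFieldsIso_pullback_snd (hf : HTop.ResidueFieldsIso f) :
    HTop.ResidueFieldsIso (pullback.snd f g) := by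
  intro t
  have e : (Triplet.ofPoint t).tensorInr ≫ ofPointTensor t =
      (pullback.snd f g).residueFieldMap t := pushout.inr_desc _ _ _
  rw [← e]
  exact IsIso.comp_isIso' (isIso_tensorInr hf (Triplet.ofPoint t)) (isIso_ofPointTensor hf t)


theorem residueFieldsIso_of_isOpenImmersion {X Y : Scheme.{u}} (e : X ⟶ Y) [IsOpenImmersion e] :
    HTop.ResidueFieldsIso e := fun _ => inferInstance

theorem residueFieldsIso_pullback_fst {X Y S : Scheme.{u}} {f : X ⟶ S} {g : Y ⟶ S}
    (hg : HTop.ResidueFieldsIso g) : HTop.ResidueFieldsIso (pullback.fst f g) := by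
  rw [← pullbackSymmetry_hom_comp_snd]
  exact Groth.Agent.Lib.Helper20.ImageUH.residueFieldsIso_comp _ _
    (residueFieldsIso_of_isOpenImmersion _) (residueFieldsIso_pullback_snd hg)

/-- cancel an open immersion on the right -/
theorem residueFieldsIso_of_comp_isOpenImmersion {X Y Z : Scheme.{u}} (a : X ⟶ Y) (b : Y ⟶ Z)
    [IsOpenImmersion b] (h : HTop.ResidueFieldsIso (a ≫ b)) : HTop.ResidueFieldsIso a := by
  intro x
  have h1 := h x
  rw [Scheme.residueFieldMap_comp] at h1
  have h3 : IsIso (b.residueFieldMap (a x)) := inferInstance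
  exact @IsIso.of_isIso_comp_left _ _ _ _ _ _ _ h3 h1

theorem residueFieldsIso_morphismRestrict {X' X : Scheme.{u}} (ν : X' ⟶ X)
    (hν : HTop.ResidueFieldsIso ν) (U : X.Opens) : HTop.ResidueFieldsIso (ν ∣_ U) := by
  apply residueFieldsIso_of_comp_isOpenImmersion (ν ∣_ U) U.ι
  rw [morphismRestrict_ι]
  exact Groth.Agent.Lib.Helper20.ImageUH.residueFieldsIso_comp _ _
    (residueFieldsIso_of_isOpenImmersion _) hν

theorem isUnivHomeo_morphismRestrict {X' X : Scheme.{u}} (ν : X' ⟶ X)
    (hν : FlatMor.IsUnivHomeo ν) (U : X.Opens) : FlatMor.IsUnivHomeo (ν ∣_ U) :=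
  MorphismProperty.of_isPullback (isPullback_morphismRestrict ν U).flip hν

theorem isSeminormalRing_of_equiv {B W : Type u} [CommRing B] [CommRing W] (e : B ≃+* W)
    (h : HTop.IsSeminormalRing W) : HTop.IsSeminormalRing B := by
  intro x y hxy
  obtain ⟨a', ⟨h2, h3⟩, hu⟩ := h (e x) (e y) (by rw [← map_pow, ← map_pow, hxy])
  refine ⟨e.symm a', ⟨?_, ?_⟩, ?_⟩
  · apply e.injective; rw [map_pow, e.apply_symm_apply, h2]
  · apply e.injective; rw [map_pow, e.apply_symm_apply, h3]
  · rintro b ⟨hb2, hb3⟩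
    have := hu (e b) ⟨by rw [hb2, map_pow], by rw [hb3, map_pow]⟩
    rw [← this, e.symm_apply_apply]

theorem exists_affine_isSeminormalRing {X Z : Scheme.{u}} (j : Z ⟶ X) [IsOpenImmersion j]
    [IsAffine Z] (hZ : HTop.IsSeminormalRing Γ(Z, ⊤)) (x : X) (hx : x ∈ Set.range j) :
    ∃ U : X.affineOpens, x ∈ (U : X.Opens) ∧ HTop.IsSeminormalRing Γ(X, U) := by
  refine ⟨⟨j.opensRange, isAffineOpen_opensRange j⟩, hx, ?_⟩
  have : HTop.IsSeminormalRing Γ(X, j ''ᵁ ⊤) :=
    isSeminormalRing_of_equiv (j.appIso ⊤).commRingCatIsoToRingEquiv hZ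
  rw [Scheme.Hom.image_top_eq_opensRange] at this
  exact this


theorem isSeminormal_opens {X : Scheme.{u}} (h : HTop.IsSeminormal X) (V : X.Opens) :
    HTop.IsSeminormal (V : Scheme.{u}) := by
  intro v
  obtain ⟨W, hvW, hW⟩ := h v.1
  obtain ⟨r, hrle, hvr⟩ := W.2.exists_basicOpen_le ⟨v.1, v.2⟩ hvW
  have hD : IsAffineOpen (X.basicOpen r) := W.2.basicOpen r
  have hloc : IsLocalization.Away r Γ(X, X.basicOpen r) := W.2.isLocalization_basicOpen r
  have hsn : HTop.IsSeminormalRing Γ(X, X.basicOpen r) :=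
    isSeminormalRing_of_isLocalization (.powers r) hW
  have : IsAffine (X.basicOpen r : Scheme.{u}) := hD
  refine exists_affine_isSeminormalRing (X.homOfLE hrle) ?_ v ⟨⟨v.1, hvr⟩, ?_⟩
  · exact isSeminormalRing_of_equiv (X.basicOpen r).topIso.commRingCatIsoToRingEquiv hsn
  · exact Subtype.ext (Scheme.homOfLE_apply hrle _)


open Groth.Agent.Lib.Helper20.ImageUH in
/-- a universal homeomorphism with trivial residue field extensions onto a scheme covered by affine
opens with seminormal rings has a section -/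
theorem exists_section_of_forall {P V : Scheme.{u}} (ρ : P ⟶ V) (hρ : FlatMor.IsUnivHomeo ρ)
    (hr : HTop.ResidueFieldsIso ρ) {ι : Type*} (U : ι → V.affineOpens)
    (hsup : ⨆ i, (U i : V.Opens) = ⊤) (hU : ∀ i, HTop.IsSeminormalRing Γ(V, U i)) :
    ∃ σ : V ⟶ P, σ ≫ ρ = 𝟙 V := by
  let i := P.nilradical.subschemeι
  have hi : FlatMor.IsUnivHomeo i := by
    rw [isUnivHomeo_iff_scheme]
    exact ⟨inferInstance, inferInstance, surjective_nilradical_subschemeι P⟩
  have hi' : HTop.ResidueFieldsIso i := fun x => isIso_residueFieldMap_of_isClosedImmersion i x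
  have := isReduced_nilradical_subscheme P
  have hiso : IsIso (i ≫ ρ) := isIso_of_uh_rfi_of_forall (i ≫ ρ) (isUnivHomeo_comp i ρ hi hρ)
    (residueFieldsIso_comp i ρ hi' hr) U hsup hU
  exact ⟨inv (i ≫ ρ) ≫ i, by rw [Category.assoc, IsIso.inv_hom_id]⟩

theorem exists_section_of_isSeminormal {P V : Scheme.{u}} (ρ : P ⟶ V) (hρ : FlatMor.IsUnivHomeo ρ)
    (hr : HTop.ResidueFieldsIso ρ) (hV : HTop.IsSeminormal V) : ∃ σ : V ⟶ P, σ ≫ ρ = 𝟙 V := by
  choose U hxU hU using hV
  have hsup : ⨆ x, (U x : V.Opens) = ⊤ := by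
    rw [eq_top_iff]
    intro x _
    exact TopologicalSpace.Opens.mem_iSup.mpr ⟨x, hxU x⟩
  exact exists_section_of_forall ρ hρ hr U hsup hU

theorem isReduced_of_isSeminormal {X : Scheme.{u}} (h : HTop.IsSeminormal X) : IsReduced X := by
  choose U hxU hU using h
  have hsup : ⨆ x, (U x : X.Opens) = ⊤ := by
    rw [eq_top_iff]
    intro x _
    exact TopologicalSpace.Opens.mem_iSup.mpr ⟨x, hxU x⟩
  have (x : X) : IsReduced (U x : X.Opens).toScheme := by
    have : IsAffine (U x : X.Opens).toScheme := (U x).2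
    have h1 : _root_.IsReduced Γ((U x : X.Opens).toScheme, ⊤) := by
      have := Groth.Agent.S7423.isReduced_of_isSeminormalRing (hU x)
      exact isReduced_of_injective (U x : X.Opens).topIso.hom.hom
        (ConcreteCategory.bijective_of_isIso (U x : X.Opens).topIso.hom).1
    exact isReduced_of_isAffine_isReduced _
  have (x : (X.openCoverOfIsOpenCover _ hsup).I₀) :
      IsReduced ((X.openCoverOfIsOpenCover _ hsup).X x) := this x
  exact IsReduced.of_openCover _ (X.openCoverOfIsOpenCover _ hsup)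

/-- S15961 -/
theorem isSeminormalization_morphismRestrict {X' X : Scheme.{u}} (ν : X' ⟶ X)
    (hν : HTop.IsSeminormalization ν) (hX' : HTop.IsSeminormal X') (U : X.Opens) :
    HTop.IsSeminormalization (ν ∣_ U) := by
  refine ⟨⟨isUnivHomeo_morphismRestrict ν hν.1.1 U, residueFieldsIso_morphismRestrict ν hν.1.2 U⟩,
    fun Y π hπ hr => ?_⟩
  have hV : HTop.IsSeminormal ((ν ⁻¹ᵁ U : X'.Opens) : Scheme.{u}) := isSeminormal_opens hX' _
  have hρ : FlatMor.IsUnivHomeo (pullback.snd π (ν ∣_ U)) :=
    MorphismProperty.pullback_snd _ _ hπ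
  have hr' : HTop.ResidueFieldsIso (pullback.snd π (ν ∣_ U)) := residueFieldsIso_pullback_snd hr
  obtain ⟨σ, hσ⟩ := exists_section_of_isSeminormal _ hρ hr' hV
  have hred : IsReduced ((ν ⁻¹ᵁ U : X'.Opens) : Scheme.{u}) := isReduced_of_isSeminormal hV
  refine ⟨σ ≫ pullback.fst π (ν ∣_ U), ?_, fun h hh => ?_⟩
  · change (σ ≫ pullback.fst π (ν ∣_ U)) ≫ π = ν ∣_ U
    rw [Category.assoc, pullback.condition, ← Category.assoc, hσ, Category.id_comp]
  · have h1 := (isUnivHomeo_iff_scheme π).mp hπ
    have : IsIntegralHom π := h1.1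
    have : UniversallyInjective π := h1.2.1
    apply Groth.Agent.Lib.Helper20.AwnScheme.hom_ext_of_univInj π
    change h ≫ π = (σ ≫ pullback.fst π (ν ∣_ U)) ≫ π
    rw [hh, Category.assoc, pullback.condition, ← Category.assoc, hσ, Category.id_comp]

end Groth.Agent.Lib.Helper20.Seminormal
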