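import Groth.Agent.Lib.Helper20.Seminormal3
set_option autoImplicit false
universe u
namespace Groth.Agent.Lib.Helper20.Seminormal
open AlgebraicGeometry CategoryTheory Limits Opposite
open Groth.Agent.Lib.Helper20.UnivHomeo

/-- the residue field map of `Spec κ(t) ⟶ T` at any point of the source is an isomorphism -/
theorem isIso_residueFieldMap_fromSpecResidueField {T : Scheme.{u}} (t : T)
    (x : Spec (T.residueField t)) :
    IsIso ((T.fromSpecResidueField t).residueFieldMap x) := by
  have e : t = T.fromSpecResidueField t x := (T.fromSpecResidueField_apply t x).symm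
  have h1 := Scheme.Hom.SpecMap_residueFieldMap_fromSpecResidueField (T.fromSpecResidueField t) x
  rw [← Scheme.residueFieldCongr_fromSpecResidueField e, ← Category.assoc, ← Spec.map_comp] at h1
  have hfield : IsField (T.residueField t) := Field.toIsField _
  have h2 : IsIso ((Spec (T.residueField t)).fromSpecResidueField x) := by
    rw [← Scheme.Spec.map_residueFieldIso_inv_eq_fromSpecResidueField]
    have := isIso_algebraMap_residueField_of_isField (T.residueField t) hfield x
    infer_instance
  have h3 : Spec.map ((T.residueFieldCongr e).hom ≫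
      (T.fromSpecResidueField t).residueFieldMap x) =
      (Spec (T.residueField t)).fromSpecResidueField x := by
    rw [← cancel_mono (T.fromSpecResidueField t)]
    exact h1
  have h4 : IsIso (Spec.map ((T.residueFieldCongr e).hom ≫
      (T.fromSpecResidueField t).residueFieldMap x)) := by
    rw [h3]; exact h2
  have h5 : IsIso ((T.residueFieldCongr e).hom ≫ (T.fromSpecResidueField t).residueFieldMap x) :=
    (ConcreteCategory.isIso_iff_bijective _).mpr (isIso_SpecMap_iff.mp h4)
  exact IsIso.of_isIso_comp_left (T.residueFieldCongr e).hom _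


theorem isIso_residueFieldMap_of_comp {T' T₁ T : Scheme.{u}} (h : T' ⟶ T₁) (π : T₁ ⟶ T) (t' : T')
    (hc : IsIso ((h ≫ π).residueFieldMap t')) : IsIso (π.residueFieldMap (h t')) := by
  have h1 := hc
  rw [Scheme.residueFieldMap_comp] at h1
  have hb := (ConcreteCategory.isIso_iff_bijective _).mp h1
  have h2 : IsIso (h.residueFieldMap t') := by
    rw [ConcreteCategory.isIso_iff_bijective]
    refine ⟨(h.residueFieldMap t').hom.injective, fun y => ?_⟩
    obtain ⟨z, hz⟩ := hb.2 y
    exact ⟨π.residueFieldMap (h t') z, hz⟩
  exact @IsIso.of_isIso_comp_right _ _ _ _ _ (π.residueFieldMap (h t')) (h.residueFieldMap t') h2 h1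

/-- S13112 -/
theorem exists_lift_of_pointwise {T X Y : Scheme.{u}} (hT : HTop.IsSeminormal T) (f : X ⟶ Y)
    [IsProper f] [UniversallyInjective f] (g : T ⟶ Y)
    (hlift : ∀ t : T, ∃ l : Spec (T.residueField t) ⟶ X, l ≫ f = T.fromSpecResidueField t ≫ g) :
    ∃ h : T ⟶ X, h ≫ f = g := by
  let ρ := pullback.snd f g
  have hui : UniversallyInjective ρ := MorphismProperty.pullback_snd _ _ inferInstance
  choose l hl using hlift
  let m : ∀ t : T, Spec (T.residueField t) ⟶ pullback f g := fun t =>
    pullback.lift (l t) (T.fromSpecResidueField t) (hl t)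
  have hm : ∀ t, m t ≫ ρ = T.fromSpecResidueField t := fun t => pullback.lift_snd _ _ _
  have hpt : ∀ t : T, Nonempty (Spec (T.residueField t)) := fun t => inferInstance
  have hmρ : ∀ (t : T) (x : Spec (T.residueField t)), ρ (m t x) = t := by
    intro t x
    rw [← Scheme.Hom.comp_apply, hm t]
    exact T.fromSpecResidueField_apply t x
  have hsurj : Surjective ρ := ⟨fun t => ⟨m t (hpt t).some, hmρ t _⟩⟩
  have hfin : IsFinite ρ := IsFinite.of_isProper_of_locallyQuasiFinite ρ
  have hρ : FlatMor.IsUnivHomeo ρ := by
    rw [isUnivHomeo_iff_scheme]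
    exact ⟨inferInstance, hui, hsurj⟩
  have hr : HTop.ResidueFieldsIso ρ := by
    intro p
    let t := ρ p
    let x := (hpt t).some
    have e : m t x = p := ρ.injective (hmρ t x)
    have h1 : IsIso ((m t ≫ ρ).residueFieldMap x) := by
      rw [Scheme.Hom.residueFieldMap_congr (hm t)]
      have := isIso_residueFieldMap_fromSpecResidueField t x
      infer_instance
    have h2 := isIso_residueFieldMap_of_comp (m t) ρ x h1
    exact Eq.mp (congrArg (fun p' => IsIso (ρ.residueFieldMap p')) e) h2
  obtain ⟨σ, hσ⟩ := exists_section_of_isSeminormal ρ hρ hr hT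
  refine ⟨σ ≫ pullback.fst f g, ?_⟩
  rw [Category.assoc, pullback.condition, ← Category.assoc]
  change (σ ≫ ρ) ≫ g = g
  rw [hσ, Category.id_comp]

end Groth.Agent.Lib.Helper20.Seminormal
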