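-- helper20: separation of disjoint closed constructible subsets by an admissible blow-up (Stacks 080P),
-- modulo existence of blow-ups (hypothesis `hex` of `main`). `isCompact_of_isConstructible'` is copied from helper40 Lib/Helper40/Nis.lean.
import Mathlib
import Groth.Agent.S17392
import Groth.Agent.Lib.Helper82.BlowUpPullback

set_option autoImplicit false
universe u
open AlgebraicGeometry CategoryTheory Opposite TopologicalSpace Limits Topology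

namespace Groth.Agent.Lib.Helper20.SepBlowUp

theorem isCompact_of_isConstructible' {X : Type*} [TopologicalSpace X] [CompactSpace X] {s : Set X}
    (hs : IsConstructible s) : IsCompact s := by
  induction s, hs using BooleanSubalgebra.closure_sdiff_sup_induction with
  | isSublattice => exact ⟨fun s hs t ht ↦ ⟨hs.1.union ht.1, hs.2.union ht.2⟩,
      fun s hs t ht ↦ ⟨hs.1.inter ht.1, hs.2.inter_isOpen ht.2 ht.1⟩⟩
  | bot_mem => exact ⟨isOpen_empty, .empty⟩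
  | top_mem => exact ⟨isOpen_univ, .univ⟩
  | sdiff U hU V hV => exact hU.2.isCompact.diff hV.1
  | sup s _ t _ hs' ht' => exact hs'.union ht'

open Groth.Agent.S17391 Groth.Agent.Lib.Helper82 in
theorem local_sep_aux {X X' : Scheme.{u}} (b : X' ⟶ X) (I₁ I₂ : X.IdealSheafData)
    (S₁ : Set X) (hS₁ : S₁ ⊆ (I₁.support : Set X))
    (hS₁' : Disjoint S₁ ((I₁ ⊔ I₂).support : Set X))
    {W : X.Opens} (hW : IsAffineOpen W) {D : X'.Opens} (hD : IsAffineOpen D)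
    (hDW : D ≤ b ⁻¹ᵁ W) (e u' : Γ(X', D))
    (he : ((I₁.ideal ⟨W, hW⟩) ⊔ (I₂.ideal ⟨W, hW⟩)).map (b.appLE W D hDW).hom = Ideal.span {e})
    (hu : e * u' ∈ (I₁.ideal ⟨W, hW⟩).map (b.appLE W D hDW).hom)
    (y' : X') (hy'D : y' ∈ D) (hy'u : y' ∈ X'.basicOpen u') (hy'S : b y' ∈ S₁) : False := by
  set ρ := (b.appLE W D hDW).hom with hρ
  set 𝔮 := (hD.primeIdealOf ⟨y', hy'D⟩).asIdeal with h𝔮
  have hbW : b y' ∈ W := hDW hy'D
  have hcomap : 𝔮.comap ρ = (hW.primeIdealOf ⟨b y', hbW⟩).asIdeal :=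
    comap_primeIdealOf b hW hD hDW y' hy'D
  have hu'𝔮 : u' ∉ 𝔮 := (not_mem_primeIdealOf_iff hD y' hy'D u').mpr hy'u
  -- `I₁ R' ≤ 𝔮`
  have h1 : (I₁.ideal ⟨W, hW⟩).map ρ ≤ 𝔮 := by
    rw [Ideal.map_le_iff_le_comap, hcomap]
    exact (mem_support_iff_le I₁ hW (b y') hbW).mp (hS₁ hy'S)
  have he𝔮 : e ∈ 𝔮 := by
    have h2 : e * u' ∈ 𝔮 := h1 hu
    rcases (hD.primeIdealOf ⟨y', hy'D⟩).isPrime.mem_or_mem h2 with h | h
    · exact h
    · exact absurd h hu'𝔮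
  -- but the sum is not contained in the prime of `b y'`
  have h3 : ¬ ((I₁ ⊔ I₂).ideal ⟨W, hW⟩ ≤ (hW.primeIdealOf ⟨b y', hbW⟩).asIdeal) := by
    intro hle
    exact Set.disjoint_left.mp hS₁' hy'S ((mem_support_iff_le (I₁ ⊔ I₂) hW (b y') hbW).mpr hle)
  apply h3
  rw [Scheme.IdealSheafData.ideal_sup]
  change (I₁.ideal ⟨W, hW⟩) ⊔ (I₂.ideal ⟨W, hW⟩) ≤ _
  rw [← hcomap, ← Ideal.map_le_iff_le_comap, he, Ideal.span_le]
  intro z hz
  rw [Set.mem_singleton_iff] at hz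
  rw [hz]; exact he𝔮

open Groth.Agent.S17391 Groth.Agent.Lib.Helper82 in
theorem local_sep {X X' : Scheme.{u}} (b : X' ⟶ X) (I₁ I₂ : X.IdealSheafData)
    (hb1 : BlowUp.IsEffCartierIdeal ((I₁ ⊔ I₂).comap b))
    (S₁ S₂ : Set X) (hS₁ : S₁ ⊆ (I₁.support : Set X)) (hS₂ : S₂ ⊆ (I₂.support : Set X))
    (hS₁' : Disjoint S₁ ((I₁ ⊔ I₂).support : Set X))
    (hS₂' : Disjoint S₂ ((I₁ ⊔ I₂).support : Set X)) :
    Disjoint (closure ((fun z => b z) ⁻¹' S₁)) (closure ((fun z => b z) ⁻¹' S₂)) := by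
  rw [Set.disjoint_left]
  intro x' hx1 hx2
  obtain ⟨W, hW, hxW, -⟩ :=
    exists_isAffineOpen_mem_and_subset (X := X) (U := ⊤) (x := b x') (by simp)
  obtain ⟨⟨D, hD⟩, hx'D, hDW, e, he_nzd, hDe⟩ :=
    exists_affine_isPrincipalNZD_le ((I₁ ⊔ I₂).comap b) hb1 (b ⁻¹ᵁ W) x' hxW
  replace hDW : D ≤ b ⁻¹ᵁ W := hDW
  have he : ((I₁.ideal ⟨W, hW⟩) ⊔ (I₂.ideal ⟨W, hW⟩)).map (b.appLE W D hDW).hom =
      Ideal.span {e} := by
    rw [← hDe, ideal_comap_of_le b (I₁ ⊔ I₂) D hD W hW hDW, Scheme.IdealSheafData.ideal_sup]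
    rfl
  set ρ := (b.appLE W D hDW).hom with hρ
  have he_mem : e ∈ (I₁.ideal ⟨W, hW⟩).map ρ ⊔ (I₂.ideal ⟨W, hW⟩).map ρ := by
    rw [← Ideal.map_sup, he]; exact Ideal.mem_span_singleton_self e
  obtain ⟨u, hu, v, hv, huv⟩ := Submodule.mem_sup.mp he_mem
  have hI₁le : (I₁.ideal ⟨W, hW⟩).map ρ ≤ Ideal.span {e} := by
    rw [← he]; exact Ideal.map_mono le_sup_left
  have hI₂le : (I₂.ideal ⟨W, hW⟩).map ρ ≤ Ideal.span {e} := by
    rw [← he]; exact Ideal.map_mono le_sup_right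
  obtain ⟨u', hu'⟩ := Ideal.mem_span_singleton'.mp (hI₁le hu)
  obtain ⟨v', hv'⟩ := Ideal.mem_span_singleton'.mp (hI₂le hv)
  have hsum : u' + v' = 1 := by
    have h1 : (u' + v' - 1) * e = 0 := by
      rw [sub_mul, add_mul, hu', hv', huv, one_mul, sub_self]
    have h2 := (mem_nonZeroDivisors_iff_right.mp he_nzd) _ h1
    exact sub_eq_zero.mp h2
  set 𝔭 := (hD.primeIdealOf ⟨x', hx'D⟩).asIdeal with h𝔭
  have hor : u' ∉ 𝔭 ∨ v' ∉ 𝔭 := by
    by_contra hcon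
    push Not at hcon
    have h1 : (1 : Γ(X', D)) ∈ 𝔭 := by rw [← hsum]; exact add_mem hcon.1 hcon.2
    exact (hD.primeIdealOf ⟨x', hx'D⟩).isPrime.ne_top ((Ideal.eq_top_iff_one _).mpr h1)
  have he' : ((I₂.ideal ⟨W, hW⟩) ⊔ (I₁.ideal ⟨W, hW⟩)).map (b.appLE W D hDW).hom =
      Ideal.span {e} := by rw [sup_comm]; exact he
  rcases hor with h | h
  · have hx'N : x' ∈ X'.basicOpen u' := (not_mem_primeIdealOf_iff hD x' hx'D u').mp h
    obtain ⟨y', hy'N, hy'S⟩ := mem_closure_iff.mp hx1 _ (X'.basicOpen u').isOpen hx'N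
    exact local_sep_aux b I₁ I₂ S₁ hS₁ hS₁' hW hD hDW e u' he
      (by rw [mul_comm, hu']; exact hu) y' (X'.basicOpen_le u' hy'N) hy'N hy'S
  · have hx'N : x' ∈ X'.basicOpen v' := (not_mem_primeIdealOf_iff hD x' hx'D v').mp h
    obtain ⟨y', hy'N, hy'S⟩ := mem_closure_iff.mp hx2 _ (X'.basicOpen v').isOpen hx'N
    exact local_sep_aux b I₂ I₁ S₂ hS₂ (by rw [sup_comm]; exact hS₂') hW hD hDW e v' he'
      (by rw [mul_comm, hv']; exact hv) y' (X'.basicOpen_le v' hy'N) hy'N hy'S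


theorem exists_ft_support_eq {X : Scheme.{u}} [CompactSpace X] [QuasiSeparatedSpace X]
    (Z : Set X) (hZ : IsClosed Z) (hZc : IsCompact Zᶜ) :
    ∃ I : X.IdealSheafData, BlowUp.IsFiniteTypeIdeal I ∧ (I.support : Set X) = Z := by
  obtain ⟨I₁, hI₁ft, hI₁le, hI₁supp⟩ := Groth.Agent.S17392.ft2
    (Scheme.IdealSheafData.vanishingIdeal ⟨Z, hZ⟩) Z hZ
    hZc (by rw [Scheme.IdealSheafData.coe_support_vanishingIdeal]; intro x hx; exact hx)
  refine ⟨I₁, hI₁ft, subset_antisymm hI₁supp ?_⟩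
  have h1 := Scheme.IdealSheafData.support_antitone hI₁le
  have h2 : (Z : Set X) = ((Scheme.IdealSheafData.vanishingIdeal ⟨Z, hZ⟩).support : Set X) := by
    rw [Scheme.IdealSheafData.coe_support_vanishingIdeal]; rfl
  rw [h2]
  exact SetLike.coe_subset_coe.mpr h1

theorem main (hex : ∀ (X : Scheme.{u}) (I : X.IdealSheafData),
      ∃ (X' : Scheme.{u}) (b : X' ⟶ X), BlowUp.IsBlowUp b I)
    {X : Scheme.{u}} [CompactSpace X] [QuasiSeparatedSpace X]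
    (U : X.Opens) (hU : IsCompact (U : Set X)) (T₁ T₂ : Set U)
    (h₁ : IsClosed T₁) (h₂ : IsClosed T₂) (c₁ : IsConstructible T₁) (c₂ : IsConstructible T₂) (hd : Disjoint T₁ T₂) :
    ∃ (𝓘 : X.IdealSheafData) (X' : Scheme.{u}) (b : X' ⟶ X), BlowUp.IsBlowUp b 𝓘 ∧ BlowUp.IsAdmissibleFor U 𝓘 ∧
      Disjoint (closure (b.base ⁻¹' (Subtype.val '' T₁))) (closure (b.base ⁻¹' (Subtype.val '' T₂))) := by
  haveI : CompactSpace (U : Scheme.{u}) := isCompact_iff_compactSpace.mp hU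
  have key : ∀ (T : Set U), IsClosed T → IsConstructible T →
      ∃ I : X.IdealSheafData, BlowUp.IsFiniteTypeIdeal I ∧
        (I.support : Set X) ∩ (U : Set X) = Subtype.val '' T := by
    intro T hT cT
    have hcpt : IsCompact Tᶜ := isCompact_of_isConstructible' (isConstructible_compl.mpr cT)
    have hopen : IsOpen (Subtype.val '' Tᶜ : Set X) :=
      U.isOpen.isOpenMap_subtype_val _ hT.isOpen_compl
    have hcpt' : IsCompact (Subtype.val '' Tᶜ : Set X) := hcpt.image continuous_subtype_val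
    obtain ⟨I, hIft, hIsupp⟩ := exists_ft_support_eq (Subtype.val '' Tᶜ : Set X)ᶜ
      hopen.isClosed_compl (by rw [compl_compl]; exact hcpt')
    refine ⟨I, hIft, ?_⟩
    rw [hIsupp]
    ext x
    constructor
    · rintro ⟨hx1, hx2⟩
      refine ⟨⟨x, hx2⟩, ?_, rfl⟩
      by_contra hxT
      exact hx1 ⟨⟨x, hx2⟩, hxT, rfl⟩
    · rintro ⟨t, ht, rfl⟩
      refine ⟨?_, t.2⟩
      rintro ⟨t', ht', htt'⟩
      have : t' = t := Subtype.ext htt'
      rw [this] at ht'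
      exact ht' ht
  obtain ⟨I₁, hI₁ft, hI₁⟩ := key T₁ h₁ c₁
  obtain ⟨I₂, hI₂ft, hI₂⟩ := key T₂ h₂ c₂
  have hdisj : Disjoint (((I₁ ⊔ I₂).support : Set X)) (U : Set X) := by
    rw [Set.disjoint_left]
    intro x hx hxU
    rw [Scheme.IdealSheafData.support_sup] at hx
    have hx1 : x ∈ Subtype.val '' T₁ := by rw [← hI₁]; exact ⟨hx.1, hxU⟩
    have hx2 : x ∈ Subtype.val '' T₂ := by rw [← hI₂]; exact ⟨hx.2, hxU⟩
    obtain ⟨t₁, ht₁, rfl⟩ := hx1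
    obtain ⟨t₂, ht₂, ht₂'⟩ := hx2
    have : t₂ = t₁ := Subtype.ext ht₂'
    rw [this] at ht₂
    exact Set.disjoint_left.mp hd ht₁ ht₂
  obtain ⟨X', b, hb⟩ := hex X (I₁ ⊔ I₂)
  refine ⟨I₁ ⊔ I₂, X', b, hb, ⟨Groth.Agent.S17392.isFT_sup I₁ I₂ hI₁ft hI₂ft, hdisj⟩, ?_⟩
  have hsub : ∀ (T : Set U), (Subtype.val '' T : Set X) ⊆ (U : Set X) := by
    rintro T _ ⟨t, _, rfl⟩
    exact t.2
  exact local_sep b I₁ I₂ hb.1 (Subtype.val '' T₁) (Subtype.val '' T₂)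
    (by rw [← hI₁]; exact Set.inter_subset_left) (by rw [← hI₂]; exact Set.inter_subset_left)
    (Set.disjoint_of_subset_left (hsub T₁) hdisj.symm)
    (Set.disjoint_of_subset_left (hsub T₂) hdisj.symm)

end Groth.Agent.Lib.Helper20.SepBlowUp
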