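import Mathlib
import Groth.Agent.Lib.Helper51.ClosedCoord

/-!
# Étale coordinates adapted to a smooth closed subscheme of a smooth scheme, ring form on an
affine chart (helper20; the set-up follows helper51's `ClosedCoordSch.exists_adapted_chart`)
-/

set_option autoImplicit false
universe u
open CategoryTheory CategoryTheory.Limits AlgebraicGeometry TopologicalSpace

namespace Groth.Agent.Lib.Helper20.SmoothPairCoords

open Groth.Agent.Lib.Helper51.ClosedCoord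

variable {S X Y : Scheme.{u}}

lemma appLE_eq_of_eq (g h : Y ⟶ S) (hgh : g = h) (V : S.Opens) (W : Y.Opens) (e : W ≤ g ⁻¹ᵁ V)
    (e' : W ≤ h ⁻¹ᵁ V) : g.appLE V W e = h.appLE V W e' := by
  subst hgh
  rfl

/-- **Adapted étale coordinates on an affine chart.** -/
theorem exists_coords (pX : X ⟶ S) [Smooth pX] (i : Y ⟶ X) [IsClosedImmersion i]
    [Smooth (i ≫ pX)] (y : Y) :
    ∃ (V : S.Opens) (_ : IsAffineOpen V) (U : X.Opens) (hU : IsAffineOpen U)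
      (eU : U ≤ pX ⁻¹ᵁ V) (m n : ℕ)
      (ψ : MvPolynomial (ULift.{u} (Fin m ⊕ Fin n)) Γ(S, V) →+* Γ(X, U)),
      i y ∈ U ∧ ψ.Etale ∧ ψ.comp MvPolynomial.C = (pX.appLE V U eU).hom ∧
      i.ker.ideal ⟨U, hU⟩ = Ideal.span (Set.range fun j : Fin n =>
        ψ (MvPolynomial.X (ULift.up (Sum.inr j)))) := by
  obtain ⟨pY, w⟩ : ∃ pY : Y ⟶ S, i ≫ pX = pY := ⟨_, rfl⟩
  haveI : Smooth pY := w ▸ inferInstance
  have hpY : ∀ z : Y, pY z = pX (i z) := fun z => by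
    rw [← w]
    rfl
  -- charts
  obtain ⟨_, ⟨V, hV, rfl⟩, hxV, -⟩ :=
    S.isBasis_affineOpens.exists_subset_of_mem_open (Set.mem_univ (pX (i y))) isOpen_univ
  obtain ⟨_, ⟨U₀, hU₀, rfl⟩, hxU₀, hU₀V⟩ :=
    X.isBasis_affineOpens.exists_subset_of_mem_open (show i y ∈ pX ⁻¹ᵁ V from hxV) (pX ⁻¹ᵁ V).2
  have e₀ : U₀ ≤ pX ⁻¹ᵁ V := hU₀V
  set Y₀ : Y.Opens := i ⁻¹ᵁ U₀ with hY₀def
  have hY₀ : IsAffineOpen Y₀ := hU₀.preimage i
  have eY : Y₀ ≤ pY ⁻¹ᵁ V := by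
    intro z hz
    change pY z ∈ V
    rw [hpY]
    exact e₀ hz
  have hsmX := pX.smooth_appLE hV hU₀ e₀
  have hsmY := pY.smooth_appLE hV hY₀ eY
  have hfac : pX.appLE V U₀ e₀ ≫ i.app U₀ = pY.appLE V Y₀ eY := by
    rw [Scheme.Hom.app_eq_appLE, Scheme.Hom.appLE_comp_appLE]
    exact appLE_eq_of_eq _ _ w _ _ _ _
  algebraize [(pX.appLE V U₀ e₀).hom, (pY.appLE V Y₀ eY).hom]
  let ι : Γ(X, U₀) →ₐ[Γ(S, V)] Γ(Y, Y₀) :=
    { (i.app U₀).hom with
      commutes' := fun r => by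
        have := congrArg (fun φ => φ.hom r) hfac
        exact this }
  have hι : Function.Surjective ι := i.app_surjective U₀ hU₀
  let q : Ideal Γ(X, U₀) := (hU₀.primeIdealOf ⟨i y, hxU₀⟩).asIdeal
  have hq : RingHom.ker ι ≤ q := by
    have h1 := IsAffineOpen.comap_primeIdealOf_appLE (f := i) (x := y) U₀ hU₀ Y₀ hY₀ le_rfl hxU₀
    have h2 := congrArg PrimeSpectrum.asIdeal h1
    intro b hb
    have hb0 : (i.appLE U₀ Y₀ le_rfl).hom b = 0 := by
      rw [← Scheme.Hom.app_eq_appLE]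
      exact hb
    have h3 : b ∈ Ideal.comap (i.appLE U₀ Y₀ le_rfl).hom
        (hY₀.primeIdealOf ⟨y, hxU₀⟩).asIdeal := by
      rw [Ideal.mem_comap, hb0]
      exact Ideal.zero_mem _
    have h4 : b ∈ (PrimeSpectrum.comap (i.appLE U₀ Y₀ le_rfl).hom
        (hY₀.primeIdealOf ⟨y, hxU₀⟩)).asIdeal := h3
    rw [h2] at h4
    exact h4
  haveI : Algebra.IsSmoothAt Γ(S, V) q := inferInstanceAs (Algebra.IsSmoothAt _ _)
  obtain ⟨m, n, f, g, hf, hg, hB'⟩ := exists_adapted_coordinates ι hι q hq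
  set U : X.Opens := X.basicOpen f with hUdef
  have hU : IsAffineOpen U := hU₀.basicOpen f
  have hUU₀ : U ≤ U₀ := X.basicOpen_le f
  have hxU : i y ∈ U := by
    letI algBS : Algebra Γ(X, U₀) (X.presheaf.stalk (i y)) :=
      X.presheaf.algebra_section_stalk ⟨i y, hxU₀⟩
    have hloc : IsLocalization.AtPrime (X.presheaf.stalk (i y)) q :=
      hU₀.isLocalization_stalk ⟨i y, hxU₀⟩
    rw [hUdef, Scheme.mem_basicOpen X f (i y) hxU₀]
    exact IsLocalization.map_units (X.presheaf.stalk (i y)) (⟨f, hf⟩ : q.primeCompl)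
  have eU : U ≤ pX ⁻¹ᵁ V := hUU₀.trans e₀
  have hlocB : IsLocalization.Away f Γ(X, U) := hU₀.isLocalization_basicOpen f
  obtain ⟨ψ, hψe, hψC, hψX, hker⟩ := hB' Γ(X, U)
  have hψC' : ψ.comp MvPolynomial.C = (pX.appLE V U eU).hom := by
    rw [hψC, ← Scheme.Hom.appLE_map pX e₀ (homOfLE hUU₀).op]
    rfl
  refine ⟨V, hV, U, hU, eU, m, n, ψ, hxU, hψe, hψC', ?_⟩
  have h4 : RingHom.ker (i.app U).hom =
      Ideal.span (Set.range fun j : Fin n => X.presheaf.map (homOfLE hUU₀).op (g j)) := by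
    have h5 := i.ker.map_ideal_basicOpen ⟨U₀, hU₀⟩ f
    rw [Scheme.Hom.ker_apply, Scheme.Hom.ker_apply] at h5
    exact h5.symm.trans hker
  rw [Scheme.Hom.ker_apply, h4]
  congr 2
  funext j
  rw [hψX]
  rfl

end Groth.Agent.Lib.Helper20.SmoothPairCoords
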