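import Mathlib
set_option autoImplicit false
universe u
namespace Groth.Agent.Lib.Helper20.Stein
open Polynomial

theorem exists_idempotent_of_integral {K R : Type*} [Field K] [CommRing R] [Algebra K R]
    (P Q : Ideal R) [P.IsPrime] [Q.IsPrime] (x : R) (hx : IsIntegral K x) (hxP : x ∈ P) (hxQ : x ∉ Q) :
    ∃ e : R, IsIdempotentElem e ∧ e ∈ P ∧ e ∉ Q := by
  obtain ⟨m, hm, hmx⟩ := hx
  have hmx : aeval x m = 0 := by rwa [aeval_def]
  obtain ⟨m', hm', hnd⟩ := exists_eq_pow_rootMultiplicity_mul_and_not_dvd m hm.ne_zero (0 : K)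
  set a := m.rootMultiplicity 0 with ha
  simp only [map_zero, sub_zero] at hm' hnd
  have hcop : IsCoprime (X ^ a : K[X]) m' :=
    IsCoprime.pow_left ((irreducible_X).coprime_iff_not_dvd.mpr hnd)
  obtain ⟨u, v, huv⟩ := hcop
  have h1 : aeval x u * x ^ a + aeval x v * aeval x m' = 1 := by
    have := congrArg (aeval x) huv
    simpa using this
  have h2 : x ^ a * aeval x m' = 0 := by
    have := congrArg (aeval x) hm'
    rw [hmx] at this
    simpa using this.symm
  have hm'Q : aeval x m' ∈ Q := by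
    have : x ^ a * aeval x m' ∈ Q := by rw [h2]; exact Q.zero_mem
    rcases Ideal.IsPrime.mem_or_mem ‹Q.IsPrime› this with h | h
    · exact absurd (Ideal.IsPrime.mem_of_pow_mem ‹Q.IsPrime› _ h) hxQ
    · exact h
  have ha0 : a ≠ 0 := by
    intro h0
    rw [h0, pow_zero, one_mul] at h2
    rw [h0, pow_zero, one_mul] at hm'
    -- m' = m, X ∤ m, so constant coeff nonzero, x unit
    have hc : m.coeff 0 ≠ 0 := by
      intro hc0
      exact hnd (hm' ▸ X_dvd_iff.mpr hc0)
    have hdiv : m = X * m.divX + C (m.coeff 0) := (divX_mul_X_add m).symm.trans (by ring)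
    have h3 : x * aeval x m.divX + algebraMap K R (m.coeff 0) = 0 := by
      have := congrArg (aeval x) hdiv
      rw [hmx, map_add, map_mul, aeval_X, aeval_C] at this
      exact this.symm
    have h4 : algebraMap K R (m.coeff 0) ∈ P := by
      have : algebraMap K R (m.coeff 0) = -(x * aeval x m.divX) := eq_neg_of_add_eq_zero_right h3
      rw [this]
      exact P.neg_mem (P.mul_mem_right _ hxP)
    have h5 : (1 : R) ∈ P := by
      have : (1 : R) = algebraMap K R (m.coeff 0)⁻¹ * algebraMap K R (m.coeff 0) := by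
        rw [← map_mul, inv_mul_cancel₀ hc, map_one]
      rw [this]
      exact P.mul_mem_left _ h4
    exact ‹P.IsPrime›.ne_top ((Ideal.eq_top_iff_one P).mpr h5)
  refine ⟨aeval x u * x ^ a, ?_, ?_, ?_⟩
  · change (aeval x u * x ^ a) * (aeval x u * x ^ a) = aeval x u * x ^ a
    have : aeval x u * x ^ a = 1 - aeval x v * aeval x m' := by rw [← h1]; ring
    calc (aeval x u * x ^ a) * (aeval x u * x ^ a)
        = (aeval x u * x ^ a) * (1 - aeval x v * aeval x m') := by rw [← this]
      _ = aeval x u * x ^ a - aeval x u * aeval x v * (x ^ a * aeval x m') := by ring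
      _ = aeval x u * x ^ a := by rw [h2]; ring
  · exact P.mul_mem_left _ (P.pow_mem_of_mem hxP a (Nat.pos_of_ne_zero ha0))
  · intro he
    have : (1 : R) ∈ Q := by
      rw [← h1]
      exact Q.add_mem he (Q.mul_mem_left _ hm'Q)
    exact ‹Q.IsPrime›.ne_top ((Ideal.eq_top_iff_one Q).mpr this)


theorem subsingleton_primeSpectrum_of_isIntegral {K R : Type*} [Field K] [CommRing R] [Algebra K R]
    [Algebra.IsIntegral K R] [PreconnectedSpace (PrimeSpectrum R)] :
    Subsingleton (PrimeSpectrum R) := by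
  refine ⟨fun P Q => ?_⟩
  by_contra hne
  have hmax : ∀ P : PrimeSpectrum R, P.asIdeal.IsMaximal := fun P =>
    Ideal.isMaximal_of_isIntegral_of_isMaximal_comap (R := K) P.asIdeal
      (by
        have : (P.asIdeal.comap (algebraMap K R)).IsPrime := inferInstance
        exact Ideal.IsPrime.isMaximal' this)
  have hex : ∃ x ∈ P.asIdeal, x ∉ Q.asIdeal := by
    by_contra hcon
    push Not at hcon
    have hle : P.asIdeal ≤ Q.asIdeal := hcon
    exact hne (PrimeSpectrum.ext ((hmax P).eq_of_le (hmax Q).ne_top hle))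
  obtain ⟨x, hxP, hxQ⟩ := hex
  obtain ⟨e, he, heP, heQ⟩ := exists_idempotent_of_integral P.asIdeal Q.asIdeal x
    (Algebra.IsIntegral.isIntegral (R := K) x) hxP hxQ
  have hclopen : IsClopen ((PrimeSpectrum.basicOpen e : Set (PrimeSpectrum R))) :=
    PrimeSpectrum.isClopen_iff.mpr ⟨e, he, rfl⟩
  rcases isClopen_iff.mp hclopen with h | h
  · have : Q ∈ (PrimeSpectrum.basicOpen e : Set (PrimeSpectrum R)) := heQ
    rw [h] at this
    exact this
  · have : P ∈ (PrimeSpectrum.basicOpen e : Set (PrimeSpectrum R)) := h ▸ Set.mem_univ P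
    exact this heP

theorem ringHom_ext_of_retract {K R : Type*} [CommRing K] [CommRing R] (hK : IsField K)
    (ι : K →+* R) (hι : ι.IsIntegral) [PreconnectedSpace (PrimeSpectrum R)] (a₁ a₂ : R →+* K)
    (h₁ : a₁.comp ι = RingHom.id K) (h₂ : a₂.comp ι = RingHom.id K) : a₁ = a₂ := by
  letI := hK.toField
  letI := ι.toAlgebra
  have : Algebra.IsIntegral K R := ⟨hι⟩
  have hsub := subsingleton_primeSpectrum_of_isIntegral (K := K) (R := R)
  have hker : RingHom.ker a₁ = RingHom.ker a₂ := by
    have := hsub.elim ⟨RingHom.ker a₁, RingHom.ker_isPrime a₁⟩ ⟨RingHom.ker a₂, RingHom.ker_isPrime a₂⟩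
    exact congrArg PrimeSpectrum.asIdeal this
  ext r
  have h1 : r - ι (a₁ r) ∈ RingHom.ker a₁ := by
    rw [RingHom.mem_ker, map_sub]
    have : a₁ (ι (a₁ r)) = a₁ r := congr($h₁ (a₁ r))
    rw [this, sub_self]
  rw [hker, RingHom.mem_ker, map_sub] at h1
  have : a₂ (ι (a₁ r)) = a₁ r := congr($h₂ (a₁ r))
  rw [this] at h1
  exact (sub_eq_zero.mp h1).symm

end Groth.Agent.Lib.Helper20.Stein
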