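import Groth.Agent.Lib.Helper20.Stein
import Groth.Agent.Lib.Helper20.UnivHomeo
set_option autoImplicit false
universe u
namespace Groth.Agent.Lib.Helper20.Stein
open AlgebraicGeometry CategoryTheory Limits
open Groth.Agent.Lib.Helper20.UnivHomeo

variable {X S : Scheme.{u}} (f : X ⟶ S) [IsProper f] [GeometricallyConnected f]

omit [IsProper f] in
theorem surjective_of_geometricallyConnected : Surjective f := by
  refine ⟨fun s => ?_⟩
  have hc : ConnectedSpace ((pullback f (S.fromSpecResidueField s) : Scheme.{u})) :=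
    GeometricallyConnected.geometrically_connectedSpace (f := f) (S.fromSpecResidueField s) _ _
      (IsPullback.of_hasPullback _ _)
  obtain ⟨z⟩ := hc.toNonempty
  refine ⟨pullback.fst f (S.fromSpecResidueField s) z, ?_⟩
  rw [← Scheme.Hom.comp_apply, pullback.condition, Scheme.Hom.comp_apply]
  exact S.fromSpecResidueField_apply s _


theorem universallyInjective_fromNormalization : UniversallyInjective f.fromNormalization := by
  have h01 : UniversallyInjective f.fromNormalization ↔ ∀ (K : Type u) [Field K],
      Function.Injective (fun g : Spec (.of K) ⟶ f.normalization ↦ g ≫ f.fromNormalization) :=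
    (tfae_universallyInjective f.fromNormalization).out 0 1
  rw [h01]
  intro K _ g₁ g₂ hg
  change g₁ ≫ f.fromNormalization = g₂ ≫ f.fromNormalization at hg
  set ν := f.fromNormalization with hν
  set τ := f.toNormalization with hτ
  have hτν : τ ≫ ν = f := f.toNormalization_fromNormalization
  set s : Spec (.of K) ⟶ S := g₁ ≫ ν with hs
  let Z : Scheme.{u} := pullback ν s
  let p₁ : Z ⟶ f.normalization := pullback.fst ν s
  let p₂ : Z ⟶ Spec (.of K) := pullback.snd ν s
  let σ₁ : Spec (.of K) ⟶ Z := pullback.lift g₁ (𝟙 _) (by simp [hs])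
  let σ₂ : Spec (.of K) ⟶ Z := pullback.lift g₂ (𝟙 _) (by rw [Category.id_comp]; exact hg.symm)
  have hσ₁ : σ₁ ≫ p₂ = 𝟙 _ := pullback.lift_snd _ _ _
  have hσ₂ : σ₂ ≫ p₂ = 𝟙 _ := pullback.lift_snd _ _ _
  have hσ₁' : σ₁ ≫ p₁ = g₁ := pullback.lift_fst _ _ _
  have hσ₂' : σ₂ ≫ p₁ = g₂ := pullback.lift_fst _ _ _
  suffices h : σ₁ = σ₂ by rw [← hσ₁', ← hσ₂', h]
  -- Z is affine
  have : IsIntegralHom p₂ := MorphismProperty.pullback_snd (P := @IsIntegralHom) _ _ inferInstance
  have hZaff : IsAffine Z := isAffine_of_isAffineHom p₂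
  -- Z is connected
  let W : Scheme.{u} := pullback τ p₁
  have hsq : IsPullback (pullback.fst τ p₁) (pullback.snd τ p₁ ≫ p₂) (τ ≫ ν) s :=
    (IsPullback.of_hasPullback τ p₁).paste_vert (IsPullback.of_hasPullback ν s)
  rw [hτν] at hsq
  have hWc : ConnectedSpace W :=
    GeometricallyConnected.geometrically_connectedSpace (f := f) s _ _ hsq
  have hsurj : Surjective (pullback.snd τ p₁) :=
    MorphismProperty.pullback_snd (P := @Surjective) _ _ inferInstance
  have hZc : ConnectedSpace Z :=
    Function.Surjective.connectedSpace (pullback.snd τ p₁).surjective (pullback.snd τ p₁).continuous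
  have hRc : PreconnectedSpace (PrimeSpectrum Γ(Z, ⊤)) := by
    have : ConnectedSpace (Spec Γ(Z, ⊤)) :=
      Function.Surjective.connectedSpace Z.isoSpec.hom.homeomorph.surjective
        Z.isoSpec.hom.homeomorph.continuous
    exact (inferInstance : PreconnectedSpace (Spec Γ(Z, ⊤)))
  have hK : IsField Γ(Spec (.of K), ⊤) :=
    MulEquiv.isField (Field.toIsField K)
      (Scheme.ΓSpecIso (.of K)).commRingCatIsoToRingEquiv.toMulEquiv
  have hint : p₂.appTop.hom.IsIntegral := p₂.isIntegral_app ⊤ (isAffineOpen_top _)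
  apply ext_of_isAffine
  ext1
  refine ringHom_ext_of_retract hK p₂.appTop.hom hint _ _ ?_ ?_
  · rw [← CommRingCat.hom_comp, ← Scheme.Hom.comp_appTop, hσ₁]; rfl
  · rw [← CommRingCat.hom_comp, ← Scheme.Hom.comp_appTop, hσ₂]; rfl


theorem isUnivHomeo_fromNormalization : FlatMor.IsUnivHomeo f.fromNormalization := by
  rw [isUnivHomeo_iff_scheme]
  refine ⟨inferInstance, universallyInjective_fromNormalization f, ?_⟩
  have : Surjective (f.toNormalization ≫ f.fromNormalization) := by
    rw [f.toNormalization_fromNormalization]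
    exact surjective_of_geometricallyConnected f
  exact Surjective.of_comp f.toNormalization f.fromNormalization

end Groth.Agent.Lib.Helper20.Stein
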