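import Groth.Agent.Lib.Helper20.UnivHomeoLocal

/-!
# Chains of elementary extensions: the largest universally homeomorphic subalgebras `W1`, `W2`
-/

set_option autoImplicit false
universe u

namespace Groth.Agent.Lib.Helper20.UnivHomeo

open AlgebraicGeometry CategoryTheory Limits TensorProduct

section Steps

variable {A B : Type u} [CommRing A] [CommRing B] [Algebra A B]

/-- elementary step of type `b², b³` -/
def step1 (C : Subalgebra A B) (b : B) : Prop := b ^ 2 ∈ C ∧ b ^ 3 ∈ C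

/-- elementary step of type `b², b³` or `p b, b ^ p` -/
def step2 (C : Subalgebra A B) (b : B) : Prop :=
  (b ^ 2 ∈ C ∧ b ^ 3 ∈ C) ∨ ∃ p : ℕ, p.Prime ∧ (p : B) * b ∈ C ∧ b ^ p ∈ C

theorem step1_mono : ∀ (C D : Subalgebra A B), C ≤ D → ∀ b, step1 C b → step1 D b :=
  fun _ _ h _ hb => ⟨h hb.1, h hb.2⟩

theorem step2_mono : ∀ (C D : Subalgebra A B), C ≤ D → ∀ b, step2 C b → step2 D b := by
  rintro C D h b (hb | ⟨p, hp, h1, h2⟩)
  · exact Or.inl ⟨h hb.1, h hb.2⟩
  · exact Or.inr ⟨p, hp, h h1, h h2⟩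

variable (A B) in
/-- union of all chains of elementary extensions of type 1 -/
def W1 : Subalgebra A B := chainClosure (A := A) (B := B) step1 step1_mono

variable (A B) in
/-- union of all chains of elementary extensions of type 1 or 2 -/
def W2 : Subalgebra A B := chainClosure (A := A) (B := B) step2 step2_mono

theorem mem_W_of_two {step : Subalgebra A B → B → Prop}
    (hmono : ∀ (C D : Subalgebra A B), C ≤ D → ∀ b, step C b → step D b)
    (b x y : B) (hx : x ∈ chainClosure step hmono) (hy : y ∈ chainClosure step hmono)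
    (hstep : ∀ C : Subalgebra A B, x ∈ C → y ∈ C → step C b) : b ∈ chainClosure step hmono := by
  obtain ⟨l₂, hl₂, h₂⟩ := hx
  obtain ⟨l₃, hl₃, h₃⟩ := hy
  refine mem_chainClosure_of_chain_step hmono (hl₂.append hmono hl₃) (hstep _ ?_ ?_)
  · exact adjoinList_mono (fun x hx => List.mem_append_left _ hx) h₂
  · exact adjoinList_mono (fun x hx => List.mem_append_right _ hx) h₃

theorem UH.W2_eq_top (hUH : UH A B) : W2 A B = ⊤ := by
  by_contra hne
  have hUHW : UH (W2 A B) B := hUH.tower_top _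
  have hns : ¬ Function.Surjective (algebraMap (W2 A B) B) := by
    intro hs
    apply hne
    rw [eq_top_iff]
    intro b _
    obtain ⟨w, rfl⟩ := hs b
    exact w.2
  rcases global_general hUHW hns with ⟨b, hb1, ⟨w₂, hw₂⟩, ⟨w₃, hw₃⟩⟩ |
    ⟨p, b, hp, hb1, ⟨w₂, hw₂⟩, ⟨w₃, hw₃⟩⟩
  · apply hb1
    have hb : b ∈ W2 A B := mem_W_of_two step2_mono b (b ^ 2) (b ^ 3) (hw₂ ▸ w₂.2) (hw₃ ▸ w₃.2)
      (fun C h2 h3 => Or.inl ⟨h2, h3⟩)
    exact ⟨⟨b, hb⟩, rfl⟩
  · apply hb1
    have hb : b ∈ W2 A B := mem_W_of_two step2_mono b ((p : B) * b) (b ^ p) (hw₂ ▸ w₂.2)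
      (hw₃ ▸ w₃.2) (fun C h2 h3 => Or.inr ⟨p, hp, h2, h3⟩)
    exact ⟨⟨b, hb⟩, rfl⟩

theorem UH.W1_eq_top (hUH : UH A B) (hRT : ResTriv A B) : W1 A B = ⊤ := by
  by_contra hne
  have hUHW : UH (W1 A B) B := hUH.tower_top _
  have hRTW : ResTriv (W1 A B) B := hRT.tower_top _
  have hns : ¬ Function.Surjective (algebraMap (W1 A B) B) := by
    intro hs
    apply hne
    rw [eq_top_iff]
    intro b _
    obtain ⟨w, rfl⟩ := hs b
    exact w.2
  obtain ⟨b, hb1, ⟨w₂, hw₂⟩, ⟨w₃, hw₃⟩⟩ := global_resTriv hUHW hRTW hns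
  apply hb1
  have hb : b ∈ W1 A B := mem_W_of_two step1_mono b (b ^ 2) (b ^ 3) (hw₂ ▸ w₂.2) (hw₃ ▸ w₃.2)
    (fun C h2 h3 => ⟨h2, h3⟩)
  exact ⟨⟨b, hb⟩, rfl⟩

/-- induction principle along chains -/
theorem Chain.adjoinList_le {step : Subalgebra A B → B → Prop} (C : Subalgebra A B)
    (hC : ∀ (l : List B) (b : B), Chain step l → step (adjoinList A l) b → adjoinList A l ≤ C → b ∈ C)
    {l : List B} (hl : Chain step l) : adjoinList A l ≤ C := by
  induction hl with
  | nil =>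
    apply Algebra.adjoin_le
    intro x hx
    simp at hx
  | snoc l b hl hb ih =>
    apply Algebra.adjoin_le
    intro x hx
    have hx' : x ∈ l ++ [b] := hx
    rw [List.mem_append, List.mem_singleton] at hx'
    rcases hx' with hx' | rfl
    · exact ih (Algebra.subset_adjoin hx')
    · exact hC l x hl hb ih

theorem Chain.map {B' : Type u} [CommRing B'] [Algebra A B'] (g : B →ₐ[A] B')
    {step : Subalgebra A B → B → Prop} {step' : Subalgebra A B' → B' → Prop}
    (hstep : ∀ (C : Subalgebra A B) (b : B), step C b → step' (C.map g) (g b))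
    (hmono' : ∀ (C D : Subalgebra A B'), C ≤ D → ∀ b, step' C b → step' D b)
    {l : List B} (hl : Chain step l) : Chain step' (l.map g) := by
  induction hl with
  | nil => exact Chain.nil
  | snoc l b _ hb ih =>
    rw [List.map_append, List.map_singleton]
    refine Chain.snoc _ _ ih (hmono' _ _ ?_ _ (hstep _ _ hb))
    rw [adjoinList, AlgHom.map_adjoin]
    apply Algebra.adjoin_mono
    rintro _ ⟨x, hx, rfl⟩
    exact List.mem_map_of_mem hx

theorem adjoinList_map_le {B' : Type u} [CommRing B'] [Algebra A B'] (g : B →ₐ[A] B') (l : List B) :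
    (adjoinList A l).map g ≤ adjoinList A (l.map g) := by
  rw [adjoinList, AlgHom.map_adjoin]
  apply Algebra.adjoin_mono
  rintro _ ⟨x, hx, rfl⟩
  exact List.mem_map_of_mem hx

theorem step1_map {B' : Type u} [CommRing B'] [Algebra A B'] (g : B →ₐ[A] B')
    (C : Subalgebra A B) (b : B) (h : step1 C b) : step1 (C.map g) (g b) := by
  refine ⟨?_, ?_⟩
  · rw [← map_pow]; exact ⟨_, h.1, rfl⟩
  · rw [← map_pow]; exact ⟨_, h.2, rfl⟩

theorem step2_map {B' : Type u} [CommRing B'] [Algebra A B'] (g : B →ₐ[A] B')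
    (C : Subalgebra A B) (b : B) (h : step2 C b) : step2 (C.map g) (g b) := by
  rcases h with h | ⟨p, hp, h1, h2⟩
  · exact Or.inl (step1_map g C b h)
  · refine Or.inr ⟨p, hp, ?_, ?_⟩
    · refine ⟨_, h1, ?_⟩
      simp
    · rw [← map_pow]; exact ⟨_, h2, rfl⟩

theorem closed_eq_top_W2 (C' : Subalgebra A (W2 A B))
    (h1 : ∀ w : W2 A B, w ^ 2 ∈ C' → w ^ 3 ∈ C' → w ∈ C')
    (h2 : ∀ (p : ℕ) (w : W2 A B), p.Prime → (p : W2 A B) * w ∈ C' → w ^ p ∈ C' → w ∈ C') :
    C' = ⊤ := by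
  have hmem : ∀ {x : B} (hx : x ∈ C'.map (W2 A B).val) (hxW : x ∈ W2 A B), (⟨x, hxW⟩ : W2 A B) ∈ C' := by
    rintro x ⟨c, hc, rfl⟩ hxW
    exact hc
  have key : ∀ l : List B, Chain (A := A) step2 l → adjoinList A l ≤ C'.map (W2 A B).val := by
    intro l hl
    refine Chain.adjoinList_le _ ?_ hl
    intro l b hl hb hle
    have hbW : b ∈ W2 A B := mem_chainClosure_of_chain_step step2_mono hl hb
    have hl_le : adjoinList A l ≤ W2 A B := fun x hx => ⟨l, hl, hx⟩
    refine ⟨⟨b, hbW⟩, ?_, rfl⟩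
    rcases hb with ⟨hb2, hb3⟩ | ⟨p, hp, hb1, hbp⟩
    · exact h1 _ (hmem (hle hb2) (hl_le hb2)) (hmem (hle hb3) (hl_le hb3))
    · refine h2 p _ hp ?_ (hmem (hle hbp) (hl_le hbp))
      have := hmem (hle hb1) (hl_le hb1)
      convert this using 1
      apply Subtype.ext
      simp
  rw [eq_top_iff]
  rintro ⟨w, l, hl, hw⟩ -
  exact hmem (key l hl hw) _

theorem uh_W2 (hker : ∀ a : A, algebraMap A B a = 0 → IsNilpotent a) : UH A (W2 A B) := by
  refine ⟨?_, ?_, ?_⟩
  · have := closed_eq_top_W2 (integralClosure A (W2 A B))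
      (fun b h2 _ => IsIntegral.of_pow (n := 2) (by norm_num) h2)
      (fun p b hp _ h2 => IsIntegral.of_pow hp.pos h2)
    exact ⟨fun b => by
      have hb : b ∈ integralClosure A (W2 A B) := this ▸ Algebra.mem_top
      exact hb⟩
  · intro a ha
    apply hker
    have : algebraMap A B a = ((algebraMap A (W2 A B) a : W2 A B) : B) := rfl
    rw [this, ha]
    rfl
  · rw [isRadicial_iff_radicialClosure]
    exact closed_eq_top_W2 _ (fun b h2 h3 => mem_radicialClosure_of_sq_cube h2 h3)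
      (fun p b hp h1 h2 => mem_radicialClosure_of_prime p hp h1 h2)

theorem range_le_W2 {C : Type u} [CommRing C] [Algebra A C] (hC : UH A C) (g : C →ₐ[A] B) :
    g.range ≤ W2 A B := by
  rintro _ ⟨c, rfl⟩
  have hc : c ∈ W2 A C := hC.W2_eq_top ▸ Algebra.mem_top
  obtain ⟨l, hl, hcl⟩ := hc
  refine ⟨l.map g, hl.map g (step2_map g) step2_mono, ?_⟩
  exact adjoinList_map_le g l ⟨c, hcl, rfl⟩

theorem closed_eq_top_W1 (C' : Subalgebra A (W1 A B))
    (h1 : ∀ w : W1 A B, w ^ 2 ∈ C' → w ^ 3 ∈ C' → w ∈ C') : C' = ⊤ := by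
  have hmem : ∀ {x : B} (hx : x ∈ C'.map (W1 A B).val) (hxW : x ∈ W1 A B), (⟨x, hxW⟩ : W1 A B) ∈ C' := by
    rintro x ⟨c, hc, rfl⟩ hxW
    exact hc
  have key : ∀ l : List B, Chain (A := A) step1 l → adjoinList A l ≤ C'.map (W1 A B).val := by
    intro l hl
    refine Chain.adjoinList_le _ ?_ hl
    intro l b hl hb hle
    have hbW : b ∈ W1 A B := mem_chainClosure_of_chain_step step1_mono hl hb
    have hl_le : adjoinList A l ≤ W1 A B := fun x hx => ⟨l, hl, hx⟩
    refine ⟨⟨b, hbW⟩, ?_, rfl⟩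
    obtain ⟨hb2, hb3⟩ := hb
    exact h1 _ (hmem (hle hb2) (hl_le hb2)) (hmem (hle hb3) (hl_le hb3))
  rw [eq_top_iff]
  rintro ⟨w, l, hl, hw⟩ -
  exact hmem (key l hl hw) _

theorem uh_W1 (hker : ∀ a : A, algebraMap A B a = 0 → IsNilpotent a) :
    UH A (W1 A B) ∧ ResTriv A (W1 A B) := by
  refine ⟨⟨?_, ?_, ?_⟩, ?_⟩
  · have := closed_eq_top_W1 (integralClosure A (W1 A B))
      (fun b h2 _ => IsIntegral.of_pow (n := 2) (by norm_num) h2)
    exact ⟨fun b => by
      have hb : b ∈ integralClosure A (W1 A B) := this ▸ Algebra.mem_top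
      exact hb⟩
  · intro a ha
    apply hker
    have : algebraMap A B a = ((algebraMap A (W1 A B) a : W1 A B) : B) := rfl
    rw [this, ha]
    rfl
  · rw [isRadicial_iff_radicialClosure]
    exact closed_eq_top_W1 _ (fun b h2 h3 => mem_radicialClosure_of_sq_cube h2 h3)
  · intro 𝔮 _ b
    have := closed_eq_top_W1 (resTrivClosure A 𝔮) (fun b h2 h3 => ResTrivAt.of_sq_cube h2 h3)
    have hb : b ∈ resTrivClosure A 𝔮 := this ▸ Algebra.mem_top
    exact hb

theorem range_le_W1 {C : Type u} [CommRing C] [Algebra A C] (hC : UH A C) (hRT : ResTriv A C)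
    (g : C →ₐ[A] B) : g.range ≤ W1 A B := by
  rintro _ ⟨c, rfl⟩
  have hc : c ∈ W1 A C := hC.W1_eq_top hRT ▸ Algebra.mem_top
  obtain ⟨l, hl, hcl⟩ := hc
  refine ⟨l.map g, hl.map g (step1_map g) step1_mono, ?_⟩
  exact adjoinList_map_le g l ⟨c, hcl, rfl⟩

end Steps

end Groth.Agent.Lib.Helper20.UnivHomeo
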