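import Groth.Agent.Lib.Helper20.UnivHomeoAwn
set_option autoImplicit false
universe u
namespace Groth.Agent.Lib.Helper20.UnivHomeo
open AlgebraicGeometry CategoryTheory Limits TensorProduct

section Ext

theorem exists_extension_of_isIntegral {D B Ω : Type*} [CommRing D] [CommRing B] [Field Ω]
    [IsAlgClosed Ω] [Algebra D B] [Algebra.IsIntegral D B]
    (hinj : Function.Injective (algebraMap D B)) (u' : D →+* Ω) :
    ∃ u : B →+* Ω, u.comp (algebraMap D B) = u' := by
  have h𝔮 : (RingHom.ker u').IsPrime := RingHom.ker_isPrime u'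
  obtain ⟨𝔔, -, h𝔔, h𝔔𝔮⟩ := Ideal.exists_ideal_over_prime_of_isIntegral (RingHom.ker u')
    (⊥ : Ideal B) (by rw [Ideal.comap_bot_of_injective _ hinj]; exact bot_le)
  let f : D ⧸ RingHom.ker u' →+* B ⧸ 𝔔 :=
    Ideal.quotientMap 𝔔 (algebraMap D B) (le_of_eq h𝔔𝔮.symm)
  let _ := f.toAlgebra
  let g : D ⧸ RingHom.ker u' →+* Ω := RingHom.kerLift u'
  let _ := g.toAlgebra
  have hfinj : Function.Injective f := Ideal.quotientMap_injective' (le_of_eq h𝔔𝔮)
  have hginj : Function.Injective g := RingHom.kerLift_injective u'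
  have : Module.IsTorsionFree (D ⧸ RingHom.ker u') (B ⧸ 𝔔) :=
    Module.isTorsionFree_iff_algebraMap_injective.mpr hfinj
  have : Module.IsTorsionFree (D ⧸ RingHom.ker u') Ω :=
    Module.isTorsionFree_iff_algebraMap_injective.mpr hginj
  have hint : f.IsIntegral := by
    have h0 : (algebraMap D B).IsIntegral := Algebra.isIntegral_def.mp inferInstance
    intro x
    obtain ⟨b, rfl⟩ := Ideal.Quotient.mk_surjective x
    obtain ⟨p, hp, hpb⟩ := h0 b
    refine ⟨p.map (Ideal.Quotient.mk _), hp.map _, ?_⟩
    rw [Polynomial.eval₂_map]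
    have : f.comp (Ideal.Quotient.mk (RingHom.ker u')) =
        (Ideal.Quotient.mk 𝔔).comp (algebraMap D B) := by
      ext d; rfl
    rw [this, ← Polynomial.hom_eval₂, hpb, map_zero]
  have : Algebra.IsIntegral (D ⧸ RingHom.ker u') (B ⧸ 𝔔) := Algebra.isIntegral_def.mpr hint
  have : Algebra.IsAlgebraic (D ⧸ RingHom.ker u') (B ⧸ 𝔔) := Algebra.IsIntegral.isAlgebraic
  let σ : B ⧸ 𝔔 →ₐ[D ⧸ RingHom.ker u'] Ω := IsAlgClosed.lift
  refine ⟨σ.toRingHom.comp (Ideal.Quotient.mk 𝔔), ?_⟩
  ext d
  change σ (f (Ideal.Quotient.mk _ d)) = u' d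
  have := σ.commutes (Ideal.Quotient.mk _ d)
  exact this

variable {A B : Type u} [CommRing A] [CommRing B] [Algebra A B]

/-- Lemma X: if `B` is integral over `A` and every element of the subalgebra `D` has
`d ⊗ 1 - 1 ⊗ d` nilpotent in `B ⊗[A] B`, then `D` is radicial over `A`. -/
theorem isRadicial_subalgebra_of_nilpotent [Algebra.IsIntegral A B] (D : Subalgebra A B)
    (h : ∀ d ∈ D, IsNilpotent (d ⊗ₜ[A] (1 : B) - (1 : B) ⊗ₜ[A] d)) : IsRadicial A D := by
  intro d
  apply isNilpotent_of_forall_prime
  intro 𝔓 h𝔓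
  let Ω := AlgebraicClosure 𝔓.ResidueField
  let π : D ⊗[A] D →+* Ω := (algebraMap 𝔓.ResidueField Ω).comp (algebraMap (D ⊗[A] D) 𝔓.ResidueField)
  have hπ : ∀ t, π t = 0 ↔ t ∈ 𝔓 := by
    intro t
    change algebraMap 𝔓.ResidueField Ω (algebraMap (D ⊗[A] D) 𝔓.ResidueField t) = 0 ↔ _
    rw [map_eq_zero, Ideal.algebraMap_residueField_eq_zero]
  have : Algebra.IsIntegral D B := Algebra.IsIntegral.tower_top (R := A)
  have hinj : Function.Injective (algebraMap D B) := Subtype.val_injective
  obtain ⟨u, hu⟩ := exists_extension_of_isIntegral hinj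
    (π.comp (Algebra.TensorProduct.includeLeft : D →ₐ[A] D ⊗[A] D).toRingHom)
  obtain ⟨v, hv⟩ := exists_extension_of_isIntegral hinj
    (π.comp (Algebra.TensorProduct.includeRight : D →ₐ[A] D ⊗[A] D).toRingHom)
  let _ : Algebra A Ω := (π.comp (algebraMap A (D ⊗[A] D))).toAlgebra
  have hu_comm : ∀ a, u (algebraMap A B a) = algebraMap A Ω a := by
    intro a
    have := congrArg (fun f => f (algebraMap A D a)) hu
    simp only [RingHom.comp_apply] at this
    change u (algebraMap D B (algebraMap A D a)) = _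
    rw [this]
    rfl
  have hv_comm : ∀ a, v (algebraMap A B a) = algebraMap A Ω a := by
    intro a
    have := congrArg (fun f => f (algebraMap A D a)) hv
    simp only [RingHom.comp_apply] at this
    change v (algebraMap D B (algebraMap A D a)) = _
    rw [this]
    change π ((1 : D) ⊗ₜ[A] (algebraMap A D a)) = π (algebraMap A (D ⊗[A] D) a)
    congr 1
    rw [Algebra.TensorProduct.algebraMap_apply, Algebra.algebraMap_eq_smul_one,
      TensorProduct.smul_tmul]
  let u' : B →ₐ[A] Ω := { toRingHom := u, commutes' := hu_comm }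
  let v' : B →ₐ[A] Ω := { toRingHom := v, commutes' := hv_comm }
  have h1 := (h d d.2).map (Algebra.TensorProduct.productMap u' v')
  simp only [map_sub, Algebra.TensorProduct.productMap_apply_tmul, map_one, mul_one, one_mul] at h1
  have h2 : u' (d : B) - v' (d : B) = π (d ⊗ₜ[A] (1 : D) - (1 : D) ⊗ₜ[A] d) := by
    rw [map_sub]
    congr 1
    · exact congrArg (fun f => f d) hu
    · exact congrArg (fun f => f d) hv
  rw [h2] at h1
  exact (hπ _).mp h1.eq_zero

/-- The radicial closure (elements `b` with `b ⊗ 1 - 1 ⊗ b` nilpotent) of an injective integral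
extension is a universal homeomorphism over the base. -/
theorem uh_radicialClosure [Algebra.IsIntegral A B] (hinj : Function.Injective (algebraMap A B)) :
    UH A (radicialClosure A B) where
  integral := by
    refine ⟨fun d => ?_⟩
    have h := Algebra.IsIntegral.isIntegral (R := A) (d : B)
    exact (isIntegral_algHom_iff (radicialClosure A B).val Subtype.val_injective).mp h
  ker_nil := by
    intro a ha
    have : algebraMap A B a = 0 := by
      have := congrArg Subtype.val ha
      simpa using this
    rw [hinj (this.trans (map_zero _).symm)]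
    exact IsNilpotent.zero
  radicial := isRadicial_subalgebra_of_nilpotent _ (fun d hd => hd)

theorem uh_subalgebra_of_le_radicialClosure [Algebra.IsIntegral A B]
    (hinj : Function.Injective (algebraMap A B)) (D : Subalgebra A B)
    (hD : D ≤ radicialClosure A B) : UH A D where
  integral := by
    refine ⟨fun d => ?_⟩
    have h := Algebra.IsIntegral.isIntegral (R := A) (d : B)
    exact (isIntegral_algHom_iff D.val Subtype.val_injective).mp h
  ker_nil := by
    intro a ha
    have : algebraMap A B a = 0 := by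
      have := congrArg Subtype.val ha
      simpa using this
    rw [hinj (this.trans (map_zero _).symm)]
    exact IsNilpotent.zero
  radicial := isRadicial_subalgebra_of_nilpotent _ (fun d hd => hD hd)

theorem le_radicialClosure_of_uh (C : Subalgebra A B) (hC : UH A C) : C ≤ radicialClosure A B := by
  intro c hc
  exact isNilpotent_delta_map C.val ⟨c, hc⟩ (hC.radicial ⟨c, hc⟩)


end Ext

end Groth.Agent.Lib.Helper20.UnivHomeo
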