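import Groth.Agent.Lib.Helper20.UnivHomeo

/-!
# Universal homeomorphisms of affine schemes: the local structure lemma (Stacks 0CNB/0CNC style)
-/

set_option autoImplicit false
universe u

namespace Groth.Agent.Lib.Helper20.UnivHomeo

open AlgebraicGeometry CategoryTheory Limits TensorProduct

section Local

theorem exists_sq_cube_of_pow_mem {B : Type*} [CommRing B] (R : Subring B) (f : B) (hf : f ∉ R)
    (n : ℕ) (hn : ∀ k, n ≤ k → f ^ k ∈ R) : ∃ b : B, b ∉ R ∧ b ^ 2 ∈ R ∧ b ^ 3 ∈ R := by
  classical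
  let P : ℕ → Prop := fun k => f ^ k ∉ R
  have hP1 : P 1 := by simpa [P] using hf
  have h1n : 1 ≤ n := by
    by_contra h
    have : n ≤ 1 := by omega
    exact hf (by simpa using hn 1 this)
  have hk : P (Nat.findGreatest P n) := Nat.findGreatest_spec (m := 1) h1n hP1
  have hk1 : 1 ≤ Nat.findGreatest P n := Nat.le_findGreatest h1n hP1
  have hmax : ∀ m, Nat.findGreatest P n < m → f ^ m ∈ R := by
    intro m hm
    by_cases hmn : m ≤ n
    · by_contra h
      have := Nat.le_findGreatest (P := P) hmn h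
      omega
    · exact hn m (by omega)
  refine ⟨f ^ Nat.findGreatest P n, hk, ?_, ?_⟩
  · rw [← pow_mul]; exact hmax _ (by omega)
  · rw [← pow_mul]; exact hmax _ (by omega)

variable {A B : Type u} [CommRing A] [CommRing B] [Algebra A B]

/-- the conductor of `A` in `B`, as an ideal of `B` -/
def conductorB (A B : Type*) [CommRing A] [CommRing B] [Algebra A B] : Ideal B where
  carrier := {c | ∀ b : B, c * b ∈ (algebraMap A B).range}
  add_mem' := by
    intro c d hc hd b
    rw [add_mul]
    exact add_mem (hc b) (hd b)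
  zero_mem' := by
    intro b
    rw [zero_mul]
    exact zero_mem _
  smul_mem' := by
    intro r c hc b
    rw [smul_eq_mul, mul_assoc, mul_comm r, mul_assoc]
    exact hc (b * r)  |> fun h => by simpa [mul_comm, mul_assoc, mul_left_comm] using hc (r * b)

theorem conductorB_le_range : (conductorB A B : Set B) ⊆ (algebraMap A B).range := by
  intro c hc
  have := hc 1
  rwa [mul_one] at this

end Local

section Local2

variable {A B : Type u} [CommRing A] [CommRing B] [Algebra A B]

theorem UH.universallyInjective (h : UH A B) :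
    UniversallyInjective (Spec.map (CommRingCat.ofHom (algebraMap A B))) :=
  (universallyInjective_SpecMap_iff A B).mpr h.radicial

theorem UH.comap_injective (h : UH A B) :
    Function.Injective (PrimeSpectrum.comap (algebraMap A B)) :=
  (universallyInjective_SpecMap_iff_elt.mp h.universallyInjective).1

theorem UH.comap_surjective (h : UH A B) :
    Function.Surjective (PrimeSpectrum.comap (algebraMap A B)) := by
  have := h.integral
  have h1 := (surjective_SpecMap_iff_of_isIntegral A B).mpr h.ker_nil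
  rw [surjective_iff] at h1
  exact h1

theorem UH.pinsep (h : UH A B) (𝔮 : Ideal B) [𝔮.IsPrime] (q : ℕ)
    [ExpChar (A ⧸ 𝔮.comap (algebraMap A B)) q] (b : B) : ∃ n : ℕ, ResTrivAt A 𝔮 (b ^ q ^ n) :=
  (universallyInjective_SpecMap_iff_elt.mp h.universallyInjective).2 𝔮 q b

theorem local_step [IsLocalRing A] (hUH : UH A B)
    (hI : ∀ m ∈ IsLocalRing.maximalIdeal A, ∃ n : ℕ, algebraMap A B (m ^ n) ∈ conductorB A B) :
    ∃ 𝔓 : Ideal B, 𝔓.IsPrime ∧ 𝔓.comap (algebraMap A B) = IsLocalRing.maximalIdeal A ∧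
      ((∃ b : B, b ∉ (algebraMap A B).range ∧ b ^ 2 ∈ (algebraMap A B).range ∧
        b ^ 3 ∈ (algebraMap A B).range) ∨ (𝔓 : Set B) ⊆ (algebraMap A B).range) := by
  obtain ⟨⟨𝔓, h𝔓⟩, h𝔓m⟩ := hUH.comap_surjective ⟨IsLocalRing.maximalIdeal A, inferInstance⟩
  have h𝔓m' : 𝔓.comap (algebraMap A B) = IsLocalRing.maximalIdeal A :=
    congrArg PrimeSpectrum.asIdeal h𝔓m
  refine ⟨𝔓, h𝔓, h𝔓m', ?_⟩
  -- every prime containing the conductor is 𝔓
  have hprime : ∀ 𝔮 : Ideal B, 𝔮.IsPrime → conductorB A B ≤ 𝔮 → 𝔮 = 𝔓 := by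
    intro 𝔮 h𝔮 hle
    have h1 : IsLocalRing.maximalIdeal A ≤ 𝔮.comap (algebraMap A B) := by
      intro m hm
      obtain ⟨n, hn⟩ := hI m hm
      have : algebraMap A B m ^ n ∈ 𝔮 := by
        rw [← map_pow]; exact hle hn
      exact h𝔮.mem_of_pow_mem n this
    have h2 : 𝔮.comap (algebraMap A B) = IsLocalRing.maximalIdeal A :=
      ((IsLocalRing.maximalIdeal.isMaximal A).eq_of_le (Ideal.IsPrime.ne_top inferInstance) h1).symm
    have := hUH.comap_injective (a₁ := ⟨𝔮, h𝔮⟩) (a₂ := ⟨𝔓, h𝔓⟩)
      (PrimeSpectrum.ext (h2.trans h𝔓m'.symm))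
    exact congrArg PrimeSpectrum.asIdeal this
  have hrad : 𝔓 ≤ (conductorB A B).radical := by
    rw [Ideal.radical_eq_sInf]
    intro f hf
    rw [Ideal.mem_sInf]
    rintro 𝔮 ⟨hle, h𝔮⟩
    rw [hprime 𝔮 h𝔮 hle]
    exact hf
  by_cases hcase : (𝔓 : Set B) ⊆ (algebraMap A B).range
  · exact Or.inr hcase
  · left
    rw [Set.not_subset] at hcase
    obtain ⟨f, hf𝔓, hfR⟩ := hcase
    obtain ⟨n, hn⟩ := hrad hf𝔓
    apply exists_sq_cube_of_pow_mem (algebraMap A B).range f hfR n
    intro k hk
    apply conductorB_le_range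
    obtain ⟨d, rfl⟩ := Nat.exists_eq_add_of_le hk
    rw [pow_add]
    exact Ideal.mul_mem_right _ _ hn

end Local2

section Local3

variable {A B : Type u} [CommRing A] [CommRing B] [Algebra A B]

/-- if `𝔓 ⊆ range` lies over the maximal ideal, a residually trivial element is in the range -/
theorem mem_range_of_resTrivAt [IsLocalRing A] (𝔓 : Ideal B)
    (h𝔓m : 𝔓.comap (algebraMap A B) = IsLocalRing.maximalIdeal A)
    (h𝔓R : (𝔓 : Set B) ⊆ (algebraMap A B).range) (b : B) (hb : ResTrivAt A 𝔓 b) :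
    b ∈ (algebraMap A B).range := by
  obtain ⟨a, s, hs, e⟩ := hb
  obtain ⟨c, hc⟩ := h𝔓R e
  have hsu : IsUnit s := by
    by_contra hns
    have : s ∈ IsLocalRing.maximalIdeal A := (IsLocalRing.mem_maximalIdeal s).mpr hns
    rw [← h𝔓m] at this
    exact hs this
  obtain ⟨u, rfl⟩ := hsu
  refine ⟨↑u⁻¹ * (c + a), ?_⟩
  have h1 : algebraMap A B ↑u * b = algebraMap A B (c + a) := by
    rw [map_add, hc]; ring
  rw [map_mul, ← h1, ← mul_assoc, ← map_mul, Units.inv_mul, map_one, one_mul]

theorem local_resTriv [IsLocalRing A] (hUH : UH A B) (hRT : ResTriv A B)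
    (hns : ¬ Function.Surjective (algebraMap A B))
    (hI : ∀ m ∈ IsLocalRing.maximalIdeal A, ∃ n : ℕ, algebraMap A B (m ^ n) ∈ conductorB A B) :
    ∃ b : B, b ∉ (algebraMap A B).range ∧ b ^ 2 ∈ (algebraMap A B).range ∧
        b ^ 3 ∈ (algebraMap A B).range := by
  obtain ⟨𝔓, h𝔓, h𝔓m, h | h⟩ := local_step hUH hI
  · exact h
  · exfalso
    apply hns
    intro b
    exact mem_range_of_resTrivAt 𝔓 h𝔓m h b (hRT 𝔓 b)

theorem local_general [IsLocalRing A] (hUH : UH A B)
    (hns : ¬ Function.Surjective (algebraMap A B))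
    (hI : ∀ m ∈ IsLocalRing.maximalIdeal A, ∃ n : ℕ, algebraMap A B (m ^ n) ∈ conductorB A B) :
    (∃ b : B, b ∉ (algebraMap A B).range ∧ b ^ 2 ∈ (algebraMap A B).range ∧
        b ^ 3 ∈ (algebraMap A B).range) ∨
    ∃ (p : ℕ) (b : B), p.Prime ∧ b ∉ (algebraMap A B).range ∧
      (p : B) * b ∈ (algebraMap A B).range ∧ b ^ p ∈ (algebraMap A B).range := by
  obtain ⟨𝔓, h𝔓, h𝔓m, h | h⟩ := local_step hUH hI
  · exact Or.inl h
  · right
    obtain ⟨q, hq⟩ := ExpChar.exists (A ⧸ 𝔓.comap (algebraMap A B))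
    have hpow : ∀ b : B, ∃ n : ℕ, b ^ q ^ n ∈ (algebraMap A B).range := by
      intro b
      obtain ⟨n, hn⟩ := hUH.pinsep 𝔓 q b
      exact ⟨n, mem_range_of_resTrivAt 𝔓 h𝔓m h _ hn⟩
    have hb₀ : ∃ b₀ : B, b₀ ∉ (algebraMap A B).range := by
      by_contra hcon
      push Not at hcon
      exact hns hcon
    obtain ⟨b₀, hb₀⟩ := hb₀
    classical
    rcases hq with _ | ⟨hprime⟩
    · exfalso
      obtain ⟨n, hn⟩ := hpow b₀
      simp at hn
      exact hb₀ hn
    · rename_i hchar
      have hq𝔓 : (q : B) ∈ 𝔓 := by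
        have h0 : ((q : A) : A ⧸ 𝔓.comap (algebraMap A B)) = 0 := by
          have := CharP.cast_eq_zero (A ⧸ 𝔓.comap (algebraMap A B)) q
          simpa using this
        have h1 : (q : A) ∈ 𝔓.comap (algebraMap A B) := Ideal.Quotient.eq_zero_iff_mem.mp h0
        simpa using h1
      have hex := hpow b₀
      have hn0 : Nat.find hex ≠ 0 := by
        intro h0
        have := Nat.find_spec hex
        rw [h0] at this
        simp at this
        exact hb₀ this
      obtain ⟨n, hn⟩ := Nat.exists_eq_succ_of_ne_zero hn0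
      refine ⟨q, b₀ ^ q ^ n, hprime, ?_, ?_, ?_⟩
      · exact Nat.find_min hex (by omega)
      · exact h (Ideal.mul_mem_right _ _ hq𝔓)
      · rw [← pow_mul, ← pow_succ, ← Nat.succ_eq_add_one, ← hn]
        exact Nat.find_spec hex

end Local3

section Loc

variable {A B : Type u} [CommRing A] [CommRing B] [Algebra A B]
variable (S : Submonoid A) (A' B' : Type u) [CommRing A'] [CommRing B'] [Algebra A A']
  [Algebra A B'] [Algebra A' B'] [Algebra B B'] [IsScalarTower A A' B'] [IsScalarTower A B B']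
  [IsLocalization S A'] [IsLocalization (Algebra.algebraMapSubmonoid B S) B']

include S in
theorem UH.localization (h : UH A B) : UH A' B' := by
  rw [← isUnivHomeo_iff] at h ⊢
  have : IsLocalization (Submonoid.map (algebraMap A B) S) B' :=
    ‹IsLocalization (Algebra.algebraMapSubmonoid B S) B'›
  have hpo := CommRingCat.isPushout_of_isLocalization (algebraMap A B) (algebraMap A' B')
    (by rw [← IsScalarTower.algebraMap_eq, ← IsScalarTower.algebraMap_eq]) S
  have hpb := isPullback_SpecMap_of_isPushout _ _ _ _ hpo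
  have : (MorphismProperty.universally
      (topologically (fun {α β} [TopologicalSpace α] [TopologicalSpace β] f => IsHomeomorph f))).IsStableUnderBaseChange :=
    MorphismProperty.universally_isStableUnderBaseChange _
  exact MorphismProperty.of_isPullback (P := MorphismProperty.universally
      (topologically (fun {α β} [TopologicalSpace α] [TopologicalSpace β] f => IsHomeomorph f)))
    hpb h

theorem mem_range_localization_iff (z : B) :
    algebraMap B B' z ∈ (algebraMap A' B').range ↔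
      ∃ u ∈ S, algebraMap A B u * z ∈ (algebraMap A B).range := by
  have hcomm : ∀ a : A, algebraMap A' B' (algebraMap A A' a) = algebraMap B B' (algebraMap A B a) := by
    intro a
    rw [← IsScalarTower.algebraMap_apply, ← IsScalarTower.algebraMap_apply]
  constructor
  · rintro ⟨x, hx⟩
    obtain ⟨⟨a, s⟩, hxs⟩ := IsLocalization.surj S x
    simp only at hxs
    have h1 : algebraMap B B' (algebraMap A B s * z) = algebraMap B B' (algebraMap A B a) := by
      rw [map_mul, ← hx, ← hcomm, ← hcomm, ← map_mul, mul_comm, hxs]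
    obtain ⟨⟨c, hc⟩, hc'⟩ := (IsLocalization.eq_iff_exists
      (Algebra.algebraMapSubmonoid B S) B').mp h1
    obtain ⟨t, ht, rfl⟩ := hc
    simp only at hc'
    refine ⟨t * s, S.mul_mem ht s.2, t * a, ?_⟩
    rw [map_mul, map_mul, ← hc']
    ring
  · rintro ⟨u, hu, a, ha⟩
    refine ⟨IsLocalization.mk' A' a ⟨u, hu⟩, ?_⟩
    have hunit : IsUnit (algebraMap B B' (algebraMap A B u)) :=
      IsLocalization.map_units B' (⟨algebraMap A B u, u, hu, rfl⟩ : Algebra.algebraMapSubmonoid B S)
    apply hunit.mul_left_cancel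
    rw [← map_mul, ← ha, ← hcomm, ← hcomm, ← map_mul, IsLocalization.mul_mk'_eq_mk'_of_mul]
    congr 1
    exact IsLocalization.mk'_mul_cancel_left a ⟨u, hu⟩

include S in
theorem exists_numerator (x : B') : ∃ (b : B) (w winv : A'), w * winv = 1 ∧
    algebraMap B B' b = x * algebraMap A' B' w := by
  obtain ⟨b, ⟨_, s, hs, rfl⟩, rfl⟩ := IsLocalization.exists_mk'_eq
    (Algebra.algebraMapSubmonoid B S) x
  refine ⟨b, algebraMap A A' s, IsLocalization.mk' A' 1 ⟨s, hs⟩, ?_, ?_⟩
  · rw [IsLocalization.mul_mk'_eq_mk'_of_mul, mul_one]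
    exact IsLocalization.mk'_self' A' (x := ⟨s, hs⟩)
  · rw [← IsScalarTower.algebraMap_apply, IsScalarTower.algebraMap_apply A B B']
    exact (IsLocalization.mk'_spec B' b _).symm

theorem range_iff_of_numerator {x : B'} {β : B'} {w winv : A'} (hw : w * winv = 1)
    (hβ : β = x * algebraMap A' B' w) :
    β ∈ (algebraMap A' B').range ↔ x ∈ (algebraMap A' B').range := by
  constructor
  · intro h
    have : x = β * algebraMap A' B' winv := by
      rw [hβ, mul_assoc, ← map_mul, hw, map_one, mul_one]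
    rw [this]
    exact Subring.mul_mem _ h ⟨winv, rfl⟩
  · intro h
    rw [hβ]
    exact Subring.mul_mem _ h ⟨w, rfl⟩

include S in
theorem descend_sq_cube (x : B') (hx : x ∉ (algebraMap A' B').range)
    (h2 : x ^ 2 ∈ (algebraMap A' B').range) (h3 : x ^ 3 ∈ (algebraMap A' B').range) :
    ∃ y : B, y ∉ (algebraMap A B).range ∧ y ^ 2 ∈ (algebraMap A B).range ∧
      y ^ 3 ∈ (algebraMap A B).range := by
  obtain ⟨b, w, winv, hw, hβ⟩ := exists_numerator (B := B) S A' B' x
  have hb1 : algebraMap B B' b ∉ (algebraMap A' B').range :=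
    fun h => hx ((range_iff_of_numerator A' B' hw hβ).mp h)
  have hb2 : algebraMap B B' (b ^ 2) ∈ (algebraMap A' B').range := by
    rw [map_pow, hβ, mul_pow, ← map_pow]
    exact Subring.mul_mem _ h2 ⟨_, rfl⟩
  have hb3 : algebraMap B B' (b ^ 3) ∈ (algebraMap A' B').range := by
    rw [map_pow, hβ, mul_pow, ← map_pow]
    exact Subring.mul_mem _ h3 ⟨_, rfl⟩
  obtain ⟨u₂, hu₂, a₂, ha₂⟩ := (mem_range_localization_iff S A' B' _).mp hb2
  obtain ⟨u₃, hu₃, a₃, ha₃⟩ := (mem_range_localization_iff S A' B' _).mp hb3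
  refine ⟨algebraMap A B (u₂ * u₃) * b, ?_, ?_, ?_⟩
  · intro h
    exact hb1 ((mem_range_localization_iff S A' B' _).mpr ⟨u₂ * u₃, S.mul_mem hu₂ hu₃, h⟩)
  · refine ⟨u₂ * u₃ ^ 2 * a₂, ?_⟩
    rw [map_mul, ha₂]
    simp only [map_mul, map_pow]
    ring
  · refine ⟨u₂ ^ 3 * u₃ ^ 2 * a₃, ?_⟩
    rw [map_mul, ha₃]
    simp only [map_mul, map_pow]
    ring

include S in
theorem descend_prime (p : ℕ) (hp : p.Prime) (x : B') (hx : x ∉ (algebraMap A' B').range)
    (h2 : (p : B') * x ∈ (algebraMap A' B').range) (h3 : x ^ p ∈ (algebraMap A' B').range) :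
    ∃ y : B, y ∉ (algebraMap A B).range ∧ (p : B) * y ∈ (algebraMap A B).range ∧
      y ^ p ∈ (algebraMap A B).range := by
  obtain ⟨b, w, winv, hw, hβ⟩ := exists_numerator (B := B) S A' B' x
  have hb1 : algebraMap B B' b ∉ (algebraMap A' B').range :=
    fun h => hx ((range_iff_of_numerator A' B' hw hβ).mp h)
  have hb2 : algebraMap B B' ((p : B) * b) ∈ (algebraMap A' B').range := by
    rw [map_mul, map_natCast, hβ, ← mul_assoc]
    exact Subring.mul_mem _ h2 ⟨_, rfl⟩
  have hb3 : algebraMap B B' (b ^ p) ∈ (algebraMap A' B').range := by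
    rw [map_pow, hβ, mul_pow, ← map_pow]
    exact Subring.mul_mem _ h3 ⟨_, rfl⟩
  obtain ⟨u₂, hu₂, a₂, ha₂⟩ := (mem_range_localization_iff S A' B' _).mp hb2
  obtain ⟨u₃, hu₃, a₃, ha₃⟩ := (mem_range_localization_iff S A' B' _).mp hb3
  refine ⟨algebraMap A B (u₂ * u₃) * b, ?_, ?_, ?_⟩
  · intro h
    exact hb1 ((mem_range_localization_iff S A' B' _).mpr ⟨u₂ * u₃, S.mul_mem hu₂ hu₃, h⟩)
  · refine ⟨u₃ * a₂, ?_⟩
    rw [map_mul, ha₂]
    simp only [map_mul]
    ring
  · obtain ⟨k, rfl⟩ : ∃ k, p = k + 1 := Nat.exists_eq_succ_of_ne_zero hp.ne_zero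
    refine ⟨u₂ ^ (k + 1) * u₃ ^ k * a₃, ?_⟩
    rw [map_mul, ha₃]
    simp only [map_mul, map_pow]
    ring

end Loc

section Loc2

variable {A B : Type u} [CommRing A] [CommRing B] [Algebra A B]
variable (𝔭 : Ideal A) [𝔭.IsPrime] (A' B' : Type u) [CommRing A'] [CommRing B'] [Algebra A A']
  [Algebra A B'] [Algebra A' B'] [Algebra B B'] [IsScalarTower A A' B'] [IsScalarTower A B B']
  [IsLocalization.AtPrime A' 𝔭] [IsLocalization (Algebra.algebraMapSubmonoid B 𝔭.primeCompl) B']

/-- the conductor, as an ideal of `A` -/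
def conductorA (A B : Type*) [CommRing A] [CommRing B] [Algebra A B] : Ideal A :=
  (conductorB A B).comap (algebraMap A B)

theorem not_surjective_localization [Module.Finite A B] (h𝔭 : conductorA A B ≤ 𝔭) :
    ¬ Function.Surjective (algebraMap A' B') := by
  intro hsurj
  have hsat : ∀ b : B, ∃ u ∈ 𝔭.primeCompl, algebraMap A B u * b ∈ (algebraMap A B).range := by
    intro b
    exact (mem_range_localization_iff 𝔭.primeCompl A' B' b).mp (hsurj _)
  obtain ⟨n, g, hg⟩ := Module.Finite.exists_fin (R := A) (M := B)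
  choose u hu hub using hsat
  let U : A := ∏ i, u (g i)
  have hU : U ∈ 𝔭.primeCompl := Submonoid.prod_mem _ fun i _ => hu (g i)
  have hUg : ∀ i, algebraMap A B U * g i ∈ (algebraMap A B).range := by
    intro i
    obtain ⟨c, hc⟩ : u (g i) ∣ U := Finset.dvd_prod_of_mem _ (Finset.mem_univ i)
    rw [hc, map_mul, mul_right_comm]
    exact Subring.mul_mem _ (hub (g i)) ⟨c, rfl⟩
  have hall : ∀ b : B, algebraMap A B U * b ∈ (algebraMap A B).range := by
    intro b
    have hb : b ∈ Submodule.span A (Set.range g) := hg ▸ Submodule.mem_top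
    induction hb using Submodule.span_induction with
    | mem x hx =>
      obtain ⟨i, rfl⟩ := hx
      exact hUg i
    | zero => rw [mul_zero]; exact zero_mem _
    | add x y _ _ hx hy => rw [mul_add]; exact add_mem hx hy
    | smul a x _ hx =>
      rw [Algebra.smul_def, mul_left_comm]
      exact Subring.mul_mem _ ⟨a, rfl⟩ hx
  have : U ∈ conductorA A B := hall
  exact hU (h𝔭 this)

include 𝔭 in
theorem map_conductorA_le :
    (conductorA A B).map (algebraMap A A') ≤ (conductorB A' B').comap (algebraMap A' B') := by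
  rw [Ideal.map_le_iff_le_comap]
  intro i hi
  change ∀ y : B', algebraMap A' B' (algebraMap A A' i) * y ∈ (algebraMap A' B').range
  intro y
  obtain ⟨b, ⟨_, s, hs, rfl⟩, rfl⟩ := IsLocalization.exists_mk'_eq
    (Algebra.algebraMapSubmonoid B 𝔭.primeCompl) y
  obtain ⟨a, ha⟩ := hi b
  refine ⟨IsLocalization.mk' A' a ⟨s, hs⟩, ?_⟩
  rw [IsLocalization.algebraMap_mk' B A' B', ha, ← IsScalarTower.algebraMap_apply,
    IsScalarTower.algebraMap_apply A B B', IsLocalization.mul_mk'_eq_mk'_of_mul]

theorem hI_localization [IsLocalRing A'] (hmin : 𝔭 ∈ (conductorA A B).minimalPrimes) :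
    ∀ m ∈ IsLocalRing.maximalIdeal A', ∃ n : ℕ, algebraMap A' B' (m ^ n) ∈ conductorB A' B' := by
  intro m hm
  have hrad : m ∈ ((conductorA A B).map (algebraMap A A')).radical := by
    rw [Ideal.radical_eq_sInf, Ideal.mem_sInf]
    rintro 𝔮' ⟨hle, h𝔮'⟩
    have h1 : conductorA A B ≤ 𝔮'.comap (algebraMap A A') := Ideal.le_comap_of_map_le hle
    have h2 : 𝔮'.comap (algebraMap A A') ≤ 𝔭 := by
      rw [← IsLocalization.AtPrime.under_maximalIdeal A' 𝔭]
      exact Ideal.comap_mono (IsLocalRing.le_maximalIdeal h𝔮'.ne_top)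
    have h3 : 𝔭 ≤ 𝔮'.comap (algebraMap A A') := hmin.2 ⟨inferInstance, h1⟩ h2
    have h4 : 𝔮'.comap (algebraMap A A') = 𝔭 := le_antisymm h2 h3
    have h5 : 𝔮' = IsLocalRing.maximalIdeal A' := by
      rw [← IsLocalization.map_under 𝔭.primeCompl A' 𝔮']
      change Ideal.map (algebraMap A A') (𝔮'.comap (algebraMap A A')) = _
      rw [h4, IsLocalization.AtPrime.map_eq_maximalIdeal]
    rw [h5]
    exact hm
  obtain ⟨n, hn⟩ := hrad
  exact ⟨n, map_conductorA_le 𝔭 A' B' hn⟩

end Loc2

section Glob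

variable {A B : Type u} [CommRing A] [CommRing B] [Algebra A B]

theorem UH.subalgebra (h : UH A B) (B' : Subalgebra A B) : UH A B' := by
  have hI := h.integral
  refine ⟨Algebra.IsIntegral.of_injective B'.val Subtype.val_injective, ?_, ?_⟩
  · intro a ha
    apply h.ker_nil
    have : algebraMap A B a = ((algebraMap A B' a : B') : B) := rfl
    rw [this, ha]
    rfl
  · exact (universallyInjective_SpecMap_iff A B').mp
      (universallyInjective_subalgebra B' h.universallyInjective)

section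
variable (S : Submonoid A) (A' B' : Type u) [CommRing A'] [CommRing B'] [Algebra A A']
  [Algebra A B'] [Algebra A' B'] [Algebra B B'] [IsScalarTower A A' B'] [IsScalarTower A B B']
  [IsLocalization S A'] [IsLocalization (Algebra.algebraMapSubmonoid B S) B']

include S in
theorem ResTriv.localization (h : ResTriv A B) : ResTriv A' B' := by
  intro 𝔮' _ y
  obtain ⟨b, w, winv, hw, hβ⟩ := exists_numerator (B := B) S A' B' y
  obtain ⟨a, s₀, hs₀, e⟩ := h (𝔮'.comap (algebraMap B B')) b
  have hcomm : ∀ a : A, algebraMap A' B' (algebraMap A A' a) = algebraMap B B' (algebraMap A B a) := by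
    intro a
    rw [← IsScalarTower.algebraMap_apply, ← IsScalarTower.algebraMap_apply]
  refine ⟨algebraMap A A' a * winv, algebraMap A A' s₀, ?_, ?_⟩
  · rw [hcomm]
    exact hs₀
  · have e' : algebraMap B B' (algebraMap A B s₀ * b - algebraMap A B a) ∈ 𝔮' := e
    rw [map_sub, map_mul, hβ, ← hcomm, ← hcomm] at e'
    have key : algebraMap A' B' (algebraMap A A' s₀) * y -
        algebraMap A' B' (algebraMap A A' a * winv) =
        (algebraMap A' B' (algebraMap A A' s₀) * (y * algebraMap A' B' w) -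
          algebraMap A' B' (algebraMap A A' a)) * algebraMap A' B' winv := by
      have hw' : algebraMap A' B' w * algebraMap A' B' winv = 1 := by
        rw [← map_mul, hw, map_one]
      rw [map_mul, sub_mul]
      congr 1
      rw [mul_assoc, mul_assoc, hw', mul_one]
    rw [key]
    exact Ideal.mul_mem_right _ _ e'

end

/-- common setup: a minimal prime over the conductor and the localized data -/
theorem exists_minimal_prime_conductor (hns : ¬ Function.Surjective (algebraMap A B)) :
    ∃ 𝔭 : Ideal A, 𝔭 ∈ (conductorA A B).minimalPrimes := by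
  have hI1 : conductorA A B ≠ ⊤ := by
    intro h
    apply hns
    intro b
    have h1 : (1 : A) ∈ conductorA A B := h ▸ Submodule.mem_top
    have h2 : algebraMap A B 1 * b ∈ (algebraMap A B).range := h1 b
    rwa [map_one, one_mul] at h2
  obtain ⟨M, hM, hIM⟩ := Ideal.exists_le_maximal _ hI1
  have : M.IsPrime := hM.isPrime
  obtain ⟨𝔭, h𝔭, -⟩ := Ideal.exists_minimalPrimes_le hIM
  exact ⟨𝔭, h𝔭⟩

theorem global_finite [Module.Finite A B] (hUH : UH A B)
    (hns : ¬ Function.Surjective (algebraMap A B)) :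
    (∃ b : B, b ∉ (algebraMap A B).range ∧ b ^ 2 ∈ (algebraMap A B).range ∧
        b ^ 3 ∈ (algebraMap A B).range) ∨
    ∃ (p : ℕ) (b : B), p.Prime ∧ b ∉ (algebraMap A B).range ∧
      (p : B) * b ∈ (algebraMap A B).range ∧ b ^ p ∈ (algebraMap A B).range := by
  obtain ⟨𝔭, h𝔭min⟩ := exists_minimal_prime_conductor hns
  have h𝔭 : 𝔭.IsPrime := h𝔭min.1.1
  let A' := Localization.AtPrime 𝔭
  let B' := Localization (Algebra.algebraMapSubmonoid B 𝔭.primeCompl)
  have hUH' : UH A' B' := UH.localization (B := B) 𝔭.primeCompl A' B' hUH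
  have hns' : ¬ Function.Surjective (algebraMap A' B') :=
    not_surjective_localization (B := B) 𝔭 A' B' h𝔭min.1.2
  have hI' := hI_localization (B := B) 𝔭 A' B' h𝔭min
  rcases local_general hUH' hns' hI' with ⟨x, hx1, hx2, hx3⟩ | ⟨p, x, hp, hx1, hx2, hx3⟩
  · exact Or.inl (descend_sq_cube (B := B) 𝔭.primeCompl A' B' x hx1 hx2 hx3)
  · obtain ⟨y, hy⟩ := descend_prime (B := B) 𝔭.primeCompl A' B' p hp x hx1 hx2 hx3
    exact Or.inr ⟨p, y, hp, hy⟩

theorem global_finite_resTriv [Module.Finite A B] (hUH : UH A B) (hRT : ResTriv A B)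
    (hns : ¬ Function.Surjective (algebraMap A B)) :
    ∃ b : B, b ∉ (algebraMap A B).range ∧ b ^ 2 ∈ (algebraMap A B).range ∧
        b ^ 3 ∈ (algebraMap A B).range := by
  obtain ⟨𝔭, h𝔭min⟩ := exists_minimal_prime_conductor hns
  have h𝔭 : 𝔭.IsPrime := h𝔭min.1.1
  let A' := Localization.AtPrime 𝔭
  let B' := Localization (Algebra.algebraMapSubmonoid B 𝔭.primeCompl)
  have hUH' : UH A' B' := UH.localization (B := B) 𝔭.primeCompl A' B' hUH
  have hRT' : ResTriv A' B' := ResTriv.localization (B := B) 𝔭.primeCompl A' B' hRT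
  have hns' : ¬ Function.Surjective (algebraMap A' B') :=
    not_surjective_localization (B := B) 𝔭 A' B' h𝔭min.1.2
  have hI' := hI_localization (B := B) 𝔭 A' B' h𝔭min
  obtain ⟨x, hx1, hx2, hx3⟩ := local_resTriv hUH' hRT' hns' hI'
  exact descend_sq_cube (B := B) 𝔭.primeCompl A' B' x hx1 hx2 hx3

theorem global_reduce (hUH : UH A B) (hns : ¬ Function.Surjective (algebraMap A B)) :
    ∃ B₀ : Subalgebra A B, Module.Finite A B₀ ∧ UH A B₀ ∧
      ¬ Function.Surjective (algebraMap A B₀) := by
  have hb₀ : ∃ b₀ : B, b₀ ∉ (algebraMap A B).range := by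
    by_contra hcon
    push Not at hcon
    exact hns hcon
  obtain ⟨b₀, hb₀⟩ := hb₀
  have hI := hUH.integral
  refine ⟨Algebra.adjoin A {b₀}, .of_fg (hI.isIntegral b₀).fg_adjoin_singleton,
    hUH.subalgebra _, ?_⟩
  intro hsurj
  obtain ⟨a, ha⟩ := hsurj ⟨b₀, Algebra.subset_adjoin rfl⟩
  exact hb₀ ⟨a, congrArg Subtype.val ha⟩

theorem range_sub (B₀ : Subalgebra A B) (b : B₀) :
    (b : B) ∈ (algebraMap A B).range ↔ b ∈ (algebraMap A B₀).range := by
  constructor
  · rintro ⟨a, ha⟩
    exact ⟨a, Subtype.ext ha⟩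
  · rintro ⟨a, ha⟩
    exact ⟨a, congrArg Subtype.val ha⟩

theorem global_general (hUH : UH A B) (hns : ¬ Function.Surjective (algebraMap A B)) :
    (∃ b : B, b ∉ (algebraMap A B).range ∧ b ^ 2 ∈ (algebraMap A B).range ∧
        b ^ 3 ∈ (algebraMap A B).range) ∨
    ∃ (p : ℕ) (b : B), p.Prime ∧ b ∉ (algebraMap A B).range ∧
      (p : B) * b ∈ (algebraMap A B).range ∧ b ^ p ∈ (algebraMap A B).range := by
  obtain ⟨B₀, hfin, hUH₀, hns₀⟩ := global_reduce hUH hns
  rcases global_finite hUH₀ hns₀ with ⟨b, h1, h2, h3⟩ | ⟨p, b, hp, h1, h2, h3⟩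
  · refine Or.inl ⟨b, ?_, ?_, ?_⟩
    · rwa [range_sub]
    · have := (range_sub B₀ (b ^ 2)).mpr h2
      simpa using this
    · have := (range_sub B₀ (b ^ 3)).mpr h3
      simpa using this
  · refine Or.inr ⟨p, b, hp, ?_, ?_, ?_⟩
    · rwa [range_sub]
    · have := (range_sub B₀ ((p : B₀) * b)).mpr h2
      simpa using this
    · have := (range_sub B₀ (b ^ p)).mpr h3
      simpa using this

theorem global_resTriv (hUH : UH A B) (hRT : ResTriv A B)
    (hns : ¬ Function.Surjective (algebraMap A B)) :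
    ∃ b : B, b ∉ (algebraMap A B).range ∧ b ^ 2 ∈ (algebraMap A B).range ∧
        b ^ 3 ∈ (algebraMap A B).range := by
  obtain ⟨B₀, hfin, hUH₀, hns₀⟩ := global_reduce hUH hns
  have := hUH.integral
  obtain ⟨b, h1, h2, h3⟩ := global_finite_resTriv hUH₀ (resTriv_subalgebra B₀ hRT) hns₀
  refine ⟨b, ?_, ?_, ?_⟩
  · rwa [range_sub]
  · have := (range_sub B₀ (b ^ 2)).mpr h2
    simpa using this
  · have := (range_sub B₀ (b ^ 3)).mpr h3
    simpa using this

end Glob

section Tower

variable {A B : Type u} [CommRing A] [CommRing B] [Algebra A B]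

theorem UH.tower_top (h : UH A B) (W : Subalgebra A B) : UH W B := by
  have hI := h.integral
  refine ⟨Algebra.IsIntegral.tower_top (R := A), ?_, ?_⟩
  · intro w hw
    have : w = 0 := Subtype.ext hw
    rw [this]
    exact IsNilpotent.zero
  · intro b
    let f : B →ₐ[A] B ⊗[W] B :=
      (Algebra.TensorProduct.includeLeft : B →ₐ[W] B ⊗[W] B).restrictScalars A
    let g : B →ₐ[A] B ⊗[W] B :=
      (Algebra.TensorProduct.includeRight : B →ₐ[W] B ⊗[W] B).restrictScalars A
    have := (h.radicial b).map (Algebra.TensorProduct.productMap f g)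
    simpa [f, g] using this

theorem ResTriv.tower_top (h : ResTriv A B) (W : Subalgebra A B) : ResTriv W B := by
  intro 𝔮 _ b
  obtain ⟨a, s, hs, e⟩ := h 𝔮 b
  exact ⟨algebraMap A W a, algebraMap A W s, hs, e⟩

end Tower

section Chain

variable {A B : Type u} [CommRing A] [CommRing B] [Algebra A B]
variable (step : Subalgebra A B → B → Prop)

/-- the subalgebra generated by the entries of a list -/
def adjoinList (A : Type u) {B : Type u} [CommRing A] [CommRing B] [Algebra A B] (l : List B) :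
    Subalgebra A B := Algebra.adjoin A {x | x ∈ l}

theorem adjoinList_mono {l₁ l₂ : List B} (h : ∀ x ∈ l₁, x ∈ l₂) :
    adjoinList A l₁ ≤ adjoinList A l₂ := Algebra.adjoin_mono fun x hx => h x hx

/-- chains built by adding one element at a time -/
inductive Chain : List B → Prop
  | nil : Chain []
  | snoc (l : List B) (b : B) : Chain l → step (adjoinList A l) b → Chain (l ++ [b])

variable {step}
variable (hmono : ∀ (C D : Subalgebra A B), C ≤ D → ∀ b, step C b → step D b)
include hmono

theorem Chain.append {l₁ l₂ : List B} (h₁ : Chain step l₁) (h₂ : Chain step l₂) :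
    Chain step (l₁ ++ l₂) := by
  induction h₂ with
  | nil => simpa using h₁
  | snoc l b _ hb ih =>
    rw [← List.append_assoc]
    exact Chain.snoc _ _ ih (hmono _ _ (adjoinList_mono fun x hx => List.mem_append_right _ hx) _ hb)

theorem Chain.finForm {l : List B} (h : Chain step l) :
    ∀ i : Fin l.length,
      step (Algebra.adjoin A {b : B | ∃ j : Fin l.length, j < i ∧ b = l.get j}) (l.get i) := by
  induction h with
  | nil => intro i; exact i.elim0
  | snoc l b _ hb ih =>
    intro i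
    have hlen : (l ++ [b]).length = l.length + 1 := by simp
    by_cases hi : i.val < l.length
    · have hget : (l ++ [b]).get i = l.get ⟨i.val, hi⟩ := by
        simp [List.get_eq_getElem, List.getElem_append_left hi]
      rw [hget]
      refine hmono _ _ (Algebra.adjoin_mono ?_) _ (ih ⟨i.val, hi⟩)
      rintro x ⟨j, hj, rfl⟩
      refine ⟨⟨j.val, by omega⟩, hj, ?_⟩
      simp [List.get_eq_getElem, List.getElem_append_left j.2]
    · have hi' : i.val = l.length := by omega
      have hget : (l ++ [b]).get i = b := by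
        simp [List.get_eq_getElem, hi']
      rw [hget]
      refine hmono _ _ (Algebra.adjoin_mono ?_) _ hb
      intro x hx
      obtain ⟨k, hk, rfl⟩ := List.mem_iff_getElem.mp hx
      refine ⟨⟨k, by omega⟩, by simp [Fin.lt_def, hi']; omega, ?_⟩
      simp [List.get_eq_getElem, List.getElem_append_left hk]

/-- the union of all `adjoinList l` over chains `l` -/
def chainClosure (step : Subalgebra A B → B → Prop)
    (hmono : ∀ (C D : Subalgebra A B), C ≤ D → ∀ b, step C b → step D b) : Subalgebra A B where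
  carrier := {b | ∃ l, Chain step l ∧ b ∈ adjoinList A l}
  mul_mem' := by
    rintro a b ⟨l₁, h₁, ha⟩ ⟨l₂, h₂, hb⟩
    refine ⟨l₁ ++ l₂, h₁.append hmono h₂, ?_⟩
    exact mul_mem (adjoinList_mono (fun x hx => List.mem_append_left _ hx) ha)
      (adjoinList_mono (fun x hx => List.mem_append_right _ hx) hb)
  add_mem' := by
    rintro a b ⟨l₁, h₁, ha⟩ ⟨l₂, h₂, hb⟩
    refine ⟨l₁ ++ l₂, h₁.append hmono h₂, ?_⟩
    exact add_mem (adjoinList_mono (fun x hx => List.mem_append_left _ hx) ha)
      (adjoinList_mono (fun x hx => List.mem_append_right _ hx) hb)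
  algebraMap_mem' := fun a => ⟨[], Chain.nil, Subalgebra.algebraMap_mem _ a⟩

theorem mem_chainClosure {b : B} :
    b ∈ chainClosure step hmono ↔ ∃ l, Chain step l ∧ b ∈ adjoinList A l := Iff.rfl

theorem exists_chain_of_finset (htop : chainClosure step hmono = ⊤) (E : Finset B) :
    ∃ l, Chain step l ∧ (↑E : Set B) ⊆ adjoinList A l := by
  classical
  induction E using Finset.induction_on with
  | empty => exact ⟨[], Chain.nil, by simp⟩
  | insert e E' _ ih =>
    obtain ⟨l', hl', hE'⟩ := ih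
    have he : e ∈ chainClosure step hmono := htop ▸ Algebra.mem_top
    obtain ⟨lₑ, hlₑ, heₑ⟩ := he
    refine ⟨l' ++ lₑ, hl'.append hmono hlₑ, ?_⟩
    intro x hx
    rw [Finset.coe_insert, Set.mem_insert_iff] at hx
    rcases hx with rfl | hx
    · exact adjoinList_mono (fun y hy => List.mem_append_right _ hy) heₑ
    · exact adjoinList_mono (fun y hy => List.mem_append_left _ hy) (hE' hx)

theorem mem_chainClosure_of_chain_step {b : B} {l : List B} (hl : Chain step l)
    (hb : step (adjoinList A l) b) : b ∈ chainClosure step hmono := by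
  refine ⟨l ++ [b], Chain.snoc _ _ hl hb, ?_⟩
  exact Algebra.subset_adjoin (by simp)

omit hmono in
theorem finForm_le (C : Subalgebra A B)
    (hC : ∀ (D : Subalgebra A B) (b : B), D ≤ C → step D b → b ∈ C) (l : List B)
    (hl : ∀ i : Fin l.length,
      step (Algebra.adjoin A {b : B | ∃ j : Fin l.length, j < i ∧ b = l.get j}) (l.get i)) :
    Algebra.adjoin A {b : B | b ∈ l} ≤ C := by
  have key : ∀ n : ℕ, ∀ i : Fin l.length, i.val < n → l.get i ∈ C := by
    intro n
    induction n with
    | zero => intro i hi; omega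
    | succ n ih =>
      intro i hi
      refine hC _ _ (Algebra.adjoin_le ?_) (hl i)
      rintro x ⟨j, hj, rfl⟩
      exact ih j (by rw [Fin.lt_def] at hj; omega)
  apply Algebra.adjoin_le
  intro x hx
  obtain ⟨i, rfl⟩ := List.mem_iff_get.mp hx
  exact key (i.val + 1) i (by omega)

end Chain

end Groth.Agent.Lib.Helper20.UnivHomeo
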