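import Groth.Agent.Lib.Helper20.UnivHomeoPerf
set_option autoImplicit false
universe u
namespace Groth.Agent.Lib.Helper20.UnivHomeo
open AlgebraicGeometry CategoryTheory Limits TensorProduct

section PPower

variable {A B : Type u} [CommRing A] [CommRing B] [Algebra A B]

theorem closed_eq_top_of_W2_eq_top (hW : W2 A B = ⊤) (C : Subalgebra A B)
    (h1 : ∀ b : B, b ^ 2 ∈ C → b ^ 3 ∈ C → b ∈ C)
    (h2 : ∀ (p : ℕ) (b : B), p.Prime → (p : B) * b ∈ C → b ^ p ∈ C → b ∈ C) : C = ⊤ := by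
  rw [eq_top_iff]
  intro b _
  have hb : b ∈ W2 A B := hW ▸ Algebra.mem_top
  obtain ⟨l, hl, hbl⟩ := hb
  refine Chain.adjoinList_le C ?_ hl hbl
  intro l b _ hb hle
  rcases hb with ⟨hb2, hb3⟩ | ⟨p, hp, hb1, hb2⟩
  · exact h1 b (hle hb2) (hle hb3)
  · exact h2 p b hp (hle hb1) (hle hb2)

/-- `(x - y)^(p^n) = p * w` whenever `x^(p^n) = y^(p^n)` and `n ≥ 1`. -/
theorem exists_sub_pow_prime_pow_eq {T : Type*} [CommRing T] (p : ℕ) (hp : p.Prime) (x y : T)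
    (n : ℕ) (hn : 0 < n) (hxy : x ^ p ^ n = y ^ p ^ n) : ∃ w : T, (x - y) ^ p ^ n = (p : T) * w := by
  obtain ⟨r, hr⟩ := exists_add_pow_prime_pow_eq hp x (-y) n
  rw [← sub_eq_add_neg] at hr
  rcases hp.eq_two_or_odd' with rfl | hodd
  · have heven : Even (2 ^ n) := (Nat.even_pow.mpr ⟨even_two, hn.ne'⟩)
    rw [heven.neg_pow, hxy] at hr
    refine ⟨y ^ 2 ^ n + x * -y * r, ?_⟩
    rw [hr]; push_cast; ring
  · have hodd' : Odd (p ^ n) := hodd.pow
    rw [hodd'.neg_pow, hxy] at hr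
    refine ⟨x * -y * r, ?_⟩
    rw [hr]; ring

theorem mem_radicialClosure_of_ppow (p : ℕ) (hp : p.Prime) (b : B) (n : ℕ)
    (h1 : (p ^ n : B) * b ∈ (algebraMap A B).range) (h2 : b ^ p ^ n ∈ (algebraMap A B).range) :
    b ∈ radicialClosure A B := by
  rw [mem_radicialClosure]
  rcases Nat.eq_zero_or_pos n with rfl | hn
  · obtain ⟨a, ha⟩ := h2
    rw [pow_zero, pow_one] at ha
    rw [← ha]
    have : (algebraMap A B a) ⊗ₜ[A] (1 : B) = (1 : B) ⊗ₜ[A] (algebraMap A B a) := by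
      rw [Algebra.algebraMap_eq_smul_one, TensorProduct.smul_tmul]
    rw [this, sub_self]
    exact IsNilpotent.zero
  obtain ⟨a₁, ha₁⟩ := h1
  obtain ⟨a₂, ha₂⟩ := h2
  set δ : B ⊗[A] B := b ⊗ₜ[A] (1 : B) - (1 : B) ⊗ₜ[A] b with hδ
  have e1 : ((p ^ n : ℕ) : B ⊗[A] B) * δ = 0 := by
    have h : ((p ^ n : B) * b) ⊗ₜ[A] (1 : B) = (1 : B) ⊗ₜ[A] ((p ^ n : B) * b) := by
      rw [← ha₁, Algebra.algebraMap_eq_smul_one, TensorProduct.smul_tmul]
    rw [← nsmul_eq_mul, hδ, smul_sub, TensorProduct.smul_tmul', ← TensorProduct.tmul_smul,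
      nsmul_eq_mul, Nat.cast_pow, h, sub_self]
  have e2 : (b ⊗ₜ[A] (1 : B) : B ⊗[A] B) ^ p ^ n = ((1 : B) ⊗ₜ[A] b) ^ p ^ n := by
    rw [Algebra.TensorProduct.tmul_pow, Algebra.TensorProduct.tmul_pow, one_pow, ← ha₂,
      Algebra.algebraMap_eq_smul_one, TensorProduct.smul_tmul]
  obtain ⟨w, hw⟩ := exists_sub_pow_prime_pow_eq p hp _ _ n hn e2
  refine ⟨p ^ n * n + 1, ?_⟩
  rw [pow_succ, pow_mul, hw, mul_pow, mul_comm ((p : B ⊗[A] B) ^ n), mul_assoc, ← Nat.cast_pow,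
    e1, mul_zero]

end PPower

section PPower2

variable {A B : Type u} [CommRing A] [CommRing B] [Algebra A B]

theorem closed_eq_top_of_W2_eq_top' (hW : W2 A B = ⊤) (C : Subalgebra A B)
    (h1 : ∀ b : B, b ^ 2 ∈ C → b ^ 3 ∈ C → b ∈ C)
    (h2 : ∀ (p : ℕ) (b : B), p.Prime → (p : B) * b ∈ C → b ^ p ∈ C → b ∈ C) : C = ⊤ := by
  rw [eq_top_iff]
  intro b _
  have hb : b ∈ W2 A B := hW ▸ Algebra.mem_top
  obtain ⟨l, hl, hbl⟩ := hb
  refine Chain.adjoinList_le C ?_ hl hbl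
  intro l b _ hb hle
  rcases hb with ⟨hb2, hb3⟩ | ⟨p, hp, hb1, hb2⟩
  · exact h1 b (hle hb2) (hle hb3)
  · exact h2 p b hp (hle hb1) (hle hb2)

theorem exists_uniform_ppow [Module.Finite A B] (p : ℕ)
    (hT : ∀ b : B, ∃ n : ℕ, (p ^ n : B) * b ∈ (⊥ : Subalgebra A B)) :
    ∃ M : ℕ, 0 < M ∧ ∀ x : B, (p ^ M : B) * x ∈ (⊥ : Subalgebra A B) := by
  classical
  obtain ⟨G, hG⟩ := (Module.Finite.fg_top : (⊤ : Submodule A B).FG)
  choose n hn using hT
  refine ⟨G.sup n + 1, Nat.succ_pos _, fun x => ?_⟩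
  have hx : x ∈ Submodule.span A (G : Set B) := hG ▸ Submodule.mem_top
  induction hx using Submodule.span_induction with
  | mem g hg =>
    have hle : n g ≤ G.sup n + 1 := (Finset.le_sup hg).trans (Nat.le_succ _)
    obtain ⟨k, hk⟩ := Nat.exists_eq_add_of_le hle
    rw [hk, pow_add, mul_comm ((p : B) ^ n g), mul_assoc]
    exact mul_mem (pow_mem (natCast_mem _ p) k) (hn g)
  | zero => rw [mul_zero]; exact zero_mem _
  | add x y _ _ hx hy => rw [mul_add]; exact add_mem hx hy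
  | smul a x _ hx =>
    rw [mul_smul_comm]
    exact Subalgebra.smul_mem _ hx a

/-- the subalgebra of elements with a `p`-power power in the image of `A`, in the finite case -/
def ppowClosure [Module.Finite A B] (p : ℕ) (hp : p.Prime) (M : ℕ) (hM : 0 < M)
    (hMx : ∀ x : B, (p ^ M : B) * x ∈ (⊥ : Subalgebra A B)) : Subalgebra A B where
  carrier := {x | ∃ n : ℕ, x ^ p ^ n ∈ (⊥ : Subalgebra A B)}
  mul_mem' := by
    rintro x y ⟨n, hx⟩ ⟨m, hy⟩
    refine ⟨n + m, ?_⟩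
    rw [mul_pow, pow_add, pow_mul, mul_comm (p ^ n) (p ^ m), pow_mul]
    exact mul_mem (pow_mem hx _) (pow_mem hy _)
  add_mem' := by
    rintro x y ⟨n, hx⟩ ⟨m, hy⟩
    have hx' : x ^ p ^ (n + m) ∈ (⊥ : Subalgebra A B) := by
      rw [pow_add, pow_mul]; exact pow_mem hx _
    have hy' : y ^ p ^ (n + m) ∈ (⊥ : Subalgebra A B) := by
      rw [pow_add, mul_comm, pow_mul]; exact pow_mem hy _
    obtain ⟨r, hr⟩ := exists_add_pow_prime_pow_eq hp x y (n + m)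
    have hdvd : (p : B) ∣ (x + y) ^ p ^ (n + m) - (x ^ p ^ (n + m) + y ^ p ^ (n + m)) :=
      ⟨x * y * r, by rw [hr]; ring⟩
    obtain ⟨k, hk⟩ := Nat.exists_eq_add_of_le hM
    have h2 := dvd_sub_pow_of_dvd_sub hdvd k
    obtain ⟨c, hc⟩ := h2
    refine ⟨n + m + k, ?_⟩
    rw [pow_add p (n + m) k, pow_mul]
    have : ((x + y) ^ p ^ (n + m)) ^ p ^ k =
        (x ^ p ^ (n + m) + y ^ p ^ (n + m)) ^ p ^ k + (p ^ M : B) * c := by
      rw [hk, add_comm 1 k, ← hc]; ring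
    rw [this]
    exact add_mem (pow_mem (add_mem hx' hy') _) (hMx c)
  algebraMap_mem' := fun a => ⟨0, by simp⟩

theorem exists_ppow_mem_of_finite [Module.Finite A B] (p : ℕ) (hp : p.Prime) (hUH : UH A B)
    (hT : ∀ b : B, ∃ n : ℕ, (p ^ n : B) * b ∈ (⊥ : Subalgebra A B)) (b : B) :
    ∃ n : ℕ, b ^ p ^ n ∈ (⊥ : Subalgebra A B) := by
  obtain ⟨M, hM, hMx⟩ := exists_uniform_ppow p hT
  have htop : ppowClosure p hp M hM hMx = ⊤ := by
    apply closed_eq_top_of_W2_eq_top' hUH.W2_eq_top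
    · rintro b ⟨n, h2⟩ ⟨m, h3⟩
      have h2' : b ^ (2 * p ^ (n + m)) ∈ (⊥ : Subalgebra A B) := by
        rw [pow_mul, pow_add, pow_mul]; exact pow_mem h2 _
      have h3' : b ^ (3 * p ^ (n + m)) ∈ (⊥ : Subalgebra A B) := by
        rw [pow_mul, pow_add, mul_comm (p ^ n), pow_mul]; exact pow_mem h3 _
      refine ⟨n + m + 1, ?_⟩
      rcases Nat.even_or_odd' p with ⟨k, hk | hk⟩
      · have : p ^ (n + m + 1) = (2 * p ^ (n + m)) * k := by rw [pow_succ, hk]; ring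
        rw [this, pow_mul]
        exact pow_mem h2' k
      · have hk1 : 1 ≤ k := by
          have := hp.two_le
          omega
        have : p ^ (n + m + 1) = (2 * p ^ (n + m)) * (k - 1) + 3 * p ^ (n + m) := by
          obtain ⟨k', rfl⟩ := Nat.exists_eq_add_of_le hk1
          rw [pow_succ, hk]
          simp only [Nat.add_sub_cancel_left]
          ring
        rw [this, pow_add, pow_mul]
        exact mul_mem (pow_mem h2' _) h3'
    · rintro ℓ b hℓ ⟨n, h1⟩ ⟨m, h2⟩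
      by_cases hℓp : ℓ = p
      · subst hℓp
        refine ⟨m + 1, ?_⟩
        rw [pow_succ', pow_mul]
        exact h2
      · refine ⟨n, ?_⟩
        rw [mul_pow] at h1
        have h3 := hMx (b ^ p ^ n)
        have hcop : Nat.Coprime (ℓ ^ p ^ n) (p ^ M) :=
          Nat.Coprime.pow _ _ ((Nat.coprime_primes hℓ hp).mpr hℓp)
        have hco : IsCoprime ((ℓ ^ p ^ n : ℕ) : ℤ) ((p ^ M : ℕ) : ℤ) :=
          Nat.isCoprime_iff_coprime.mpr hcop
        obtain ⟨u, v, huv⟩ := hco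
        have h := congrArg (fun z : ℤ => (z : B)) huv
        push_cast at h
        have : b ^ p ^ n = (u : B) * ((ℓ : B) ^ p ^ n * b ^ p ^ n) +
            (v : B) * ((p : B) ^ M * b ^ p ^ n) := by
          calc b ^ p ^ n = 1 * b ^ p ^ n := (one_mul _).symm
            _ = _ := by rw [← h]; ring
        rw [this]
        exact add_mem (mul_mem (intCast_mem _ u) h1) (mul_mem (intCast_mem _ v) h3)
  have hb : b ∈ ppowClosure p hp M hM hMx := htop ▸ Algebra.mem_top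
  exact hb

theorem exists_ppow_mem (p : ℕ) (hp : p.Prime) (hUH : UH A B)
    (hT : ∀ b : B, ∃ n : ℕ, (p ^ n : B) * b ∈ (algebraMap A B).range) (b : B) :
    ∃ n : ℕ, b ^ p ^ n ∈ (algebraMap A B).range := by
  let B₁ : Subalgebra A B := Algebra.adjoin A {b}
  have hUH₁ : UH A B₁ := hUH.subalgebra B₁
  have hfin : Module.Finite A B₁ :=
    Module.Finite.iff_fg.mpr (hUH.integral.isIntegral b).fg_adjoin_singleton
  have hT₁ : ∀ x : B₁, ∃ n : ℕ, (p ^ n : B₁) * x ∈ (⊥ : Subalgebra A B₁) := by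
    intro x
    obtain ⟨n, a, ha⟩ := hT x.1
    refine ⟨n, Algebra.mem_bot.mpr ⟨a, Subtype.ext ?_⟩⟩
    simpa using ha
  obtain ⟨n, hn⟩ := exists_ppow_mem_of_finite p hp hUH₁ hT₁ ⟨b, Algebra.subset_adjoin rfl⟩
  obtain ⟨a, ha⟩ := Algebra.mem_bot.mp hn
  refine ⟨n, a, ?_⟩
  have := congrArg Subtype.val ha
  simpa using this

end PPower2

end Groth.Agent.Lib.Helper20.UnivHomeo
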