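import Groth.Agent.Lib.Helper20.UnivHomeoExt
import Groth.Agent.Lib.Helper20.UnivHomeoPerf
import Groth.Agent.Lib.Helper25.SmoothReduced
import Mathlib.RingTheory.Smooth.IntegralClosure

/-!
# Weak subintegral closure (maximal UH subalgebra) and flat base change

`mem_maxUH_iff`: the maximal subalgebra `C ⊆ B` with `Spec C → Spec A` a universal homeomorphism is
the radicial closure of `A` inside the integral closure of `A` in `B`.
`maxUH_baseChange`: it commutes with flat base changes `A → A'` which preserve reducedness and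
commute with integral closure (localizations, étale maps).
-/
set_option autoImplicit false
universe u
namespace Groth.Agent.Lib.Helper20.UnivHomeo
open AlgebraicGeometry CategoryTheory Limits TensorProduct

section KL2


/-- flat base change of the radicial closure (one inclusion) -/
theorem mem_range_of_isNilpotent_delta {A E A' : Type u} [CommRing A] [CommRing E] [Algebra A E]
    [CommRing A'] [Algebra A A'] [Module.Flat A A']
    (hred : ∀ (T : Type u) [CommRing T] [Algebra A T], IsReduced T → IsReduced (A' ⊗[A] T))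
    (y : A' ⊗[A] E)
    (hy : IsNilpotent (y ⊗ₜ[A'] (1 : A' ⊗[A] E) - (1 : A' ⊗[A] E) ⊗ₜ[A'] y)) :
    y ∈ LinearMap.range (LinearMap.lTensor A' ((radicialClosure A E).val.toLinearMap)) := by
  let T := E ⊗[A] E
  let N : Ideal T := nilradical T
  let Q := T ⧸ N
  let q : T →ₐ[A] Q := Ideal.Quotient.mkₐ A N
  have hQ : IsReduced Q := by
    apply (Ideal.isRadical_iff_quotient_reduced N).mp
    exact Ideal.radical_isRadical _
  let iL : E →ₐ[A] Q := q.comp (Algebra.TensorProduct.includeLeft : E →ₐ[A] T)
  let iR : E →ₐ[A] Q := q.comp (Algebra.TensorProduct.includeRight : E →ₐ[A] T)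
  let lam : E →ₗ[A] Q := iL.toLinearMap - iR.toLinearMap
  have hex : Function.Exact ((radicialClosure A E).val.toLinearMap) lam := by
    intro e
    constructor
    · intro he
      have h1 : q (e ⊗ₜ[A] (1 : E) - (1 : E) ⊗ₜ[A] e) = 0 := by
        rw [map_sub]
        exact he
      have h2 : (e ⊗ₜ[A] (1 : E) - (1 : E) ⊗ₜ[A] e) ∈ N := by
        rwa [Ideal.Quotient.mkₐ_eq_mk, Ideal.Quotient.eq_zero_iff_mem] at h1
      exact ⟨⟨e, (mem_nilradical.mp h2)⟩, rfl⟩
    · rintro ⟨r, rfl⟩
      have h2 : ((r : E) ⊗ₜ[A] (1 : E) - (1 : E) ⊗ₜ[A] (r : E)) ∈ N := mem_nilradical.mpr r.2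
      have h1 : q ((r : E) ⊗ₜ[A] (1 : E) - (1 : E) ⊗ₜ[A] (r : E)) = 0 := by
        rwa [Ideal.Quotient.mkₐ_eq_mk, Ideal.Quotient.eq_zero_iff_mem]
      rw [map_sub] at h1
      exact h1
  have hex' := Module.Flat.lTensor_exact A' hex
  rw [LinearMap.mem_range]
  apply (hex' y).mp
  have hredQ : IsReduced (A' ⊗[A] Q) := hred Q hQ
  let u : A' ⊗[A] E →ₐ[A'] A' ⊗[A] Q := Algebra.TensorProduct.map (AlgHom.id A' A') iL
  let v : A' ⊗[A] E →ₐ[A'] A' ⊗[A] Q := Algebra.TensorProduct.map (AlgHom.id A' A') iR
  let Φ : (A' ⊗[A] E) ⊗[A'] (A' ⊗[A] E) →ₐ[A'] A' ⊗[A] Q :=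
    Algebra.TensorProduct.productMap (R := A') (A := A' ⊗[A] E) (B := A' ⊗[A] E)
      (S := A' ⊗[A] Q) u v
  have h1 := hy.map Φ
  have h2 : Φ (y ⊗ₜ[A'] (1 : A' ⊗[A] E) - (1 : A' ⊗[A] E) ⊗ₜ[A'] y) = u y - v y := by
    simp [Φ]
  rw [h2] at h1
  have h3 : u y - v y = 0 := h1.eq_zero
  have h4 : ∀ z : A' ⊗[A] E, LinearMap.lTensor A' lam z = u z - v z := by
    intro z
    induction z using TensorProduct.induction_on with
    | zero => simp
    | tmul a e => simp [u, v, lam, tmul_sub]
    | add z w hz hw => rw [map_add, map_add, map_add, hz, hw]; ring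
  rw [h4, h3]


end KL2

section Red


variable {A : Type u} [CommRing A]

theorem isReduced_tensor_of_isLocalization {A' : Type u} [CommRing A'] [Algebra A A']
    (M : Submonoid A) [IsLocalization M A'] (T : Type u) [CommRing T] [Algebra A T]
    (hT : IsReduced T) : IsReduced (A' ⊗[A] T) := by
  letI : Algebra T (A' ⊗[A] T) := Algebra.TensorProduct.rightAlgebra
  have := IsLocalization.tensorRight (S := T) A' M
  exact isReduced_localizationPreserves (Algebra.algebraMapSubmonoid T M) (A' ⊗[A] T) hT

theorem isReduced_tensor_of_etale {A' : Type u} [CommRing A'] [Algebra A A']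
    [Algebra.Etale A A'] (T : Type u) [CommRing T] [Algebra A T]
    (hT : IsReduced T) : IsReduced (A' ⊗[A] T) := by
  have : Algebra.Smooth T (T ⊗[A] A') := inferInstance
  have h1 : IsReduced (T ⊗[A] A') := Groth.Agent.Lib.Helper25.isReduced_of_smooth T (T ⊗[A] A')
  exact isReduced_of_injective (Algebra.TensorProduct.comm A A' T)
    (Algebra.TensorProduct.comm A A' T).injective


end Red

section Main


variable {A B : Type u} [CommRing A] [CommRing B] [Algebra A B]

theorem UH.of_algEquiv {B' : Type u} [CommRing B'] [Algebra A B'] (e : B ≃ₐ[A] B')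
    (h : UH A B) : UH A B' where
  integral := by
    have := h.integral
    exact Algebra.IsIntegral.of_surjective e.toAlgHom e.surjective
  ker_nil := by
    intro a ha
    apply h.ker_nil
    apply e.injective
    rw [e.commutes, ha, map_zero]
  radicial := by
    intro b'
    have := isNilpotent_delta_map e.toAlgHom (e.symm b') (h.radicial _)
    simpa using this

theorem UH.baseChange' (A' : Type u)
    [CommRing A'] [Algebra A A'] (h : UH A B) : UH A' (A' ⊗[A] B) := by
  rw [← isUnivHomeo_iff] at h ⊢
  have hpo := CommRingCat.isPushout_tensorProduct A A' B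
  have hpb := isPullback_SpecMap_of_isPushout _ _ _ _ hpo
  exact MorphismProperty.of_isPullback hpb.flip h

/-- Characterisation of the maximal UH subalgebra via the integral closure. -/
theorem mem_maxUH_iff (hinj : Function.Injective (algebraMap A B)) (C : Subalgebra A B)
    (hC : UH A C) (hmax : ∀ D : Subalgebra A B, UH A D → D ≤ C) (b : B) :
    b ∈ C ↔ ∃ hb : IsIntegral A b,
      (⟨b, hb⟩ : integralClosure A B) ∈ radicialClosure A (integralClosure A B) := by
  constructor
  · intro hb
    have hCint : C ≤ integralClosure A B := by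
      intro c hc
      have := hC.integral
      have h1 : IsIntegral A (⟨c, hc⟩ : C) := Algebra.IsIntegral.isIntegral _
      exact h1.map C.val
    refine ⟨hCint hb, ?_⟩
    have := isNilpotent_delta_map (Subalgebra.inclusion hCint) ⟨b, hb⟩ (hC.radicial _)
    exact this
  · rintro ⟨hb, hR⟩
    set Bint := integralClosure A B
    have hinj' : Function.Injective (algebraMap A Bint) := by
      intro x y hxy
      apply hinj
      exact congrArg Subtype.val hxy
    have hR' : UH A (radicialClosure A Bint) := uh_radicialClosure hinj'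
    let g : radicialClosure A Bint →ₐ[A] B := Bint.val.comp (radicialClosure A Bint).val
    have hg : Function.Injective g := by
      intro x y hxy
      exact Subtype.val_injective (Subtype.val_injective hxy)
    have hD : UH A g.range := hR'.of_algEquiv (AlgEquiv.ofInjective g hg)
    exact hmax _ hD ⟨⟨⟨b, hb⟩, hR⟩, rfl⟩


theorem maxUH_baseChange {A' : Type u} [CommRing A'] [Algebra A A'] [Module.Flat A A']
    (hred : ∀ (T : Type u) [CommRing T] [Algebra A T], IsReduced T → IsReduced (A' ⊗[A] T))
    (hic : Function.Surjective (TensorProduct.toIntegralClosure A A' B))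
    (hinj : Function.Injective (algebraMap A B))
    (C : Subalgebra A B) (hC : UH A C) (hmax : ∀ D : Subalgebra A B, UH A D → D ≤ C)
    (C' : Subalgebra A' (A' ⊗[A] B)) (hC' : UH A' C')
    (hmax' : ∀ D : Subalgebra A' (A' ⊗[A] B), UH A' D → D ≤ C') :
    (C' : Set (A' ⊗[A] B)) = Set.range (Algebra.TensorProduct.map (AlgHom.id A A') C.val) := by
  have hinj' : Function.Injective (algebraMap A' (A' ⊗[A] B)) := by
    intro a b hab
    apply Algebra.TensorProduct.includeLeft_injective (S := A') (A := A') hinj
    simpa [Algebra.TensorProduct.algebraMap_apply] using hab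
  ext x
  constructor
  · intro hxC
    obtain ⟨hx, hR⟩ := (mem_maxUH_iff hinj' C' hC' hmax' x).mp hxC
    obtain ⟨y, hy⟩ := hic ⟨x, hx⟩
    let τe : A' ⊗[A] integralClosure A B ≃ₐ[A'] integralClosure A' (A' ⊗[A] B) :=
      AlgEquiv.ofBijective (TensorProduct.toIntegralClosure A A' B)
        ⟨TensorProduct.toIntegralClosure_injective_of_flat, hic⟩
    have hy' : τe.symm ⟨x, hx⟩ = y := by
      rw [AlgEquiv.symm_apply_eq]
      exact hy.symm
    have hnil := isNilpotent_delta_map τe.symm.toAlgHom ⟨x, hx⟩ hR
    change IsNilpotent ((τe.symm ⟨x, hx⟩) ⊗ₜ[A'] 1 - 1 ⊗ₜ[A'] (τe.symm ⟨x, hx⟩)) at hnil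
    rw [hy'] at hnil
    obtain ⟨z, hz⟩ := mem_range_of_isNilpotent_delta hred y hnil
    have hxy : x = Algebra.TensorProduct.map (AlgHom.id A A') (integralClosure A B).val y := by
      have := congrArg Subtype.val hy
      exact this.symm
    rw [hxy, ← hz]
    clear hz hxy hnil hy' hy
    induction z using TensorProduct.induction_on with
    | zero => exact ⟨0, by simp⟩
    | tmul a r =>
      have hr : ((r : integralClosure A B) : B) ∈ C :=
        (mem_maxUH_iff hinj C hC hmax _).mpr ⟨(r : integralClosure A B).2, r.2⟩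
      exact ⟨a ⊗ₜ ⟨_, hr⟩, by simp⟩
    | add z w hz hw =>
      obtain ⟨z', hz'⟩ := hz
      obtain ⟨w', hw'⟩ := hw
      exact ⟨z' + w', by rw [map_add, hz', hw', map_add, map_add]⟩
  · rintro ⟨w, rfl⟩
    let g : A' ⊗[A] C →ₐ[A'] A' ⊗[A] B := Algebra.TensorProduct.map (AlgHom.id A' A') C.val
    have hg : Function.Injective g :=
      Module.Flat.lTensor_preserves_injective_linearMap (M := A') C.val.toLinearMap
        Subtype.val_injective
    have hD : UH A' g.range := (hC.baseChange' A').of_algEquiv (AlgEquiv.ofInjective g hg)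
    exact hmax' _ hD ⟨w, rfl⟩


end Main

end Groth.Agent.Lib.Helper20.UnivHomeo
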