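import Mathlib
import Groth.Agent.Lib.Helper20.SepBlowUp
import Groth.Agent.Lib.Helper82.EffCartierCompl
import Groth.Agent.Lib.Helper41.EffCartierClosure
import Groth.Agent.Lib.Helper41.BlowUpExist
import Groth.Agent.S8857
import Groth.Prelude.Def_W4c6modpairsegaMP

/-!
# Extending a Zariski cover of the interior of a modulus pair after an admissible blow-up (helper20)
-/

set_option autoImplicit false
universe u
open AlgebraicGeometry CategoryTheory Limits

namespace Groth.Agent.Lib.Helper20.ZarCover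


open Groth.Agent.S17391 Groth.Agent.Lib.Helper82 Groth.Agent.Lib.Helper20.SepBlowUp

theorem exists_sum_of_mem_map_sup {X : Scheme.{u}} {ι : Type*} [DecidableEq ι] (G : ι → X.IdealSheafData)
    (W : X.affineOpens) {R : Type*} [CommRing R] (ρ : Γ(X, W.1) →+* R) (t : Finset ι) :
    ∀ x ∈ ((t.sup G).ideal W).map ρ,
      ∃ u : ι → R, (∀ i ∈ t, u i ∈ ((G i).ideal W).map ρ) ∧ ∑ i ∈ t, u i = x := by
  induction t using Finset.induction_on with
  | empty =>
    intro x hx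
    rw [Finset.sup_empty, Scheme.IdealSheafData.ideal_bot] at hx
    simp only [Pi.bot_apply, Ideal.map_bot, Ideal.mem_bot] at hx
    exact ⟨fun _ => 0, by simp, by simp [hx]⟩
  | insert a t ha ih =>
    intro x hx
    rw [Finset.sup_insert, Scheme.IdealSheafData.ideal_sup] at hx
    simp only [Pi.sup_apply, Ideal.map_sup] at hx
    obtain ⟨p, hp, q, hq, rfl⟩ := Submodule.mem_sup.mp hx
    obtain ⟨u, hu, hsum⟩ := ih q hq
    refine ⟨Function.update u a p, ?_, ?_⟩
    · intro i hi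
      rcases Finset.mem_insert.mp hi with rfl | hi'
      · rw [Function.update_self]; exact hp
      · have : i ≠ a := fun h => ha (h ▸ hi')
        rw [Function.update_of_ne this]; exact hu i hi'
    · rw [Finset.sum_insert ha, Function.update_self]
      congr 1
      rw [← hsum]
      apply Finset.sum_congr rfl
      intro i hi
      have : i ≠ a := fun h => ha (h ▸ hi)
      rw [Function.update_of_ne this]

theorem local_sep_n {X X' : Scheme.{u}} (b : X' ⟶ X) {ι : Type*} (t : Finset ι)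
    (G : ι → X.IdealSheafData) (hb1 : BlowUp.IsEffCartierIdeal ((t.sup G).comap b))
    (Sx : ι → Set X) (hS : ∀ i ∈ t, Sx i ⊆ ((G i).support : Set X))
    (hS' : ∀ i ∈ t, Disjoint (Sx i) ((t.sup G).support : Set X)) (x' : X') :
    ∃ i ∈ t, x' ∉ closure ((fun z => b z) ⁻¹' Sx i) := by
  classical
  obtain ⟨W, hW, hxW, -⟩ :=
    exists_isAffineOpen_mem_and_subset (X := X) (U := ⊤) (x := b x') (by simp)
  obtain ⟨⟨D, hD⟩, hx'D, hDW, e, he_nzd, hDe⟩ :=
    exists_affine_isPrincipalNZD_le ((t.sup G).comap b) hb1 (b ⁻¹ᵁ W) x' hxW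
  replace hDW : D ≤ b ⁻¹ᵁ W := hDW
  set ρ := (b.appLE W D hDW).hom with hρ
  have he : ((t.sup G).ideal ⟨W, hW⟩).map ρ = Ideal.span {e} := by
    rw [← hDe, ideal_comap_of_le b (t.sup G) D hD W hW hDW]
  obtain ⟨u, hu, hsum⟩ := exists_sum_of_mem_map_sup G ⟨W, hW⟩ ρ t e
    (by rw [he]; exact Ideal.mem_span_singleton_self e)
  have hle : ∀ i ∈ t, ((G i).ideal ⟨W, hW⟩).map ρ ≤ Ideal.span {e} := by
    intro i hi
    rw [← he]
    apply Ideal.map_mono
    have : G i ≤ t.sup G := Finset.le_sup hi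
    exact this ⟨W, hW⟩
  have hex : ∀ i, ∃ u' : Γ(X', D), i ∈ t → u' * e = u i := by
    intro i
    by_cases hi : i ∈ t
    · obtain ⟨u', hu'⟩ := Ideal.mem_span_singleton'.mp (hle i hi (hu i hi))
      exact ⟨u', fun _ => hu'⟩
    · exact ⟨0, fun h => absurd h hi⟩
  choose u' hu' using hex
  have hsum1 : ∑ i ∈ t, u' i = 1 := by
    have h1 : (∑ i ∈ t, u' i - 1) * e = 0 := by
      rw [sub_mul, Finset.sum_mul, one_mul, Finset.sum_congr rfl (fun i hi => hu' i hi), hsum,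
        sub_self]
    have h2 := (mem_nonZeroDivisors_iff_right.mp he_nzd) _ h1
    exact sub_eq_zero.mp h2
  set 𝔭 := (hD.primeIdealOf ⟨x', hx'D⟩).asIdeal with h𝔭
  have hor : ∃ i ∈ t, u' i ∉ 𝔭 := by
    by_contra hcon
    push Not at hcon
    have h1 : (1 : Γ(X', D)) ∈ 𝔭 := by rw [← hsum1]; exact Ideal.sum_mem _ hcon
    exact (hD.primeIdealOf ⟨x', hx'D⟩).isPrime.ne_top ((Ideal.eq_top_iff_one _).mpr h1)
  obtain ⟨i, hi, hui⟩ := hor
  refine ⟨i, hi, ?_⟩
  intro hx1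
  have hx'N : x' ∈ X'.basicOpen (u' i) := (not_mem_primeIdealOf_iff hD x' hx'D (u' i)).mp hui
  obtain ⟨y', hy'N, hy'S⟩ := mem_closure_iff.mp hx1 _ (X'.basicOpen (u' i)).isOpen hx'N
  have hGF : G i ⊔ t.sup G = t.sup G := sup_eq_right.mpr (Finset.le_sup hi)
  refine local_sep_aux b (G i) (t.sup G) (Sx i) (hS i hi) (by rw [hGF]; exact hS' i hi) hW hD hDW e
    (u' i) ?_ ?_ y' (X'.basicOpen_le (u' i) hy'N) hy'N hy'S
  · have : (G i).ideal ⟨W, hW⟩ ⊔ (t.sup G).ideal ⟨W, hW⟩ = (t.sup G).ideal ⟨W, hW⟩ := by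
      have h := congrArg (fun K : X.IdealSheafData => K.ideal ⟨W, hW⟩) hGF
      simpa [Scheme.IdealSheafData.ideal_sup] using h
    rw [this]; exact he
  · rw [mul_comm, hu' i hi]; exact hu i hi


theorem isEffCartierIdeal_comap_blowUp {S Y : Scheme.{u}} (I F : S.IdealSheafData)
    (hI : BlowUp.IsEffCartierIdeal I)
    (b : Y ⟶ S) (hb : BlowUp.IsBlowUp b F) : BlowUp.IsEffCartierIdeal (I.comap b) := by
  obtain ⟨S₀, hS₀⟩ : ∃ S₀ : S.Opens, S₀ = F.support.compl := ⟨_, rfl⟩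
  have hEq : b ⁻¹ᵁ S₀ = (F.comap b).support.compl := by
    rw [hS₀]
    ext y
    show b y ∉ F.support ↔ y ∉ (F.comap b).support
    rw [Scheme.IdealSheafData.support_comap]
    rfl
  haveI hiso : IsIso (b ∣_ S₀) := by rw [hS₀]; exact isIso_morphismRestrict_of_isBlowUp F b hb
  have hI₀ : BlowUp.IsEffCartierIdeal ((I.comap S₀.ι).comap (b ∣_ S₀)) :=
    isEffCartierIdeal_comap_of_flat _ _ (isEffCartierIdeal_comap_of_flat S₀.ι I hI)
  set I₀ := (I.comap S₀.ι).comap (b ∣_ S₀) with hI₀def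
  haveI : IsSchemeTheoreticallyDominant (Scheme.Opens.ι I₀.support.compl) :=
    isSchemeTheoreticallyDominant_ι_compl_support I₀ hI₀
  haveI : IsAffineHom (Scheme.Opens.ι I₀.support.compl) := isAffineHom_ι_compl_support I₀ hI₀
  haveI : IsSchemeTheoreticallyDominant (b ⁻¹ᵁ S₀).ι := by
    rw [hEq]; exact isSchemeTheoreticallyDominant_ι_compl_support _ hb.1
  haveI : IsAffineHom (b ⁻¹ᵁ S₀).ι := by
    rw [hEq]; exact isAffineHom_ι_compl_support _ hb.1
  refine Groth.Agent.Lib.Helper41.EffCartierClosure.isEffCartierIdeal_comap_of_dominant I hI b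
    (Scheme.Opens.ι I₀.support.compl ≫ (b ⁻¹ᵁ S₀).ι) ?_
  have hsupp : ∀ z : ↥((b ⁻¹ᵁ S₀ : Y.Opens) : Scheme.{u}), z ∉ I₀.support →
      b ((b ⁻¹ᵁ S₀).ι z) ∉ I.support := by
    intro z hz
    rw [hI₀def, ← Scheme.IdealSheafData.comap_comp, morphismRestrict_ι,
      Scheme.IdealSheafData.support_comap] at hz
    exact hz
  intro w
  exact hsupp _ w.2

theorem main {S : Scheme.{u}} [CompactSpace S] [QuasiSeparatedSpace S] (I : S.IdealSheafData)
    (hI : BlowUp.IsEffCartierIdeal I) {ι : Type u} (V : ι → S.Opens)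
    (hVU : ∀ i, V i ≤ ModPair.interior I) (hVqc : ∀ i, IsCompact (V i : Set S))
    (hcov : ModPair.interior I ≤ ⨆ i, V i) :
    ∃ (F : S.IdealSheafData) (Y : Scheme.{u}) (b : Y ⟶ S) (κ : Type u) (W : κ → Y.Opens),
      BlowUp.IsAdmissibleFor (ModPair.interior I) F ∧ BlowUp.IsBlowUp b F ∧
        BlowUp.IsEffCartierIdeal (I.comap b) ∧ (∀ k, IsCompact (W k : Set Y)) ∧
        (⨆ k, W k) = ⊤ ∧ ∀ k, ∃ i, W k ⊓ b ⁻¹ᵁ ModPair.interior I ≤ b ⁻¹ᵁ V i := by
  classical
  obtain ⟨U, hU⟩ : ∃ U : S.Opens, U = ModPair.interior I := ⟨_, rfl⟩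
  rw [← hU] at hVU hcov ⊢
  haveI : IsAffineHom U.ι := by
    rw [hU]; exact isAffineHom_ι_compl_support I hI
  have hUc : IsCompact (U : Set S) := by
    have hcs : CompactSpace ↥(U : Scheme.{u}) := QuasiCompact.compactSpace_of_compactSpace U.ι
    exact isCompact_iff_compactSpace.mpr hcs
  obtain ⟨t, ht⟩ : ∃ t : Finset ι, (U : Set S) ⊆ ⋃ i ∈ t, (V i : Set S) := by
    apply hUc.elim_finite_subcover (fun i => (V i : Set S)) (fun i => (V i).isOpen)
    intro x hx
    have := hcov hx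
    rw [TopologicalSpace.Opens.mem_iSup] at this
    obtain ⟨i, hi⟩ := this
    exact Set.mem_iUnion.mpr ⟨i, hi⟩
  have hG : ∀ i, ∃ G : S.IdealSheafData, BlowUp.IsFiniteTypeIdeal G ∧
      (G.support : Set S) = (V i : Set S)ᶜ := fun i =>
    exists_ft_support_eq _ (V i).isOpen.isClosed_compl (by rw [compl_compl]; exact hVqc i)
  choose G hGft hGsupp using hG
  have hFft : BlowUp.IsFiniteTypeIdeal (t.sup G) :=
    Groth.Agent.S8857.isFT_finset_sup t G (fun i _ => hGft i)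
  have hFsupp : ∀ x ∈ ((t.sup G).support : Set S), ∀ i ∈ t, x ∉ V i := by
    intro x hx i hi hxV
    have hle : G i ≤ t.sup G := Finset.le_sup hi
    have h1 := Scheme.IdealSheafData.support_antitone hle
    have h2 : x ∈ ((G i).support : Set S) := SetLike.coe_subset_coe.mpr h1 hx
    rw [hGsupp i] at h2
    exact h2 hxV
  have hdisj : Disjoint ((t.sup G).support : Set S) (U : Set S) := by
    rw [Set.disjoint_left]
    intro x hx hxU
    obtain ⟨i, hi, hxi⟩ := Set.mem_iUnion₂.mp (ht hxU)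
    exact hFsupp x hx i hi hxi
  obtain ⟨Y, b, hb⟩ := Groth.Agent.Lib.Helper41.exists_isBlowUp S (t.sup G)
  have hsep := local_sep_n b t G hb.1 (fun i => (U : Set S) \ (V i : Set S))
    (fun i _ => by rw [hGsupp i]; exact fun x hx => hx.2)
    (fun i _ => Set.disjoint_of_subset_left Set.diff_subset hdisj.symm)
  refine ⟨t.sup G, Y, b, {W : Y.affineOpens // ∃ i, W.1 ⊓ b ⁻¹ᵁ U ≤ b ⁻¹ᵁ V i},
    fun k => k.1.1, ⟨hFft, hdisj⟩, hb, isEffCartierIdeal_comap_blowUp I (t.sup G) hI b hb,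
    fun k => k.1.2.isCompact, ?_, fun k => k.2⟩
  rw [eq_top_iff]
  intro y' _
  obtain ⟨i, hi, hy'⟩ := hsep y'
  have hopen : IsOpen (closure ((fun z => b z) ⁻¹' ((U : Set S) \ (V i : Set S))))ᶜ :=
    isClosed_closure.isOpen_compl
  obtain ⟨W, hW, hyW, hWsub⟩ :=
    exists_isAffineOpen_mem_and_subset (U := ⟨_, hopen⟩) (x := y') hy'
  refine TopologicalSpace.Opens.mem_iSup.mpr ⟨⟨⟨W, hW⟩, i, ?_⟩, hyW⟩
  rintro z ⟨hzW, hzU⟩
  by_contra hzV
  have : z ∈ closure ((fun z => b z) ⁻¹' ((U : Set S) \ (V i : Set S))) :=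
    subset_closure ⟨hzU, hzV⟩
  exact hWsub hzW this

end Groth.Agent.Lib.Helper20.ZarCover
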